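import Cfsg.Agent.N2.G2.AGen

/-!
# N2, `G₂(q)` and `³D₄(q)`, box [A] (helper52)

`A.exists_fr` : the frame of a model; **`boxA : BoxA`**.
-/

set_option autoImplicit false
set_option linter.unusedSectionVars false

namespace Cfsg.Agent.N2.G2.A

open Subgroup Cfsg CoxeterSystem Cfsg.Agent.H786.FC
open Cfsg.Agent.ChevalleyStructure.CoxeterGeom Cfsg.Agent.Tits.Roots Cfsg.Agent.Nodes.Reps Cfsg.Agent.Nodes.BNOf
  Cfsg.Agent.Nodes.Coroot Cfsg.Agent.DL Cfsg.Agent.SB.Exc Cfsg.Agent.SB.Low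

section Gen

variable {p : ℕ} [Fact p.Prime] {k : Type} [Field k] [CharP k p] [IsAlgClosed k] {Y : Type} [Group Y] {N : Type}
  [Fintype N] [DecidableEq N] {ρ : Y →* GL N k} {F : MulAut Y} {K : Type} [Group K] [Finite K]
  {κ n : ℕ} {D : Datum p ρ F ⊤} {ι : K →* Y} {θ : (D.I → ℤ) →+ (D.I → ℤ)} {dY : Y → ℕ} {E : Subgroup K} {r : ℕ}
  {x y g : K}

theorem card_Nz {B P : Subgroup K} (h : B ≤ P) : Nat.card P = B.relIndex P * Nat.card B := by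
  rw [relIndex, ← index_mul_card (B.subgroupOf P), Nat.card_congr (subgroupOfEquivOfLe h).toEquiv]

namespace Fr

variable (H : Fr κ n D ι θ dY)

include H

theorem d_eq (hx : x ∈ tB D ι) : dY (ι x) = κ + 1 + (Ps D.cs D.h (La D ι x)).ncard := H.dt _ hx

theorem cls (hx : (orderOf x).Coprime p) (h1 : x ≠ 1) : dY (ι x) = κ + 1 ∨ dY (ι x) = κ + 3 ∨
    (dY (ι x) = κ + 7 ∧ (κ = 1 → x ^ 3 = 1)) ∨ (dY (ι x) = 3 * (κ + 1) ∧ x ^ 2 = 1) := by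
  obtain ⟨D, θ, H, hx⟩ := H.frame1 hx
  rw [H.d_eq hx]
  refine (H.ty0.cls _ (H.st hx) (H.proper hx h1)).imp (fun h => by omega) (Or.imp (fun h => by omega)
    (Or.imp (And.imp (fun h => by omega) fun h hk => ?_) (And.imp (fun h => by omega) fun h => ?_)))
  · exact (zpow_natCast x 3).symm.trans (H.zpow_one hx (h hk))
  · exact (zpow_natCast x 2).symm.trans (H.zpow_one hx h)

theorem inv (hp : p ≠ 2) (h1 : orderOf x = 2) : dY (ι x) = 3 * (κ + 1) := by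
  obtain ⟨D, θ, H, hx⟩ := H.frame1 (x := x) (h1 ▸ (Nat.coprime_primes Nat.prime_two Fact.out).2 hp.symm)
  have h2 : ∀ a, a ∉ La D ι x → D.χ a (ι x) = -1 := fun a ha => (sq_eq_one_iff.1 (by
    rw [← TO.X.Cn.χ_pow D a hx, ← map_pow, ← h1, pow_orderOf_eq_one, map_one, D.χ_one])).resolve_left (mt mem_La.2 ha)
  rw [H.d_eq hx, H.ty0.inv _ (H.st hx) (H.proper hx fun e => by rw [e, orderOf_one] at h1; omega) fun a b ha hb =>
    mem_La.2 (by rw [D.χ_add, h2 a ha, h2 b hb, neg_mul_neg, one_mul])]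
  omega

theorem idx (hZ : E ≤ tB D ι) (h0 : D.Sz (im ι E) = ∅) : (tB D ι).relIndex (Nz E) ≤ ww κ :=
  le_trans (relIndex_le (S := {v | ∀ a, θ (D.act v a) = D.act v (θ a)}) (fun _ => mem_NN hZ h0)
    fun _ hg => H.pr_comm (mem_NN hZ h0 hg)) H.ty0.cw

theorem reg (hx : (orderOf x).Coprime p) (h1 : dY (ι x) = κ + 1) :
    (∀ a ∈ centralizer {x}, ∀ b ∈ centralizer {x}, a * b = b * a) ∧ (cn x).Coprime p ∧ Tor κ (p ^ n) (cn x) ∧
      Nat.card (Nz (zpowers x)) ≤ ww κ * cn x ∧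
      ∀ g ∈ Nz (zpowers x), g ^ 6 * x = x * g ^ 6 ∨ (κ = 3 ∧ g ^ 4 * x = x * g ^ 4) := by
  obtain ⟨D, θ, H, hx⟩ := H.frame1 hx
  have h2 : D.Sz {ι x} = ∅ := (Set.ncard_eq_zero (D.finite_roots.subset fun _ h => h.1)).1 (by
    have := H.dt _ hx
    omega)
  have hZ := zpowers_le.2 hx
  have h0 : D.Sz (im ι (zpowers x)) = ∅ := (congrArg (Ps D.cs D.h) (lam_zpowers hx)).trans h2
  have h3 : centralizer {x} = tB D ι := le_antisymm (fun g hg => by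
    have h4 := H.nf.cen hx (H.fix x) (y := ι g) ⟨trivial, H.fix g⟩ (by
      rw [← map_mul, ← map_mul, mem_centralizer_singleton_iff.1 hg])
    rwa [Datum.cen, h2, Datum.S, Nodes.OppDec.Sup_empty, sup_bot_eq] at h4) (cz_zpowers x ▸ H.B_le_Cz hZ)
  rw [cn, h3]
  refine ⟨fun _ ha _ hb => H.comm ha hb, H.cop_B, H.tor_B, ?_, fun g hg => ?_⟩
  · rw [card_Nz ((H.B_le_Cz hZ).trans Cz_le_Nz)]
    exact Nat.mul_le_mul_right _ (H.idx hZ h0)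
  · exact (H.ty0.six _).imp (fun h => H.comm (pow_mem (mem_NN hZ h0 hg) h) hx)
      (And.imp_right fun h => H.comm (pow_mem (mem_NN hZ h0 hg) h) hx)

theorem pm (hx : (orderOf x).Coprime p) (h1 : dY (ι x) ≠ κ + 1) (hy : y ∈ zpowers x) (h2 : IsConj x y) :
    y = x ∨ y = x⁻¹ := by
  obtain ⟨D, θ, H, hx⟩ := H.frame1 hx
  obtain ⟨j, rfl⟩ := mem_zpowers_iff.1 hy
  obtain ⟨c, hc⟩ := isConj_iff.1 h2
  have hy : ι (x ^ j) ∈ D.T := zpow_mem hx j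
  obtain ⟨-, -, m, ⟨v, hm⟩, h3, -⟩ := D.exists_conj_form (s := fun _ : Unit => ι x) (t := fun _ => ι (x ^ j))
    (fun _ => hx) (fun _ => hy) (mem_top (ι c)) fun _ => by rw [← map_mul, ← map_mul, ← hc, inv_mul_cancel_right]
  refine (H.ty0.pm _ v⁻¹ j (H.st_iff hx) (fun a => mem_La.2 ?_) (Set.nonempty_of_ncard_ne_zero fun e => h1 (by
    rw [H.d_eq hx, e]))).imp (fun h => ?_) fun h => ?_
  · have h4 := D.χ_rp hm.inv a hy
    rw [inv_inv, mul_assoc, ← h3 (), inv_mul_cancel_left, map_zpow, χ_zpow a hx] at h4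
    rw [sub_eq_add_neg, D.χ_add, D.χ_neg, D.χ_zsmul, h4, mul_inv_cancel₀ (zpow_ne_zero _ (D.χ_ne_zero _ _))]
  · exact mul_inv_eq_one.1 ((zpow_sub_one x j).symm.trans (H.zpow_one hx h))
  · exact eq_inv_of_mul_eq_one_left ((zpow_add_one x j).symm.trans (H.zpow_one hx h))

theorem neg (hZ : E ≤ tB D ι) : ∃ g, ∀ x ∈ E, g * x * g⁻¹ = x⁻¹ := by
  obtain ⟨w, hw⟩ := H.ty0.neg
  obtain ⟨g, hg⟩ := H.exists_rep (v := w) fun a => by rw [Datum.act, Datum.act, hw, hw, map_neg]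
  refine ⟨g, fun x hx => H.eq_of (conj_mem ⟨w, hg⟩ (hZ hx)) (inv_mem (hZ hx)) fun a => ?_⟩
  have h1 := D.χ_rp hg (-a) (hZ hx)
  rw [Datum.act, hw, neg_neg, D.χ_neg] at h1
  rw [map_mul, map_mul, map_inv, map_inv, h1, D.χ_inv a (hZ hx)]

theorem tor (hE : EA r E) (hr : r ≠ p) (h : Nat.card E = r ^ 2) : ∃ B : Subgroup K, E ≤ B ∧ B ≤ Cz E ∧
    (∀ a ∈ B, ∀ b ∈ B, a * b = b * a) ∧ (Nat.card B).Coprime p ∧ Tor κ (p ^ n) (Nat.card B) ∧ Nz E ≤ Nz B ∧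
      B.relIndex (Nz E) ∣ 192 ∧ B.relIndex (Nz E) ≤ ww κ ∧ (r ≠ 2 → Cz E ≤ B) ∧ ∀ g ∈ Cz E, g ^ 4 ∈ B := by
  obtain ⟨D, θ, H, hZ⟩ := H.frame2 hE hr h
  have h0 := H.empty hE h hZ
  have h1 : r ≠ 2 → Cz E ≤ tB D ι := fun h2 _ hg =>
    H.mem_T (im_sub hZ) H.ty0.pp (H.sat (im_sub hZ) hE Nat.prime_two h2) h0 hg
  refine ⟨tB D ι, hZ, H.B_le_Cz hZ, fun _ ha _ hb => H.comm ha hb, H.cop_B, H.tor_B,
    fun g hg => mem_Nz.2 fun _ => conj_mem (mem_NN hZ h0 hg), ?_, H.idx hZ h0, h1, fun g hg => ?_⟩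
  · rw [relIndex_eq fun _ => mem_NN hZ h0]
    exact (card_subgroup_dvd_card _).trans H.ty0.dvd
  by_cases h2 : r = 2
  swap
  · exact (tB D ι).pow_mem (h1 h2 hg) 4
  subst h2
  have h3 := mem_NN hZ h0 (Cz_le_Nz hg)
  refine pow_mem h3 ((H.ty0.four _).resolve_right fun ⟨a, ha⟩ => Set.eq_empty_iff_forall_notMem.1 h0 _ ⟨ha, ?_⟩)
  have h4 := add_mem (add_mem (H.sub_mem_lam hZ h3 hg (D.act (D.pr (ι g)) a)) (H.sub_mem_lam hZ h3 hg a))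
    (H.smul_mem (im_sub hZ) hE a)
  rwa [sub_add_sub_cancel, Nat.cast_ofNat, two_smul, ← add_assoc, sub_add_cancel] at h4

theorem nV (hk : κ = 1) (hp : p ≠ 2) (hE : EA 2 E) (h : Nat.card E = 4) : ∃ (m : ℕ) (B : Subgroup K),
    (m = p ^ n - 1 ∨ m = p ^ n + 1) ∧ E ≤ B ∧ B ≤ Cz E ∧ (∀ a ∈ B, ∀ b ∈ B, a * b = b * a) ∧ Nat.card B = m ^ 2 ∧
      Nat.card (Cz E) ≤ 2 * m ^ 2 ∧ Nat.card (Nz E) = 12 * m ^ 2 := by
  obtain ⟨D, θ, H, hZ⟩ := H.frame2 hE hp.symm h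
  have h0 := H.empty hE h hZ
  have h2 := H.smul_mem (im_sub hZ) hE
  have h1 : ∀ v : D.W, (∀ a, D.act v a + a ∈ D.Lam (im ι E)) → (∀ a, D.act v a = a) ∨ ∀ a, D.act v a = -a := fun v hv =>
    (H.ty0.pm1 hk v).imp_right fun h3 => h3.resolve_right fun ⟨a, ha⟩ => Set.eq_empty_iff_forall_notMem.1 h0 _ ⟨ha, hv a⟩
  obtain ⟨w, hw⟩ := H.ty0.inn hk
  obtain ⟨ε, hε, hθ⟩ : ∃ ε : ℤ, (ε = 1 ∨ ε = -1) ∧ ∀ a, θ a = ε • a := by
    obtain ⟨s, hs⟩ : Odd (p ^ n) := ((Fact.out : p.Prime).odd_of_ne_two hp).pow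
    rcases h1 w fun a => by
      have h3 := add_mem (H.theta (im_sub hZ) a) (h2 ((s + 1 : ℤ) • a))
      rw [hs, hw] at h3
      convert h3 using 1
      push_cast
      module
    with e | e
    exacts [⟨1, Or.inl rfl, fun a => by rw [hw, one_smul]; exact e a⟩, ⟨-1, Or.inr rfl, fun a => by
      rw [hw, neg_one_smul]; exact e a⟩]
  have h3 : D.ψ.toIntLinearMap - 1 = (ε * (p ^ n : ℕ) - 1 : ℤ) • (1 : (D.I → ℤ) →ₗ[ℤ] (D.I → ℤ)) := LinearMap.ext fun a => by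
    have h4 := H.psi (ε • a)
    rw [hθ, smul_smul, show ε * ε = 1 by rcases hε with rfl | rfl <;> rfl, one_smul] at h4
    show D.ψ a - a = (ε * (p ^ n : ℕ) - 1 : ℤ) • a
    rw [h4]
    module
  have h4 : Nat.card (tB D ι) = (ε * (p ^ n : ℕ) - 1 : ℤ).natAbs ^ 2 := by
    rw [H.card_B, h3, LinearMap.det_smul, map_one, mul_one, Module.finrank_pi, H.ty0.cardI, hk, Int.natAbs_pow]
  have hC := H.B_le_Cz hZ
  refine ⟨_, tB D ι, ?_, hZ, hC, fun _ ha _ hb => H.comm ha hb, h4, ?_, ?_⟩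
  · have := H.two_le
    rcases hε with rfl | rfl <;> omega
  · obtain ⟨u, hu⟩ := H.ty0.neg
    rw [card_Nz hC, h4]
    refine Nat.mul_le_mul_right _ ((relIndex_le (S := {1, u}) (fun _ hg => mem_NN hZ h0 (Cz_le_Nz hg)) fun g hg => ?_).trans
      ((Set.ncard_insert_le _ _).trans (by rw [Set.ncard_singleton])))
    refine (h1 _ fun a => ?_).imp (fun e => D.act_eq_one fun _ => e _)
      fun e => rep_injective D.cs D.h (LinearMap.ext fun a => (e a).trans (hu a).symm)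
    have h5 := add_mem (H.sub_mem_lam hZ (mem_NN hZ h0 (Cz_le_Nz hg)) hg a) (h2 a)
    rwa [Nat.cast_ofNat, two_smul, ← add_assoc, sub_add_cancel] at h5
  let O : Subgroup K := ⟨⟨⟨{b | b ∈ tB D ι ∧ b ^ 2 = 1}, fun ha hb => ⟨mul_mem ha.1 hb.1, by
    rw [Commute.mul_pow (H.comm ha.1 hb.1), ha.2, hb.2, mul_one]⟩⟩, one_mem _, one_pow 2⟩,
    fun ha => ⟨inv_mem ha.1, by rw [inv_pow, ha.2, inv_one]⟩⟩
  have h5 : E = O := eq_of_le_of_card_ge (fun x hx => ⟨hZ hx, hE.pow x hx⟩)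
    (h ▸ H.card_two (E := O) (fun _ h => h.1) two_ne_zero fun _ h => h.2)
  rw [card_Nz (hC.trans Cz_le_Nz), h4, relIndex_eq fun _ => mem_NN hZ h0, MonoidHom.range_eq_top.2 fun v => ?_, card_top,
    H.ty0.w12 hk]
  obtain ⟨g, hg⟩ := H.exists_rep (v := v) fun a => by rw [hθ, hθ, Datum.act, Datum.act, map_smul]
  refine ⟨⟨g, mem_Nz.2 fun x hx => ?_⟩, Datum.Rp.pr_eq hg⟩
  rw [h5] at hx ⊢
  exact ⟨conj_mem ⟨v, hg⟩ hx.1, by rw [conj_pow, hx.2, mul_one, mul_inv_cancel]⟩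

theorem g33 (hk : κ = 1) (hp : p ≠ 3) (hE : EA 3 E) (h : Nat.card E = 9) :
    ∃ e ∈ E, dY (ι e) = 8 ∧ ∀ x ∈ E, dY (ι x) = 8 → x ∈ zpowers e := by
  obtain ⟨D, θ, H, hZ⟩ := H.frame2 hE hp.symm h
  obtain ⟨a, b, h1⟩ := H.ty0.g33 hk
  have h2 : ∀ x ∈ E, x ≠ 1 → (dY (ι x) = 8 ↔ b ∈ La D ι x) := fun x hx h3 => by
    rw [← (h1 _ (H.proper (hZ hx) h3)).2 fun z => lam_le hx (H.smul_mem (im_sub hZ) hE z), H.d_eq (hZ hx)]
    omega
  let P : Subgroup K := ⟨⟨⟨{x | x ∈ E ∧ D.χ b (ι x) = 1}, fun hx hy => ⟨mul_mem hx.1 hy.1, by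
    rw [map_mul, D.χ_mul b (hZ hx.1) (hZ hy.1), hx.2, hy.2, mul_one]⟩⟩, one_mem _, by rw [map_one, D.χ_one]⟩,
    fun hx => ⟨inv_mem hx.1, by rw [map_inv, D.χ_inv b (hZ hx.1), hx.2, inv_one]⟩⟩
  have h3 := H.card_le (E := P) (fun _ h => hZ h.1) three_ne_zero (fun x h => hE.pow x h.1) (fun _ : Unit => a)
    fun x hx h4 => by_contra fun h5 => (h1 _ (H.proper (hZ hx.1) h5)).1 (h4 ()) (mem_La.2 hx.2)
  obtain ⟨e, he, h4, h5⟩ : ∃ e ∈ E, b ∈ La D ι e ∧ e ≠ 1 := by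
    by_contra h4
    push Not at h4
    have := H.card_le hZ three_ne_zero hE.pow (fun _ : Unit => b) fun x hx h5 => h4 x hx (h5 ())
    rw [h, Fintype.card_unit] at this
    omega
  have h6 : zpowers e = P := eq_of_le_of_card_ge (zpowers_le.2 ⟨he, mem_La.1 h4⟩) (by
    have := Fact.mk Nat.prime_three
    rwa [Nat.card_zpowers, orderOf_eq_prime (hE.pow e he) h5])
  refine ⟨e, he, (h2 e he h5).2 h4, fun x hx h7 => ?_⟩
  by_cases h8 : x = 1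
  · exact h8 ▸ one_mem _
  · exact h6 ▸ ⟨hx, mem_La.1 ((h2 x hx h8).1 h7)⟩

theorem elA (hd : ∀ y (m : ℕ), dY y ≤ dY (y ^ m))
    (ht : ∀ r (E : Subgroup K), EA r E → r ≠ 2 → r ≠ p → ∃ g : Y, ∀ x ∈ E, g * ι x * g⁻¹ ∈ D.T) :
    ElA p κ (p ^ n) K fun x => dY (ι x) := by
  refine ⟨fun x g => by rw [map_mul, map_mul, map_inv, H.dc], fun x m => map_pow ι x m ▸ hd _ m, fun _ => H.cls,
    fun hp _ => H.inv hp, fun _ => H.reg, fun _ h1 h2 _ => H.pm h1 h2, fun r h1 h2 h3 E h4 h5 => ?_,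
    fun r E h1 h2 h3 => ?_, fun _ _ => H.tor, fun h1 h2 _ => H.nV h1 h2, fun h1 h2 _ => H.g33 h1 h2⟩
  · by_cases h6 : E = ⊥
    · rw [h6, card_bot]
      exact Nat.one_le_pow _ _ h1.pos
    obtain ⟨D, θ, H, hZ⟩ := H.frame (ht r E ⟨h1, h6, h5, fun x hx y hy =>
      congrArg Subtype.val (h4.is_comm.comm ⟨x, hx⟩ ⟨y, hy⟩)⟩ h2 h3)
    exact H.card_two hZ h1.ne_zero h5
  · obtain ⟨D, θ, H, hZ⟩ := H.frame (ht r E h1 h2 h3)
    exact H.neg hZ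

end Fr

end Gen

section Model

open Cfsg.Lie Cfsg.Lie.ChevalleyDatum Cfsg.Agent.Nodes.RGDChev Cfsg.Agent.H469.Exc Cfsg.Agent.H316.U6
  Cfsg.Agent.KFacts.RgdChevCoord Cfsg.Agent.ChevalleyStructure.CoxeterGeomTypes Matrix

variable {C : ChevalleyDatum} {l : ℕ} {M : CoxeterMatrix (Fin l)} {hp : IsType C l M} {p q : ℕ} [Fact p.Prime]
  {K : Type} [Group K] [Finite K]

theorem dd_pow (y : DS.Ex.YY C p) (m : ℕ) : DS.Nt.dd p y ≤ DS.Nt.dd p (y ^ m) := Submodule.finrank_mono fun v hv => by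
  rw [Module.End.mem_eigenspace_iff, one_smul] at hv ⊢
  induction m with
  | zero => rw [pow_zero, map_one, Module.End.one_apply]
  | succ m ih => rw [pow_succ, map_mul, Module.End.mul_apply, hv, ih]

theorem fr_of (m : MData hp p q K) (h : m.dd = 1) {κ : ℕ} (hl : l = κ + 1)
    (ty : ∀ w, Ty M.toCoxeterSystem hp.isCartan κ (tw M.toCoxeterSystem hp.isCartan w m.g.toAddMonoidHom))
    (nf : NF (dat m)) : Fr κ m.e (dat m) m.ι m.g.toAddMonoidHom (DS.Nt.dd p) := by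
  refine ⟨md m h, ty, nf, DS.Nt.dd_conj, fun t ht => ?_⟩
  rw [← CI.ncard_Ps (hp := hp) ht, ← hl]
  refine congrArg (fun s : Set (Fin l → ℤ) => l + s.ncard) (Set.ext fun a => ?_)
  refine (DS.Nt.mem_Ps (hp := hp) (a := a) (Set.singleton_subset_iff.2 ht)).trans
    (and_congr_right fun _ => forall_congr' fun z => forall_congr' fun hz => ?_)
  obtain ⟨c, rfl⟩ := (DL.Ex.mem_TT_iff hp t).1 ht
  rw [hz, DL.Ex.cX_tau hp c a, show (dat m).χ a (DL.Ex.tau hp c) = _ from (dat m).χ_τ a c]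
  rfl

theorem mem_Q (m : MData hp p q K) (v : Fin l → ℤ) : v ∈ Q (dat m) ↔ ∃ β : Fin l → ℤ, ∀ j, v j = ∑ i, β i * cartanOf C l i j :=
  exists_congr fun _ => funext_iff.trans (forall_congr' fun j => (congrArg (v j = ·) (Finset.sum_apply j _ _)).to_iff)

theorem nfG (m : MData hpG2 p q K) : NF (dat m) := fun (μ : Fin 2 → ℤ) _ =>
  (mem_Q m μ).2 ⟨![2 * μ 0 + μ 1, 3 * μ 0 + 2 * μ 1], fun j => by
    fin_cases j <;> simp [Fin.sum_univ_two, Tab.G.cartan_eq] <;> ring⟩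

theorem mem_QD (m : MData Nodes.RGDTwD4.hp p q K) (v : Fin 4 → ℤ) : v ∈ Q (dat m) ↔ 2 ∣ v 0 - v 2 ∧ 2 ∣ v 0 - v 3 := by
  refine (mem_Q m v).trans ⟨fun ⟨β, h⟩ => ?_, fun ⟨⟨a, ha⟩, b, hb⟩ => ⟨![2 * v 0 + v 1 - a - b, 3 * v 0 + 2 * v 1 - 2 * a - 2 * b,
    2 * v 0 + v 1 - 2 * a - b, 2 * v 0 + v 1 - a - 2 * b], fun j => ?_⟩⟩
  · simp [h, Fin.sum_univ_four, Tab.D.cartan_eq]
    omega
  · fin_cases j <;> simp [Fin.sum_univ_four, Tab.D.cartan_eq] <;> omega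

theorem nfD (m : MData Nodes.RGDTwD4.hp p q K) (hg : m.g = H720.TwFr.permE H720.TwFr.rho4) : NF (dat m) := by
  intro (μ : Fin 4 → ℤ) h
  have h2 := (mem_QD m fun i => (p : ℤ) ^ m.e * μ (![3, 1, 0, 2] i) - μ i).1 (by
    refine Eq.mpr (congrArg (· ∈ Q (dat m)) (funext fun i : Fin 4 => ?_)) h
    show _ = ∑ j : Fin 4, (p : ℤ) ^ m.e * m.g.symm (sr i) j * μ j - μ i
    rw [hg]
    show _ = ∑ j : Fin 4, (p : ℤ) ^ m.e * sr i (![2, 1, 3, 0] j) * μ j - μ i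
    fin_cases i <;> simp [Fin.sum_univ_four, sr])
  refine (mem_QD m μ).2 ?_
  generalize (p : ℤ) ^ m.e = s at h2
  obtain ⟨t, rfl | rfl⟩ := Int.even_or_odd' s <;> simp [add_mul, mul_assoc] at h2 <;> omega

end Model

/-- the frame of a model -/
theorem exists_fr {p : ℕ} [Fact p.Prime] {κ q : ℕ} {T : Type} [Group T] [Finite T] {d : T → ℕ} (h : Mod p κ q T d) :
    ∃ (k : Type) (_ : Field k) (_ : CharP k p) (_ : IsAlgClosed k) (Y : Type) (_ : Group Y) (N : Type) (_ : Fintype N)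
      (_ : DecidableEq N) (ρ : Y →* GL N k) (F : MulAut Y) (D : Datum p ρ F ⊤) (n : ℕ) (ι : T →* Y)
      (θ : (D.I → ℤ) →+ (D.I → ℤ)) (dY : Y → ℕ), Fr κ n D ι θ dY ∧ p ^ n = q ∧ d = (fun x => dY (ι x)) ∧
      (∀ y (m : ℕ), dY y ≤ dY (y ^ m)) ∧
      ∀ r (E : Subgroup T), EA r E → r ≠ 2 → r ≠ p → ∃ g : Y, ∀ x ∈ E, g * ι x * g⁻¹ ∈ D.T := by
  rcases h with ⟨rfl, -, ⟨m, h1, h2, h3⟩, -⟩ | ⟨rfl, -, ⟨m, h1, h2, h3⟩, -⟩
  · exact ⟨_, _, _, inferInstance, _, _, _, _, _, _, _, _, _, _, _, _, fr_of m h1 rfl (h2 ▸ tyG) (nfG m), m.hq, funext h3,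
      dd_pow, fun _ _ => toral m (Or.inl rfl)⟩
  · exact ⟨_, _, _, inferInstance, _, _, _, _, _, _, _, _, _, _, _, _, fr_of m h1 rfl (h2 ▸ tyD) (nfD m h2), m.hq, funext h3,
      dd_pow, fun _ _ => toral m (Or.inr rfl)⟩

end Cfsg.Agent.N2.G2.A

namespace Cfsg.Agent.N2.G2

/-- **[A]** -/
theorem boxA : BoxA := fun _ _ _ _ _ _ _ _ _ h => by
  obtain ⟨_, _, _, _, _, _, _, _, _, _, _, _, _, _, _, _, H, rfl, rfl, h1, h2⟩ := A.exists_fr h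
  exact H.elA h1 h2

end Cfsg.Agent.N2.G2
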