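import Cfsg.Agent.SB.Low.TabD1

/-!
# N2, box B: the finite checks for `D₄` with the triality (helper10)
-/

set_option autoImplicit false

namespace Cfsg.Agent.N2.G2.B.D

open Cfsg.Agent.SB.Low.Tab.D

/-- the coefficients of the characteristic polynomial -/
def cf (u : M4) : T4 := (e1 u, e2 u, e3 u, e4 u)

/-- the product of two matrices -/
def cp (t x : M4) : M4 := (ap x t.1, ap x t.2.1, ap x t.2.2.1, ap x t.2.2.2)

/-- the Weyl group of type `A₁` -/
def L1 (a : T4) (x : M4) : List M4 := [x, rm a x]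

/-- the Weyl group of type `A₁ ^ 3` -/
def L3 (a b c : T4) (x : M4) : List M4 :=
  [x, rm a x, rm b x, rm c x, rm a (rm b x), rm a (rm c x), rm b (rm c x), rm a (rm b (rm c x))]

/-- the Weyl group of type `A₂` -/
def L2 (a b : T4) (x : M4) : List M4 := [x, rm a x, rm b x, rm a (rm b x), rm b (rm a x), rm a (rm b (rm a x))]

/-- the positive roots -/
def RP : List T4 := [r12, r13, r14, r15, r16, r17, r18, r19, r20, r21, r22, r23]

/-- no repetitions -/
def nd {α : Type} [BEq α] : List α → Bool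
  | [] => true
  | x :: l => !l.contains x && nd l

example := @nd.eq_def

theorem nodup_of {α : Type} [BEq α] [LawfulBEq α] : ∀ {l : List α}, nd l = true → l.Nodup
  | [], _ => List.nodup_nil
  | x :: l, h => by
    rw [nd, Bool.and_eq_true, Bool.not_eq_true', ← Bool.not_eq_true, List.contains_iff_mem] at h
    exact List.nodup_cons.2 ⟨h.1, nodup_of h.2⟩

theorem chk0 : (RL.all fun a => ip a a == 2 && (!pos a || RP.contains a)) = true := by decide +kernel

theorem chk1 : (RP.all fun a => nd (L1 a id4) && WL.all fun m => ap (tm m) a != a || [(1 : ℤ), -1].any fun ε =>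
    (L1 a (tm m)).map cf == [(1, 0, ε, ε), (-1, 0, ε, -ε)] && [r18, r14, r13, r12].all fun y =>
      ap (tm m) (ap (tm m) (ap (tm m) y)) - ε • y == ((1 - ε) / 2 * ip y a) • a) = true := by decide +kernel

theorem chk2 : (RP.all fun a => RP.all fun b => ip b a != -1 || (nd (L2 a b id4) && WL.all fun m =>
    !((ap (tm m) a == a && ap (tm m) b == b) || (ap (tm m) a == b && ap (tm m) b == a)) || [(1 : ℤ), -1].any fun η =>
      ((L2 a b (tm m)).map cf).isPerm
        [(η, 0, η, 1), (-η, 0, η, -1), (-η, 0, η, -1), (-η, 0, η, -1), (-2 * η, 3, -2 * η, 1), (-2 * η, 3, -2 * η, 1)] &&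
      RP.any fun x => dt (cr a b x) (ap (tm m) x) * dt (cr a b x) (ap (tm m) x) == 1 &&
        dt (cr a b (ap (tm m) (ap (tm m) x))) (ap (tm m) x) == -dt (cr a b x) (ap (tm m) x) &&
        dt (cr a b x) (ap (tm m) (ap (tm m) x)) == -η * dt (cr a b x) (ap (tm m) x))) = true := by decide +kernel

theorem chk3 : (RP.all fun a => RP.all fun b => ip b a != 0 || RP.all fun c => ip c a != 0 || ip c b != 0 ||
    (nd (L3 a b c id4) && nd [a, b, c, -a, -b, -c] && WL.all fun m => ap (tm m) a != b || ap (tm m) b != c || ap (tm m) c != a ||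
      [(1 : ℤ), -1].any fun ε => (L3 a b c (tm m)).map cf == [(ε, 0, 1, ε), (ε, 0, -1, -ε), (ε, 0, -1, -ε), (ε, 0, -1, -ε),
        (ε, 0, 1, ε), (ε, 0, 1, ε), (ε, 0, 1, ε), (ε, 0, -1, -ε)] &&
      RP.any fun x => dt (cr a b c) x * dt (cr a b c) x == 1 && dt (cr a b c) (ap (tm m) x) == ε * dt (cr a b c) x)) = true := by
  decide +kernel

end Cfsg.Agent.N2.G2.B.D
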