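import Cfsg.Agent.N2.G2.BA
import Cfsg.Agent.N2.G2.BT
import Cfsg.Agent.SB.Low.TabD

/-!
# N2, box B: the lattice facts for `D₄` with the triality (helper10)
-/

set_option autoImplicit false
set_option linter.unusedSectionVars false

namespace Cfsg.Agent.N2.G2.B.D

open Subgroup Cfsg Cfsg.Lie CoxeterSystem
open Cfsg.Agent.ChevalleyStructure.CoxeterGeom Cfsg.Agent.ChevalleyStructure.CoxeterGeomTypes Cfsg.Agent.Tits.Roots
  Cfsg.Agent.Nodes.Reps Cfsg.Agent.Nodes.Coroot Cfsg.Agent.Nodes.RGDTwD4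
  Cfsg.Agent.SB.Low Cfsg.Agent.SB.Low.Tab Cfsg.Agent.SB.Low.Tab.D

section alg

variable {a b c : T4}

theorem rf_def (c x : T4) : rf c x = x - ip x c • c := rfl

theorem rm_def (c : T4) (m : M4) : rm c m = (rf c m.1, rf c m.2.1, rf c m.2.2.1, rf c m.2.2.2) := rfl

theorem ip_sub (x c d : T4) (k : ℤ) : ip (x - k • c) d = ip x d - k * ip c d := by
  simp only [ip, dt, Prod.fst_sub, Prod.snd_sub, Prod.smul_fst, Prod.smul_snd, smul_eq_mul]
  ring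

theorem ip_add (x c d : T4) : ip x (c + d) = ip x c + ip x d := by
  simp only [ip, dt, Prod.fst_add, Prod.snd_add]
  ring

theorem ip_neg (x c : T4) : ip x (-c) = -ip x c := by
  simp only [ip, dt, Prod.fst_neg, Prod.snd_neg]
  ring

theorem ip_comm (x c : T4) : ip x c = ip c x := by
  simp only [ip, dt]
  ring

theorem rm_rm (h : ip a a = 2) (m : M4) : rm a (rm a m) = m := by
  have e : ∀ x, rf a (rf a x) = x := fun x => by
    simp only [rf_def, ip_sub, h]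
    module
  simp only [rm_def, e]

theorem rm_neg (c : T4) (m : M4) : rm (-c) m = rm c m := by
  simp only [rm_def, rf_def, ip_neg, neg_smul, smul_neg, neg_neg]

theorem rm_comm (h : ip b a = 0) (m : M4) : rm b (rm a m) = rm a (rm b m) := by
  have e : ∀ x, rf b (rf a x) = rf a (rf b x) := fun x => by
    simp only [rf_def, ip_sub, h, ip_comm a b]
    module
  simp only [rm_def, e]

theorem rm_braid (ha : ip a a = 2) (hb : ip b b = 2) (h : ip b a = -1) (m : M4) :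
    rm b (rm a (rm b m)) = rm a (rm b (rm a m)) := by
  have e : ∀ x, rf b (rf a (rf b x)) = rf a (rf b (rf a x)) := fun x => by
    simp only [rf_def, ip_sub, h, ip_comm a b, ha, hb]
    module
  simp only [rm_def, e]

theorem rm_add (ha : ip a a = 2) (h : ip b a = -1) (m : M4) : rm (a + b) m = rm a (rm b (rm a m)) := by
  have e : ∀ x, rf (a + b) x = rf a (rf b (rf a x)) := fun x => by
    simp only [rf_def, ip_sub, ip_add, h, ip_comm a b, ha]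
    module
  simp only [rm_def, e]

theorem cp_rm (t x : M4) (a : T4) : cp t (rm a x) = rm a (cp t x) := by
  have e : ∀ y, ap (rm a x) y = rf a (ap x y) := fun y => by
    refine Prod.ext ?_ (Prod.ext ?_ (Prod.ext ?_ ?_)) <;>
      simp only [ap, rm_def, rf_def, ip, dt, Prod.fst_sub, Prod.snd_sub, Prod.smul_fst, Prod.smul_snd, smul_eq_mul] <;> ring
  simp only [cp, e]
  rfl

theorem cp_id (t : M4) : cp t id4 = t := by
  simp [cp, ap, id4, r18, r14, r13, r12]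

theorem dt_swap (a b c d : T4) : dt (cr a b c) d = -dt (cr a b d) c := by
  simp only [dt, cr]
  ring

theorem dt_zero (a b c : T4) : dt (cr a b c) a = 0 ∧ dt (cr a b c) b = 0 ∧ dt (cr a b c) c = 0 := by
  simp only [dt, cr]
  refine ⟨?_, ?_, ?_⟩ <;> ring

/-- a linear form -/
def dl (e : ℤ) (n : T4) : (Fin 4 → ℤ) →+ ℤ := AddMonoidHom.mk' (fun y => e * dt n (vt y)) fun x y => by
  simp only [dt, vt, Pi.add_apply]
  ring

theorem dl_apply (e : ℤ) (n : T4) (y : Fin 4 → ℤ) : dl e n y = e * dt n (vt y) := rfl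

/-- the inverse of the order of the torus -/
def fv (q : ℕ) (c : T4) : ℚ :=
  |(c.2.2.2 : ℚ)| / |(q : ℚ) ^ 4 - c.1 * q ^ 3 + c.2.1 * q ^ 2 - c.2.2.1 * q + c.2.2.2|

theorem iv_eq (q : ℕ) (u : (Fin 4 → ℤ) →+ (Fin 4 → ℤ)) : iv q u = fv q (cf (mt u)) := by
  have h5 : e4 (mt ((q : ℤ) • 1 - u.toIntLinearMap : (Fin 4 → ℤ) →ₗ[ℤ] (Fin 4 → ℤ)).toAddMonoidHom) =
      q ^ 4 - e1 (mt u) * q ^ 3 + e2 (mt u) * q ^ 2 - e3 (mt u) * q + e4 (mt u) := by
    simp [Tab.D.mt, e1, e2, e3, e4, dt, cr, vt, sr]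
    ring
  rw [iv, det_eq, det_eq, h5]
  push_cast
  rfl

end alg

variable {W : Type} [Group W] [Finite W] (cs : CoxeterSystem coxeterD4 W) {q : ℕ} {m : M4} (hm : m ∈ WL)
  {θ : (Fin 4 → ℤ) →+ (Fin 4 → ℤ)} (hθ : ∀ x, vt (θ x) = ap (tm m) (vt x))
  (hr : ∀ a, IsRoot cs hp.isCartan a → IsRoot cs hp.isCartan (θ a)) {Λ : AddSubgroup (Fin 4 → ℤ)}
  (hΛ : ∀ y, θ y - (q : ℤ) • y ∈ Λ)

theorem rp {a : Fin 4 → ℤ} (ha : IsRoot cs hp.isCartan a) (h : 0 ≤ a) : vt a ∈ RP ∧ ip (vt a) (vt a) = 2 := by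
  have h1 := List.all_eq_true.1 chk0 _ ((root_iff cs a).1 ha)
  rw [(pos_iff a).2 h, Bool.not_true, Bool.false_or, Bool.and_eq_true, beq_iff_eq, List.contains_iff_mem] at h1
  exact h1.symm

include hθ

theorem iv_tw (v : W) : iv q (tw cs hp.isCartan v θ) = (fv q ∘ cf ∘ cp (tm m)) (mat cs v) := by
  have h2 : mt θ = tm m := by
    simp only [Tab.D.mt, hθ]
    simp [ap, vt, sr]
  rw [iv_eq, ← h2]
  exact congrArg (fun u => fv q (cf u)) (Prod.ext (ap_mat cs v _) (Prod.ext (ap_mat cs v _) (Prod.ext (ap_mat cs v _)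
    (ap_mat cs v _))))

include hm hr hΛ

theorem mild (hq : 2 ≤ q) (hpos : ∀ a ∈ Ps cs hp.isCartan Λ, 0 ≤ a → 0 ≤ θ a) (h2 : (Ps cs hp.isCartan Λ).ncard = 2) :
    ∃ n : ℕ, (n = q ^ 3 - 1 ∨ n = q ^ 3 + 1) ∧ Ord cs hp.isCartan q θ Λ 1 ((q ^ 2 - 1) * n) ∧ ∀ y, (n : ℤ) • y ∈ Λ := by
  obtain ⟨a, ha, a0, h3, h4⟩ := two (fun a ha => ⟨hr a ha.1, stab hΛ ha.2⟩) hpos h2
  obtain ⟨a1, a2⟩ := rp cs ha.1 a0
  have c0 := List.all_eq_true.1 chk1 _ a1
  rw [Bool.and_eq_true, List.all_eq_true] at c0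
  have c1 := c0.2 m hm
  rw [← hθ, h3, bne_self_eq_false, Bool.false_or, List.any_eq_true] at c1
  obtain ⟨ε, hε, c1⟩ := c1
  rw [Bool.and_eq_true, beq_iff_eq, List.all_eq_true] at c1
  obtain ⟨c4, c5⟩ := c1
  simp only [List.mem_cons, List.not_mem_nil, or_false] at hε
  obtain ⟨y, rfl⟩ : ∃ y, q = y + 2 := ⟨q - 2, by omega⟩
  obtain ⟨n, h5, hn⟩ : ∃ n : ℕ, (n = (y + 2) ^ 3 - 1 ∨ n = (y + 2) ^ 3 + 1) ∧ (n : ℤ) = (y + 2) ^ 3 - ε := by
    rcases hε with rfl | rfl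
    exacts [⟨_, Or.inl rfl, by rw [Nat.cast_pred (by positivity)]; push_cast; ring⟩, ⟨_, Or.inr rfl, by push_cast; ring⟩]
  refine ⟨n, h5, ord_of (mat cs) (mat_inj cs) vt rm (fun c hc s hs => mat_mul cs hc hs) (L1 (vt a) id4) (nodup_of c0.1) ?_ ?_ ?_
    _ (iv_tw cs hθ) ?_, mem_of_sr (Λ := Λ.comap ((n : ℤ) • AddMonoidHom.id _)) fun i => ?_⟩
  · rw [mat_one]
    exact List.mem_cons_self
  · intro c hc
    rcases h4 c hc with rfl | rfl <;>
      simp only [L1, List.mem_cons, forall_eq_or_imp, vt_neg, rm_neg, rm_rm a2, true_or, or_true, true_and, List.not_mem_nil,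
        false_imp_iff, implies_true]
  · rw [mat_one]
    intro G g1 g2
    simp only [L1, List.forall_mem_cons]
    exact ⟨g1, g2 a ha _ g1, by simp⟩
  · have h6 : (n : ℚ) = (y + 2) ^ 3 - ε := by exact_mod_cast hn
    have h7 : (L1 (vt a) id4).map (cp (tm m)) = L1 (vt a) (tm m) := by simp only [L1, List.map, cp_rm, cp_id]
    rw [← List.map_map, ← List.map_map, h7, c4, Nat.cast_mul, h6, Nat.cast_pred (by positivity)]
    simp only [List.map, List.sum_cons, List.sum_nil, add_zero, add_mul, fv]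
    rw [div_mul_of (Q := y + 3), div_mul_of (Q := y + 1)]
    · simp only [L1, List.length_cons, List.length_nil]
      push_cast
      ring
    all_goals rcases hε with rfl | rfl <;> push_cast <;> first | (ring_nf; positivity) | ring1 | norm_num
  · have h6 : θ (θ (θ (sr i))) - ε • sr i ∈ Λ := by
      have h7 := beq_iff_eq.1 (c5 (vt (sr i)) (by revert i; decide +kernel))
      rw [← hθ, ← hθ, ← hθ, ← vt_smul, ← vt_smul, ← vt_sub] at h7
      exact vt_inj h7 ▸ zsmul_mem ha.2 _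
    show (n : ℤ) • sr i ∈ Λ
    convert sub_mem h6 (add_mem (add_mem (hΛ (θ (θ (sr i)))) (zsmul_mem (hΛ (θ (sr i))) (y + 2)))
      (zsmul_mem (hΛ (sr i)) ((y + 2) ^ 2))) using 1
    rw [hn]
    push_cast
    module

theorem bad3 (hq : 2 ≤ q) (hpos : ∀ a ∈ Ps cs hp.isCartan Λ, 0 ≤ a → 0 ≤ θ a) (h6 : (Ps cs hp.isCartan Λ).ncard = 6)
    {a : Fin 4 → ℤ} (ha : a ∈ Ps cs hp.isCartan Λ) (a0 : 0 ≤ a) (h : cpr cs hp.isCartan (θ a) a = 0) :
    ∃ n : ℕ, (n = q - 1 ∨ n = q + 1) ∧ Ord cs hp.isCartan q θ Λ 3 (n * (q ^ 6 - 1)) ∧ Cyc cs hp.isCartan q θ Λ n := by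
  have hs : ∀ a ∈ Ps cs hp.isCartan Λ, θ a ∈ Ps cs hp.isCartan Λ := fun a ha => ⟨hr a ha.1, stab hΛ ha.2⟩
  obtain ⟨t1, t2, t3⟩ := (rt cs hm hθ hr).t1 a ha.1 h
  have hb := hs a ha
  have b0 := hpos a ha a0
  have hc := hs _ hb
  have c0 := hpos _ hb b0
  have t4 := t3.resolve_right fun e => ha.1.not_pos_neg a0 (neg_nonneg.1 (e ▸ hpos _ hc c0))
  have e1 := hθ a
  have e2 := hθ (θ a)
  have e3 := hθ (θ (θ a))
  rw [t4] at e3
  rw [cpr_eq cs _ ha.1] at h t1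
  rw [cpr_eq cs _ hb.1] at t2
  generalize θ (θ a) = c at *
  generalize θ a = b at *
  obtain ⟨a1, a2⟩ := rp cs ha.1 a0
  obtain ⟨b1, b2⟩ := rp cs hb.1 b0
  obtain ⟨c1, c2⟩ := rp cs hc.1 c0
  have k0 := List.all_eq_true.1 (List.all_eq_true.1 chk3 _ a1) _ b1
  rw [h, bne_self_eq_false, Bool.false_or] at k0
  replace k0 := List.all_eq_true.1 k0 _ c1
  rw [t1, t2, bne_self_eq_false, Bool.false_or, Bool.false_or, Bool.and_eq_true, Bool.and_eq_true, List.all_eq_true] at k0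
  obtain ⟨⟨k1, k2⟩, k3⟩ := k0
  replace k3 := k3 m hm
  rw [← e1, ← e2, ← e3, bne_self_eq_false, bne_self_eq_false, bne_self_eq_false, Bool.false_or, Bool.false_or, Bool.false_or,
    List.any_eq_true] at k3
  obtain ⟨ε, hε, k3⟩ := k3
  rw [Bool.and_eq_true, beq_iff_eq, List.any_eq_true] at k3
  obtain ⟨k3, x, -, k4⟩ := k3
  rw [← vt_tv x, ← hθ, Bool.and_eq_true, beq_iff_eq, beq_iff_eq] at k4
  generalize tv x = x at k4
  obtain ⟨k4, k5⟩ := k4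
  have h4 := mem_of_ncard vt_inj (nodup_of k2) (S := Ps cs hp.isCartan Λ) (by
    simp only [List.forall_mem_cons]
    exact ⟨⟨a, ha, rfl⟩, ⟨b, hb, rfl⟩, ⟨c, hc, rfl⟩, ⟨-a, ⟨ha.1.neg, neg_mem ha.2⟩, rfl⟩, ⟨-b, ⟨hb.1.neg, neg_mem hb.2⟩, rfl⟩,
      ⟨-c, ⟨hc.1.neg, neg_mem hc.2⟩, rfl⟩, by simp⟩) h6 (by simp)
  simp only [List.mem_cons, List.not_mem_nil, or_false, ← vt_neg, vt_inj.eq_iff] at hε h4
  obtain ⟨y, rfl⟩ : ∃ y, q = y + 2 := ⟨q - 2, by omega⟩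
  obtain ⟨n, h5, hn⟩ : ∃ n : ℕ, (n = y + 2 - 1 ∨ n = y + 2 + 1) ∧ (n : ℤ) = (y + 2 : ℕ) - ε := by
    rcases hε with rfl | rfl
    exacts [⟨y + 1, Or.inl rfl, by push_cast; ring⟩, ⟨y + 3, Or.inr rfl, by push_cast; ring⟩]
  refine ⟨n, h5, ord_of (mat cs) (mat_inj cs) vt rm (fun c hc s hs => mat_mul cs hc hs) (L3 (vt a) (vt b) (vt c) id4)
    (nodup_of k1) ?_ ?_ ?_ _ (iv_tw cs hθ) ?_, cyc1 hΛ hs (dl (dt (cr (vt a) (vt b) (vt c)) (vt x)) (cr (vt a) (vt b) (vt c))) x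
      k4 ?_ (fun r h7 => ?_) (fun z => ?_) hn⟩
  · rw [mat_one]
    exact List.mem_cons_self
  · intro r h7
    rcases h4 r h7 with rfl | rfl | rfl | rfl | rfl | rfl <;>
      simp only [L3, List.mem_cons, forall_eq_or_imp, vt_neg, rm_neg, rm_rm a2, rm_rm b2, rm_rm c2, rm_comm h, rm_comm t1,
        rm_comm t2, true_or, or_true, true_and, List.not_mem_nil, false_imp_iff, implies_true]
  · rw [mat_one]
    intro G g1 g2
    have ga := g2 a ha
    have gb := g2 b hb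
    have gc := g2 c hc
    simp only [L3, List.forall_mem_cons]
    exact ⟨g1, ga _ g1, gb _ g1, gc _ g1, ga _ (gb _ g1), ga _ (gc _ g1), gb _ (gc _ g1), ga _ (gb _ (gc _ g1)), by simp⟩
  · have h6 : (n : ℚ) = y + 2 - ε := by exact_mod_cast hn
    have h7 : (L3 (vt a) (vt b) (vt c) id4).map (cp (tm m)) = L3 (vt a) (vt b) (vt c) (tm m) := by
      simp only [L3, List.map, cp_rm, cp_id]
    rw [← List.map_map, ← List.map_map, h7, k3, Nat.cast_mul, h6, Nat.cast_pred (by positivity)]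
    simp only [List.map, List.sum_cons, List.sum_nil, add_zero, add_mul, fv]
    rw [div_mul_of (Q := (y + 2) ^ 3 + 1), div_mul_of (Q := (y + 2) ^ 3 - 1)]
    · simp only [L3, List.length_cons, List.length_nil]
      push_cast
      ring
    all_goals rcases hε with rfl | rfl <;> push_cast <;> first | (ring_nf; positivity) | ring1 | norm_num
  · rw [dl_apply, k5, mul_left_comm, k4, mul_one]
  · obtain ⟨z1, z2, z3⟩ := dt_zero (vt a) (vt b) (vt c)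
    rcases h4 r h7 with rfl | rfl | rfl | rfl | rfl | rfl <;> simp only [map_neg, dl_apply, z1, z2, z3, mul_zero, neg_zero]
  · refine mem_of_sq k4 ?_
    rw [smul_sub, cramer a b c x z, dl_apply, smul_smul, ← mul_assoc, k4, one_mul, add_sub_cancel_right]
    exact add_mem (add_mem (zsmul_mem (AddSubgroup.subset_closure ha) _) (zsmul_mem (AddSubgroup.subset_closure hb) _))
      (zsmul_mem (AddSubgroup.subset_closure hc) _)

theorem bad2 (hq : 2 ≤ q) {a b : Fin 4 → ℤ} (ha : IsRoot cs hp.isCartan a) (hb : IsRoot cs hp.isCartan b) (a0 : 0 ≤ a)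
    (b0 : 0 ≤ b) (h : cpr cs hp.isCartan b a = -1) (h4 : Ps cs hp.isCartan Λ = A2 a b)
    (h3 : (θ a = a ∧ θ b = b) ∨ (θ a = b ∧ θ b = a)) :
    ∃ n k : ℕ, (n = q ^ 2 + q + 1 ∧ k = q ^ 3 - 1 ∨ n = q ^ 2 - q + 1 ∧ k = q ^ 3 + 1) ∧
      Ord cs hp.isCartan q θ Λ 3 (n * ((q ^ 2 - 1) * k)) ∧ Cyc cs hp.isCartan q θ Λ n := by
  have hs : ∀ a ∈ Ps cs hp.isCartan Λ, θ a ∈ Ps cs hp.isCartan Λ := fun a ha => ⟨hr a ha.1, stab hΛ ha.2⟩
  have pa : a ∈ Ps cs hp.isCartan Λ := h4 ▸ Or.inl rfl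
  have pb : b ∈ Ps cs hp.isCartan Λ := h4 ▸ Or.inr (Or.inl rfl)
  rw [cpr_eq cs _ ha] at h
  obtain ⟨a1, a2⟩ := rp cs ha a0
  obtain ⟨b1, b2⟩ := rp cs hb b0
  have k0 := List.all_eq_true.1 (List.all_eq_true.1 chk2 _ a1) _ b1
  rw [h, bne_self_eq_false, Bool.false_or, Bool.and_eq_true, List.all_eq_true] at k0
  obtain ⟨k1, k3⟩ := k0
  replace k3 := k3 m hm
  rw [← hθ, ← hθ, Bool.or_eq_true, Bool.not_eq_true', ← Bool.not_eq_true, List.any_eq_true] at k3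
  obtain ⟨η, hη, k3⟩ := k3.resolve_left fun e => e (by
    simpa only [Bool.or_eq_true, Bool.and_eq_true, beq_iff_eq, vt_inj.eq_iff] using h3)
  rw [Bool.and_eq_true, List.isPerm_iff, List.any_eq_true] at k3
  obtain ⟨k3, x, -, k4⟩ := k3
  rw [← vt_tv x, ← hθ, ← hθ, Bool.and_eq_true, Bool.and_eq_true, beq_iff_eq, beq_iff_eq, beq_iff_eq] at k4
  generalize tv x = x at k4
  obtain ⟨⟨k4, k5⟩, k6⟩ := k4
  simp only [List.mem_cons, List.not_mem_nil, or_false] at hη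
  obtain ⟨y, rfl⟩ : ∃ y, q = y + 2 := ⟨q - 2, by omega⟩
  obtain ⟨n, k, h5, hn, hk⟩ : ∃ n k : ℕ, (n = (y + 2) ^ 2 + (y + 2) + 1 ∧ k = (y + 2) ^ 3 - 1 ∨
      n = (y + 2) ^ 2 - (y + 2) + 1 ∧ k = (y + 2) ^ 3 + 1) ∧ (n : ℤ) = (y + 2 : ℕ) ^ 2 + η * (y + 2 : ℕ) + 1 ∧
      (k : ℚ) = (y + 2) ^ 3 - η := by
    rcases hη with rfl | rfl
    exacts [⟨_, _, Or.inl ⟨rfl, rfl⟩, by push_cast; ring, by rw [Nat.cast_pred (by positivity)]; push_cast; ring⟩,
      ⟨_, _, Or.inr ⟨rfl, rfl⟩, by rw [Nat.cast_add, Nat.cast_sub (by nlinarith)]; push_cast; ring, by push_cast; ring⟩]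
  obtain ⟨z1, z2, z3⟩ := dt_zero (vt a) (vt b) (vt x)
  obtain ⟨z4, z5, z6⟩ := dt_zero (vt a) (vt b) (vt (θ x))
  refine ⟨n, k, h5, ord_of (mat cs) (mat_inj cs) vt rm (fun c hc s hs => mat_mul cs hc hs) (L2 (vt a) (vt b) id4)
    (nodup_of k1) ?_ ?_ ?_ _ (iv_tw cs hθ) ?_, cyc2 hΛ hs
      (dl (-dt (cr (vt a) (vt b) (vt x)) (vt (θ x))) (cr (vt a) (vt b) (vt (θ x))))
      (dl (dt (cr (vt a) (vt b) (vt x)) (vt (θ x))) (cr (vt a) (vt b) (vt x))) x ?_ ?_ ?_ k4 ?_ ?_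
      (fun r h7 => ?_) (fun r h7 => ?_) (fun z => ?_) hn⟩
  · rw [mat_one]
    exact List.mem_cons_self
  · rw [h4]
    rintro r (rfl | rfl | rfl | rfl | rfl | rfl) <;>
      simp only [L2, List.mem_cons, forall_eq_or_imp, vt_neg, vt_add, rm_neg, rm_add a2 h, rm_rm a2, rm_rm b2, rm_braid a2 b2 h,
        true_or, or_true, true_and, List.not_mem_nil, false_imp_iff, implies_true]
  · rw [mat_one]
    intro G g1 g2
    have ga := g2 a pa
    have gb := g2 b pb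
    simp only [L2, List.forall_mem_cons]
    exact ⟨g1, ga _ g1, gb _ g1, ga _ (gb _ g1), gb _ (ga _ g1), ga _ (gb _ (ga _ g1)), by simp⟩
  · have h6 : (n : ℚ) = (y + 2) ^ 2 + η * (y + 2) + 1 := by exact_mod_cast hn
    have h7 : (L2 (vt a) (vt b) id4).map (cp (tm m)) = L2 (vt a) (vt b) (tm m) := by simp only [L2, List.map, cp_rm, cp_id]
    rw [← List.map_map, ← List.map_map, h7, (k3.map _).sum_eq]
    simp only [List.map, List.sum_cons, List.sum_nil, add_zero, add_mul, fv]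
    rw [Nat.cast_mul, Nat.cast_mul, h6, hk, Nat.cast_pred (by positivity), div_mul_of (Q := (y + 2 + η) * ((y + 2) ^ 2 + η * (y + 2) + 1)), div_mul_of (Q := (y + 2) ^ 3 - η),
      div_mul_of (Q := ((y + 2) ^ 2 - 1) * (y + 2 - η))]
    · simp only [L2, List.length_cons, List.length_nil]
      rcases hη with rfl | rfl <;> push_cast <;> ring
    all_goals rcases hη with rfl | rfl <;> push_cast <;> first | (ring_nf; positivity) | ring1 | norm_num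
  · rw [dl_apply, dt_swap _ _ _ (vt x), neg_mul_neg, k4]
  · rw [dl_apply, z3, mul_zero]
  · rw [dl_apply, z6, mul_zero]
  · rw [dl_apply, dt_swap _ _ _ (vt (θ (θ x))), k5, neg_neg, neg_mul, k4]
  · rw [dl_apply, k6, mul_left_comm, k4, mul_one]
  · rw [h4] at h7
    rcases h7 with rfl | rfl | rfl | rfl | rfl | rfl <;>
      simp only [map_neg, map_add, dl_apply, z4, z5, mul_zero, neg_zero, add_zero]
  · rw [h4] at h7
    rcases h7 with rfl | rfl | rfl | rfl | rfl | rfl <;>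
      simp only [map_neg, map_add, dl_apply, z1, z2, mul_zero, neg_zero, add_zero]
  · refine mem_of_sq k4 ?_
    rw [smul_sub, smul_sub, cramer a b x (θ x) z, dl_apply, dl_apply, dt_swap _ _ (vt (θ x)) (vt z), neg_mul_neg, smul_smul, smul_smul,
      ← mul_assoc, ← mul_assoc, k4, one_mul, one_mul, sub_right_comm, add_sub_cancel_right, add_sub_cancel_right]
    exact add_mem (zsmul_mem (AddSubgroup.subset_closure pa) _) (zsmul_mem (AddSubgroup.subset_closure pb) _)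

theorem bad (hq : 2 ≤ q) (hpos : ∀ a ∈ Ps cs hp.isCartan Λ, 0 ≤ a → 0 ≤ θ a) (h6 : (Ps cs hp.isCartan Λ).ncard = 6) :
    ∃ n k : ℕ, ((n = q - 1 ∨ n = q + 1) ∧ k = q ^ 6 - 1 ∨ n = q ^ 2 + q + 1 ∧ k = (q ^ 2 - 1) * (q ^ 3 - 1) ∨
      n = q ^ 2 - q + 1 ∧ k = (q ^ 2 - 1) * (q ^ 3 + 1)) ∧ Ord cs hp.isCartan q θ Λ 3 (n * k) ∧ Cyc cs hp.isCartan q θ Λ n := by
  rcases cls' cs hm hθ hr Λ (Set.nonempty_of_ncard_ne_zero (by omega)) (fun _ => stab hΛ) hpos with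
    ⟨a, ha, h⟩ | ⟨a, -, -, h⟩ | ⟨a, b, ha, hb, a0, b0, h1, h2, h3⟩
  · wlog a0 : 0 ≤ a generalizing a
    · refine this (-a) ⟨ha.1.neg, neg_mem ha.2⟩ ?_ (ha.1.not_nonneg_iff_neg.1 a0)
      rw [map_neg, cpr_neg_right _ _ _ ha.1, cpr_neg _ _ _ ha.1, h, neg_neg]
    obtain ⟨n, h1, h2⟩ := bad3 cs hm hθ hr hΛ hq hpos h6 ha a0 h
    exact ⟨n, _, Or.inl ⟨h1, rfl⟩, h2⟩
  · have := (Set.ncard_insert_le a {-a}).trans_eq (by rw [Set.ncard_singleton])
    rw [← h] at this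
    omega
  · obtain ⟨n, k, h4, h5⟩ := bad2 cs hm hθ hr hΛ hq ha hb a0 b0 h1 h2 h3
    exact ⟨n, _, Or.inr (h4.imp (fun e => ⟨e.1, by rw [e.2]⟩) fun e => ⟨e.1, by rw [e.2]⟩), h5⟩

end Cfsg.Agent.N2.G2.B.D
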