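import Cfsg.Agent.N2.G2.BG
import Cfsg.Agent.N2.G2.BD
import Cfsg.Agent.N2.G2.Defs
import Cfsg.Agent.KM.Ev.TD4

/-!
# N2, `G₂(q)` and `³D₄(q)`: **`boxB : BoxB`** (helper10)
-/

set_option autoImplicit false
set_option linter.unusedSectionVars false

namespace Cfsg.Agent.N2.G2

open Subgroup Cfsg Cfsg.Lie CoxeterSystem Matrix
open Cfsg.Agent.ChevalleyStructure.CoxeterGeom Cfsg.Agent.ChevalleyStructure.CoxeterGeomTypes Cfsg.Agent.Tits.Roots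
  Cfsg.Agent.Nodes.Reps Cfsg.Agent.Nodes.Coroot Cfsg.Agent.Nodes.RGDChev Cfsg.Agent.H316.U6 Cfsg.Agent.SB.Low
  Cfsg.Agent.SB.Exc

namespace B

theorem nd_add {p a : ℕ} (hp : p.Prime) (h : p ∣ a) : ¬ p ∣ a + 1 := fun e =>
  hp.one_lt.ne' (Nat.dvd_one.1 ((Nat.dvd_add_right h).1 e))

theorem nd_sub {p a : ℕ} (hp : p.Prime) (h : p ∣ a) (h0 : 0 < a) : ¬ p ∣ a - 1 := fun e =>
  nd_add hp e (by rwa [Nat.sub_add_cancel h0])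

variable {C : ChevalleyDatum} {l : ℕ} {M : CoxeterMatrix (Fin l)} {hp : IsType C l M} {p q : ℕ} [Fact p.Prime]
  {K : Type} [Group K] [Finite K]

theorem dd_eq (m : MData hp p q K) (x : K) (g : C.group (H469.Exc.KK p)) (h : g⁻¹ * m.ι x * g ∈ (dat m).T) :
    DS.Nt.dd p (m.ι x) = l + ((dat m).Sz {g⁻¹ * m.ι x * g}).ncard := by
  have h1 := (CI.ncard_Ps (hp := hp) h).symm
  nth_rw 2 [← inv_inv g] at h1
  rw [DS.Nt.dd_conj] at h1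
  exact h1.trans (congrArg (fun S => l + Set.ncard S) (Ex.Cb.Sz_eq m.he m.frob m.fr (Set.singleton_subset_iff.2 h)).symm)

theorem par (m : MData hp p q K) : p ∣ p ^ m.e ∧ 2 ≤ p ^ m.e :=
  ⟨dvd_pow_self p m.he.ne', (Fact.out : p.Prime).two_le.trans (Nat.le_self_pow m.he.ne' p)⟩

theorem elG (m : MData hpG2 p q K) (h1 : m.dd = 1) (hg : m.g = AddEquiv.refl _) {d : K → ℕ}
    (hd : ∀ x, d x = DS.Nt.dd p (m.ι x)) : ElB p 1 q K d := by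
  have := finite_W hpG2 CoxeterMatrix.G₂.toCoxeterSystem
  obtain ⟨A, hA⟩ := TO.X.Cn.pm_G2
  have h2 := TO.X.Cn.pi1_of_mat (dat m) A hA
  have h3 := fun x => red (md m h1) (fun y hy hF z hz hz' t ht _ c _ e => TO.X.Cn.mem_cen ((h2.conj hy hF).conj hz hz') ht
    (pow_orderOf_eq_one t) (Nat.coprime_one_right _) trivial e) (fun x g h => (hd x).trans (dd_eq m x g h)) (x := x)
  obtain ⟨h4, h5⟩ := par m
  have hp : p.Prime := Fact.out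
  have h6 : ∀ w y, tw (dat m).cs (dat m).h w m.g.toAddMonoidHom y = rep CoxeterMatrix.G₂.toCoxeterSystem hpG2.isCartan w y :=
    fun w y => by rw [hg]; rfl
  have h7 : ∀ j, ¬ p ∣ (p ^ m.e) ^ (j + 1) - 1 ∧ ¬ p ∣ (p ^ m.e) ^ (j + 1) + 1 := fun j =>
    ⟨nd_sub hp (dvd_pow h4 j.succ_ne_zero) (by positivity), nd_add hp (dvd_pow h4 j.succ_ne_zero)⟩
  suffices ElB p 1 (p ^ m.e) K d from m.hq ▸ this
  refine ⟨fun x hx e => ?_, fun _ x hx e => ?_, fun e => absurd e (by decide)⟩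
  · obtain ⟨w, Λ, a1, a2, a3, a4, a5, -⟩ := h3 x hx
    obtain ⟨n, b1, b2, b3⟩ := G.mild _ (h6 w) a1 h5 a2 (Nat.add_left_cancel (a3.symm.trans e))
    rw [← pow_one (p ^ m.e)] at b1
    refine ⟨n, b1, ?_, a5 n b3⟩
    rw [a4 _ _ (hp.not_dvd_mul (h7 1).1 (b1.elim (· ▸ (h7 0).1) (· ▸ (h7 0).2))) b2, pow_one, mul_assoc]
  · obtain ⟨w, Λ, a1, -, a3, a4, -⟩ := h3 x hx
    obtain ⟨n, b1, b2⟩ := G.bad _ (h6 w) a1 h5 (Nat.add_left_cancel (a3.symm.trans e))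
    refine ⟨n, b1, ?_⟩
    rw [a4 _ _ (hp.not_dvd_mul (h7 1).1 (b1.elim (·.1 ▸ (h7 2).1) (·.1 ▸ (h7 2).2))) b2, mul_assoc]

theorem nf (m : MData Nodes.RGDTwD4.hp p q K) (hg : m.g = H720.TwFr.permE H720.TwFr.rho4) : KM.Ev.TD.NF (dat m) := by
  have h1 : ∀ v : Fin 4 → ℤ, v ∈ KM.Tor.E6.Q (dat m) ↔ KM.Ev.TD.QP v := fun v =>
    (exists_congr fun β => (congrArg (v = ·) (funext fun j => Finset.sum_apply j _ _ :
      TO.X.Cn.cl (dat m) β = KM.Tor.co chevD4 4 β)).to_iff).trans (KM.Ev.TD.co_iff v)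
  have h3 : ∀ i j : Fin 4, (H720.TwFr.permE H720.TwFr.rho4).symm (sr i) j = if j = ![3, 1, 0, 2] i then 1 else 0 := by
    decide +kernel
  intro μ h
  have h2 : ∀ i : Fin 4, ((dat m).Mx *ᵥ μ - μ) i = (p : ℤ) ^ m.e * μ ((![3, 1, 0, 2] : Fin 4 → Fin 4) i) - μ i := fun i => by
    show ∑ j : Fin 4, (p : ℤ) ^ m.e * m.g.symm (sr i) j * μ j - μ i = _
    simp only [hg, h3, mul_ite, ite_mul, mul_one, mul_zero, zero_mul, Finset.sum_ite_eq', Finset.mem_univ, if_true]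
  obtain ⟨h4, h5⟩ := (h1 _).1 h
  rw [h2, h2] at h4 h5
  change 2 ∣ _ * μ (3 : Fin 4) - _ - (_ * μ (0 : Fin 4) - _) at h4
  change 2 ∣ _ * μ (3 : Fin 4) - _ - (_ * μ (2 : Fin 4) - _) at h5
  refine (h1 _).2 ⟨?_, ?_⟩ <;> rcases Int.even_or_odd' ((p : ℤ) ^ m.e) with ⟨s, e | e⟩ <;>
    simp only [e, add_mul, mul_assoc] at h4 h5 <;> omega

theorem elD (m : MData Nodes.RGDTwD4.hp p q K) (h1 : m.dd = 1) (hg : m.g = H720.TwFr.permE H720.TwFr.rho4) {d : K → ℕ}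
    (hd : ∀ x, d x = DS.Nt.dd p (m.ι x)) : ElB p 3 q K d := by
  have := finite_W Nodes.RGDTwD4.hp coxeterD4.toCoxeterSystem
  have h3 := fun x => red (md m h1) (fun y hy hF z hz hz' t ht h c h' e => (((nf m hg).conj hy hF).conj hz hz').cen ht h
    ⟨trivial, h'⟩ e) (fun x g h => (hd x).trans (dd_eq m x g h)) (x := x)
  obtain ⟨h4, h5⟩ := par m
  have hp : p.Prime := Fact.out
  have h6 : ∀ w y, Tab.D.vt (tw (dat m).cs (dat m).h w m.g.toAddMonoidHom y) =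
      Tab.D.ap (Tab.D.tm (Tab.D.mat coxeterD4.toCoxeterSystem w)) (Tab.D.vt y) := fun w (y : Fin 4 → ℤ) => by
    rw [hg]
    refine (Tab.D.ap_mat coxeterD4.toCoxeterSystem w (H720.TwFr.permE H720.TwFr.rho4 y)).trans ?_
    rw [Tab.D.g_eq]
    simp only [Tab.D.ap, Tab.D.tm, Tab.D.id4, Tab.D.r18, Tab.D.r14, Tab.D.r13, Tab.D.r12]
    refine Prod.ext ?_ (Prod.ext ?_ (Prod.ext ?_ ?_)) <;> simp only <;> ring
  have h8 : ∀ w a, IsRoot coxeterD4.toCoxeterSystem Nodes.RGDTwD4.hp.isCartan a → IsRoot coxeterD4.toCoxeterSystem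
      Nodes.RGDTwD4.hp.isCartan (tw (dat m).cs (dat m).h w m.g.toAddMonoidHom a) := fun w a ha =>
    IsRoot.act ((dat m).g_root a ha) w
  have h7 : ∀ j, ¬ p ∣ (p ^ m.e) ^ (j + 1) - 1 ∧ ¬ p ∣ (p ^ m.e) ^ (j + 1) + 1 := fun j =>
    ⟨nd_sub hp (dvd_pow h4 j.succ_ne_zero) (by positivity), nd_add hp (dvd_pow h4 j.succ_ne_zero)⟩
  suffices ElB p 3 (p ^ m.e) K d from m.hq ▸ this
  refine ⟨fun x hx e => ?_, fun e => absurd e (by decide), fun _ x hx e => ?_⟩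
  · obtain ⟨w, Λ, a1, a2, a3, a4, a5, -⟩ := h3 x hx
    obtain ⟨n, b1, b2, b3⟩ := D.mild _ (Tab.D.mat_mem _ w) (h6 w) (h8 w) a1 h5 a2 (Nat.add_left_cancel (a3.symm.trans e))
    refine ⟨n, b1, ?_, a5 n b3⟩
    rw [a4 _ _ (hp.not_dvd_mul (h7 1).1 (b1.elim (· ▸ (h7 2).1) (· ▸ (h7 2).2))) b2, pow_one, mul_assoc]
  · obtain ⟨w, Λ, a1, a2, a3, a4, -, a6⟩ := h3 x hx
    obtain ⟨n, k, b1, b2, b3⟩ := D.bad _ (Tab.D.mat_mem _ w) (h6 w) (h8 w) a1 h5 a2 (Nat.add_left_cancel (a3.symm.trans e))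
    have h9 : ¬ p ∣ n ∧ ¬ p ∣ k := by
      rcases b1 with ⟨rfl | rfl, rfl⟩ | ⟨rfl, rfl⟩ | ⟨rfl, rfl⟩
      exacts [⟨nd_sub hp h4 (by omega), (h7 5).1⟩, ⟨nd_add hp h4, (h7 5).1⟩,
        ⟨nd_add hp (dvd_add (dvd_pow h4 two_ne_zero) h4), hp.not_dvd_mul (h7 1).1 (h7 2).1⟩,
        ⟨nd_add hp (Nat.dvd_sub (dvd_pow h4 two_ne_zero) h4), hp.not_dvd_mul (h7 1).1 (h7 2).2⟩]
    obtain ⟨z, c1, c2, c3, c4⟩ := a6 n h9.1 b3
    refine ⟨n, (p ^ m.e) ^ 3 * k, z, b1.imp (fun h => ⟨h.1, by rw [h.2]⟩) (Or.imp (fun h => ⟨h.1, by rw [h.2, mul_assoc]⟩)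
      fun h => ⟨h.1, by rw [h.2, mul_assoc]⟩), ?_, c1, c2, c3.trans e, c4⟩
    rw [a4 _ _ (hp.not_dvd_mul h9.1 h9.2) b2, mul_left_comm]

end B

/-- **Box B.** -/
theorem boxB : BoxB := fun _ _ _ _ _ _ _ _ _ h => by
  rcases h with ⟨rfl, -, ⟨m, h1, h2, h3⟩, -⟩ | ⟨rfl, -, ⟨m, h1, h2, h3⟩, -⟩
  exacts [B.elG m h1 h2 h3, B.elD m h1 h2 h3]

end Cfsg.Agent.N2.G2
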