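import Cfsg.Agent.N2.G2.L3A
import Cfsg.Agent.N2.Cl.RD.Aut
import Cfsg.Agent.ClassicalGeometry.PSL2Basic
import Cfsg.Agent.H452.Singer
import Cfsg.Agent.H983.Cov.UThree
import Cfsg.Agent.H127.PSUThreeEx
import Cfsg.Agent.H680.Six.Card
import Cfsg.Agent.S2476

/-!
# N2 (S3519), `G₂(q)` and `³D₄(q)`, box `pL3` : the data of `L₃` and `U₃` (helper97)
-/

set_option autoImplicit false
set_option linter.unusedSectionVars false

namespace Cfsg.Agent.N2.G2.L3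

open Subgroup Cfsg Cfsg.Agent.N2C.N4 Cfsg.Agent.N2C.RD Matrix

/-- the data -/
structure D3 (S : Type) [Group S] (p a r : ℕ) : Prop where
  prime : p.Prime
  pos : 1 ≤ a
  dvd : p ^ (3 * a) ∣ Nat.card S
  le : Nat.card S ≤ p ^ (8 * a)
  pr : r.Prime
  big : 7 ≤ r
  ne : r ≠ p
  rd : r ∣ Nat.card S
  nd : ¬ r ∣ (p ^ a) ^ 2 - 1
  fu : Fu S r
  cy : Cy1 S r 20
  aut : ∃ o, Nat.card (MulAut S) ∣ o * Nat.card S ∧ r.Coprime o
  aut_le : Nat.card (MulAut S) ≤ 2 * a * (p ^ a) ^ 8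
  ord : (∀ m, r ∣ p ^ m - 1 → 3 * a ∣ m) ∨ (p = 2 ∧ a = 2)
  exp : p ≠ 2 → ∃ Q : Subgroup S, Nat.card Q = p ^ (3 * a) ∧ ∀ x ∈ Q, x ^ p = 1

theorem ord_dvd {p r m : ℕ} (hp : 0 < p) (h : r ∣ p ^ m - 1) : orderOf (p : ZMod r) ∣ m := by
  refine orderOf_dvd_of_pow_eq_one ?_
  have h1 := (ZMod.natCast_eq_zero_iff _ r).2 h
  rw [Nat.cast_sub (Nat.one_le_pow _ _ hp), Nat.cast_pow, Nat.cast_one] at h1
  exact sub_eq_zero.1 h1

theorem seven_le {r : ℕ} (hr : r.Prime) {x : ZMod r} (h : orderOf x = 3) : 7 ≤ r := by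
  have := Fact.mk hr
  have h1 := orderOf_dvd_of_pow_eq_one (ZMod.pow_card_sub_one_eq_one (a := x) fun e => by simp [e] at h)
  have h2 := hr.two_le
  by_contra k
  rw [h] at h1
  exact absurd hr (by rw [show r = 4 by omega]; decide)

variable {F : Type} [Field F] [Fintype F] {S : Type} [Group S] [Finite S] {p a r n : ℕ}

/-- no real elements -/
theorem nr_gl (hr : r.Prime) (ho : orderOf ((Nat.card F : ℕ) : ZMod r) = 3) {G : Type} [Group G] (ι : G →* GL (Fin 3) F)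
    (hι : Function.Injective ι) (x g : G) (h1 : x ^ r = 1) (h2 : g * x * g⁻¹ = x⁻¹) : x = 1 := by
  have := Fact.mk hr
  have h7 := seven_le hr ho
  by_contra h3
  have h4 := (H452.Singer.norm_index ho (x := ι x) (g := ι g) (by rw [← map_pow, h1, map_one])
    (fun e => h3 (hι (e.trans (map_one ι).symm))) (mem_normalizer_fintype (by
      rintro _ ⟨i, rfl⟩
      show ι g * ι x ^ i * (ι g)⁻¹ ∈ zpowers (ι x)
      rw [← conj_zpow, ← map_inv, ← map_mul, ← map_mul, h2, map_inv]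
      exact zpow_mem (inv_mem (mem_zpowers _)) i))).2
  rw [← map_pow, ← map_mul, ← map_mul] at h4
  have h5 : g * x⁻¹ * g⁻¹ = x := by rw [← conj_inv, h2, inv_inv]
  have h6 : x = x⁻¹ := by
    calc x = g ^ 3 * x * (g ^ 3)⁻¹ := by rw [hι h4, mul_inv_cancel_right]
      _ = g * (g * (g * x * g⁻¹) * g⁻¹) * g⁻¹ := by rw [pow_three]; group
      _ = _ := by rw [h2, h5, h2]
  exact h3 (orderOf_eq_one_iff.1 (Nat.eq_one_of_dvd_coprimes ((Nat.coprime_primes hr Nat.prime_two).2 (by omega))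
    (orderOf_dvd_of_pow_eq_one h1) (orderOf_dvd_of_pow_eq_one (by rw [sq, mul_eq_one_iff_eq_inv]; exact h6))))

theorem D3.of [IsSimpleGroup S] (hn : ¬ IsMulCommutative S) {X : H902.Art.Sh} (N : Nd X p a S) (h1 : dX X = 8)
    (h2 : gX X p = 2) {g : S} {c : ℕ} (hc : Nat.card S = orderOf g * ((p ^ a) ^ 3 * (c * ((p ^ a) ^ 2 - 1))))
    (hc' : c ∣ (p ^ a) ^ 2 - 1) (hr : r.Prime) (h7 : 7 ≤ r) (hp : r ≠ p) (h3 : r ∣ Nat.card S)
    (h4 : ¬ r * Nat.card S ∣ Nat.card (MulAut S)) (h5 : ¬ r ∣ (p ^ a) ^ 2 - 1)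
    (h6 : ∀ x g : S, x ^ r = 1 → g * x * g⁻¹ = x⁻¹ → x = 1) (h8 : (∀ m, r ∣ p ^ m - 1 → 3 * a ∣ m) ∨ (p = 2 ∧ a = 2))
    (h9 : p ≠ 2 → p ^ (3 * a) ∣ Nat.card S → ∃ Q : Subgroup S, Nat.card Q = p ^ (3 * a) ∧ ∀ x ∈ Q, x ^ p = 1) :
    D3 S p a r := by
  have h10 := fu_cy (perf hn) hc hr h3 (fun e => by
    rcases hr.dvd_mul.1 e with k | k
    · exact hp ((Nat.prime_dvd_prime_iff_eq hr N.real.hp).1 (hr.dvd_of_dvd_pow (hr.dvd_of_dvd_pow k)))
    · exact (hr.dvd_mul.1 k).elim (fun k => h5 (k.trans hc')) h5) h6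
  have h11 : p ^ (3 * a) ∣ Nat.card S := by
    rw [hc, pow_mul']
    exact (dvd_mul_right _ _).mul_left _
  exact ⟨N.real.hp, N.real.hf, h11, by rw [pow_mul', ← h1]; exact N.card_le, hr, h7, hp, h3, h5, h10.1,
    cy_mono h10.2 (by omega), ⟨_, N.aut'.dvd, hr.coprime_iff_not_dvd.2 fun e => h4 (N.aut' ▸ Nat.mul_dvd_mul_right e _)⟩,
    by rw [← h1, ← h2]; exact N.aut_le, h8, fun e => h9 e h11⟩

/-! ### `L₃` -/

theorem torL (hp : p.Prime) [CharP F p] (hF : Fintype.card F = n) :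
    ∃ g : PSL 3 F, Nat.card (PSL 3 F) = orderOf g * (n ^ 3 * ((n - 1) * (n ^ 2 - 1))) := by
  have := Fact.mk hp
  have hc := H680.Six.psl3_card (F := F)
  obtain ⟨g, hg⟩ := (S2476.result (F := F) p).ge (.inl dvd_rfl)
  rw [hF] at hc hg
  obtain ⟨m, rfl⟩ : ∃ m, n = m + 1 := ⟨n - 1, by have := Fintype.card_pos (α := F); omega⟩
  rw [Nat.add_sub_cancel] at hc hg ⊢
  refine ⟨g, Nat.eq_of_mul_eq_mul_left (Nat.gcd_pos_of_pos_left m three_pos) ?_⟩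
  rw [hc, hg, ← mul_assoc (Nat.gcd 3 m), Nat.mul_div_cancel' (by
    rw [show (m + 1) ^ 2 + (m + 1) + 1 = m * (m + 3) + 3 by ring]
    exact dvd_add ((Nat.gcd_dvd_right 3 m).mul_right _) (Nat.gcd_dvd_left 3 m)),
    show (m + 1) ^ 3 - 1 = m * ((m + 1) ^ 2 + (m + 1) + 1) from Nat.sub_eq_of_eq_add (by ring)]
  ring

theorem psl_pow [hp : Fact p.Prime] [CharP F p] (h2 : p ≠ 2) {j : ℕ} {x : PSL 3 F} (h : x ^ p ^ j = 1) : x ^ p = 1 := by
  obtain ⟨g, rfl⟩ := QuotientGroup.mk_surjective x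
  obtain ⟨c, -, hc⟩ := Matrix.SpecialLinearGroup.mem_center_iff.1 ((QuotientGroup.eq_one_iff (g ^ p ^ j)).1 h)
  obtain ⟨c, rfl⟩ := (iterateFrobeniusEquiv F p j).surjective c
  have h1 : Commute g.1 (scalar (Fin 3) c) := (scalar_commute c (Commute.all c) _).symm
  have h3 : IsNilpotent (g.1 - scalar (Fin 3) c) := ⟨p ^ j, by
    rw [sub_pow_char_pow_of_commute p j h1, ← map_pow]
    exact sub_eq_zero.2 (hc.trans (Matrix.SpecialLinearGroup.coe_pow g _)).symm⟩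
  have h4 := aeval_self_charpoly (g.1 - scalar (Fin 3) c)
  rw [sub_eq_zero.1 (isNilpotent_charpoly_sub_pow_of_isNilpotent h3).eq_zero, map_pow, Polynomial.aeval_X,
    Fintype.card_fin] at h4
  have h5 := pow_eq_zero_of_le (show 3 ≤ p by have := hp.out.two_le; omega) h4
  rw [sub_pow_char_of_commute p h1, ← map_pow, sub_eq_zero] at h5
  refine (QuotientGroup.eq_one_iff (g ^ p)).2 (mem_center_iff.2 fun y => Subtype.ext ?_)
  change y.1 * g.1 ^ p = g.1 ^ p * y.1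
  rw [h5]
  exact (scalar_commute _ (Commute.all _) _).symm

theorem nrL (hr : r.Prime) (ho : orderOf ((Nat.card F : ℕ) : ZMod r) = 3) (e : S ≃* PSL 3 F) :
    ∀ x g : S, x ^ r = 1 → g * x * g⁻¹ = x⁻¹ → x = 1 :=
  not_real (e.symm.toMonoidHom.comp (QuotientGroup.mk' _)) (e.symm.surjective.comp (QuotientGroup.mk'_surjective _))
    (fun z hz => by
      have h1 := (QuotientGroup.eq_one_iff z).1 (e.symm.map_eq_one_iff.1 hz)
      obtain ⟨c, h2, h3⟩ := Matrix.SpecialLinearGroup.mem_center_iff.1 h1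
      refine ⟨Subtype.ext ((Matrix.SpecialLinearGroup.coe_pow z 3).trans ?_), mem_center_iff.1 h1⟩
      rw [← h3, ← map_pow, show c ^ 3 = 1 from h2, map_one]
      rfl)
    ((Nat.coprime_primes hr Nat.prime_three).2 (by have := seven_le hr ho; omega))
    (nr_gl hr ho SpecialLinearGroup.toGL SpecialLinearGroup.toGL_injective)

theorem dL [hs : IsSimpleGroup S] (hn : ¬ IsMulCommutative S) (hp : p.Prime) [CharP F p] (ha : 1 ≤ a)
    (hF : Fintype.card F = p ^ a) (e : S ≃* PSL 3 F) : ∃ r, D3 S p a r := by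
  have := Fact.mk hp
  have N := nd_A hs hn hp ha hF (by decide) (fun k => absurd k (by decide)) e
  obtain ⟨g, hg⟩ := torL hp hF
  rw [← Nat.card_congr e.toEquiv, ← e.symm.orderOf_eq] at hg
  obtain ⟨r, hr, h1, h2, h3, h4, h5⟩ : ∃ r, r.Prime ∧ orderOf ((p ^ a : ℕ) : ZMod r) = 3 ∧ r ≠ p ∧ r ∣ Nat.card S ∧
      ¬ r * Nat.card S ∣ Nat.card (MulAut S) ∧ ((∀ m, r ∣ p ^ m - 1 → 3 * a ∣ m) ∨ (p = 2 ∧ a = 2)) := by
    by_cases h : p = 2 ∧ a = 2
    · obtain ⟨rfl, rfl⟩ := h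
      have h1 := N.card
      refine ⟨7, Nat.prime_seven, have := Fact.mk Nat.prime_three; orderOf_eq_prime (by decide) (by decide), by decide, ?_,
        N.not_dvd_of Nat.prime_seven (by decide) (by decide) (by decide), .inr ⟨rfl, rfl⟩⟩
      exact Nat.Coprime.dvd_of_dvd_mul_left (by decide) (Dvd.dvd.trans (by decide) h1.symm.dvd)
    · obtain ⟨r, hr, h1, -, -, h2, h3, h4⟩ := N.ppd (k := 3) ⟨by decide, le_rfl, by decide⟩ (by omega) (by omega)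
      refine ⟨r, hr, ?_, h2, h3, h4, .inl fun m hm => mul_comm a 3 ▸ h1 ▸ ord_dvd hp.pos hm⟩
      rw [ord_pow h1 (by omega), Nat.gcd_mul_right_left, Nat.mul_div_cancel_left _ ha]
  refine ⟨r, .of hn N rfl rfl hg (Nat.sub_one_dvd_pow_sub_one _ _) hr (seven_le hr h1) h2 h3 h4
    (fun k => absurd (h1 ▸ ord_dvd (pow_pos hp.pos a) k) (by decide))
    (nrL hr (by rwa [Nat.card_eq_fintype_card, hF]) e) h5 fun h6 h7 => ?_⟩
  obtain ⟨Q, hQ⟩ := Sylow.exists_subgroup_card_pow_prime p h7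
  refine ⟨Q, hQ, fun x hx => e.map_eq_one_iff.1 ?_⟩
  rw [map_pow]
  refine psl_pow h6 (j := 3 * a) ?_
  rw [← map_pow, ← hQ, orderOf_dvd_iff_pow_eq_one.1 (Q.orderOf_dvd_natCard hx), map_one]

theorem ex33 : ∃ x g u : SpecialLinearGroup (Fin 3) (ZMod 3), g * x = x ^ 3 * g ∧ x ^ 2 ^ 3 = 1 ∧
    u * x ^ 2 ^ 2 ≠ x ^ 2 ^ 2 * u :=
  ⟨⟨!![0, 1, 0; 1, -1, 0; 0, 0, -1], by decide +kernel⟩, ⟨!![0, 1, 0; -1, 0, 0; 0, 0, 1], by decide +kernel⟩,
    ⟨!![0, 1, 0; 0, 0, 1; 1, 0, 0], by decide +kernel⟩, Subtype.ext (by decide +kernel), Subtype.ext (by decide +kernel),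
    fun k => absurd (congrArg Subtype.val k) (by decide +kernel)⟩

theorem fuL (hF : Fintype.card F = 3) : Fu (PSL 3 F) 8 := by
  have := Fact.mk Nat.prime_three
  have := Fact.mk Nat.prime_two
  have := charP_of_card_eq_prime hF
  obtain ⟨x, g, u, h1, h2, h3⟩ := ex33
  exact Fu.map _ (ClassicalGeometry.PSL2Basic.pslMap_injective (ZMod.castHom dvd_rfl F))
    (fu_of_pow (x := (x : PSL 3 (ZMod 3))) (j := 3) (orderOf_eq_prime_pow (p := 2) (n := 2)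
      (fun k => h3 (mem_center_iff.1 ((QuotientGroup.eq_one_iff (x ^ 2 ^ 2)).1 k) u)) (congrArg (QuotientGroup.mk' _) h2))
      ((QuotientGroup.mk' _).map_isConj (isConj_iff.2 ⟨g, mul_inv_eq_iff_eq_mul.2 h1⟩ : IsConj x (x ^ 3))) (by decide)
      (by decide))

/-! ### `U₃` -/

theorem torU (hp : p.Prime) [CharP F p] (hF : Fintype.card F = n ^ 2) (h2 : 2 ≤ n) :
    ∃ g : PSU 3 F n, Nat.card (PSU 3 F n) = orderOf g * (n ^ 3 * ((n + 1) * (n ^ 2 - 1))) := by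
  have := Fact.mk hp
  obtain ⟨g, hg⟩ := H127.PSUThreeEx.ex_four p hF _ dvd_rfl
  obtain ⟨m, rfl⟩ := Nat.exists_eq_add_of_le' h2
  rw [show (m + 2) ^ 2 - (m + 2) + 1 = (m + 2 + 1) * m + 3 by
    rw [show (m + 2) ^ 2 - (m + 2) = (m + 2) * (m + 1) from Nat.sub_eq_of_eq_add (by ring)]; ring] at hg
  refine ⟨g, Nat.eq_of_mul_eq_mul_left (Nat.gcd_pos_of_pos_left (m + 2 + 1) three_pos) ?_⟩
  rw [H680.Six.psu3_card hF, hg, ← mul_assoc (Nat.gcd 3 _), Nat.mul_div_cancel'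
    (dvd_add ((Nat.gcd_dvd_right 3 _).mul_right _) (Nat.gcd_dvd_left 3 _))]
  ring

theorem dU [hs : IsSimpleGroup S] (hn : ¬ IsMulCommutative S) (hp : p.Prime) [CharP F p] (ha : 1 ≤ a)
    (hF : Fintype.card F = (p ^ a) ^ 2) (h3 : 3 ≤ p ^ a) (e : S ≃* PSU 3 F (p ^ a)) : ∃ r, 6 * a < r ∧ D3 S p a r := by
  have := Fact.mk hp
  have N := nd_U hs hn hp ha hF le_rfl (by omega) e
  obtain ⟨g, hg⟩ := torU hp hF (by omega)
  rw [← Nat.card_congr e.toEquiv, ← e.symm.orderOf_eq] at hg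
  obtain ⟨r, hr, h1, h2, -, h4, h5, h6⟩ := N.ppd (k := 6) ⟨by decide, by decide, by decide⟩ (by omega) (by
    rintro ⟨rfl, k⟩
    obtain rfl : a = 1 := by omega
    omega)
  have h7 : ∀ m, r ∣ p ^ m - 1 → 3 * a ∣ m := fun m hm => (show 3 * a ∣ a * 6 from ⟨2, by ring⟩).trans (h1 ▸ ord_dvd hp.pos hm)
  refine ⟨r, by omega, .of hn N rfl rfl hg (H127.PSUThreeEx.succ_dvd _) hr (by omega) h4 h5 h6 (fun k => ?_)
    (not_real (e.symm.toMonoidHom.comp (QuotientGroup.mk' _)) (e.symm.surjective.comp (QuotientGroup.mk'_surjective _))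
      (fun z hz => ?_) ((Nat.coprime_primes hr Nat.prime_three).2 (by omega))
      (nr_gl hr ?_ (H918.suHom 3 F _) H918.suHom_injective)) (.inl h7) fun h8 _ => ?_⟩
  · rw [← pow_mul] at k
    have := Nat.le_of_dvd (by omega) (h7 _ k)
    omega
  · have h8 := (QuotientGroup.eq_one_iff z).1 (e.symm.map_eq_one_iff.1 hz)
    exact ⟨orderOf_dvd_iff_pow_eq_one.1 ((orderOf_dvd_natCard _ h8).trans
      (S0279.result hF 3 le_rfl ▸ Nat.gcd_dvd_left _ _)), mem_center_iff.1 h8⟩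
  · rw [Nat.card_eq_fintype_card, hF, ← pow_mul, ord_pow h1 (by omega), show a * 6 = a * 2 * 3 by ring,
      Nat.gcd_mul_right_left, Nat.mul_div_cancel_left _ (by omega)]
  · obtain ⟨P, -, -, h9, h10, -⟩ := H983.Cov.U3.exists_tor h8 hF h3
    refine ⟨P.map e.symm.toMonoidHom, by rw [card_map_of_injective e.symm.injective, h9, pow_mul'], ?_⟩
    rintro _ ⟨x, hx, rfl⟩
    rw [← map_pow, h10 x hx, map_one]

open UThreeGen.MatGroup HKS.EndU H212.U3.Model H904.PVU in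
theorem fuU (hF : Fintype.card F = n ^ 2) (h3 : 3 ≤ n) : ∃ m, m ∣ n ^ 2 - 1 ∧ Fu (PSU 3 F n) m := by
  obtain ⟨σ, hσ, π, D⟩ := H904.PVU.exists_setup hF h3
  obtain ⟨l, hl⟩ := H127.PSUThreeEx.exists_unit_order hF dvd_rfl
  have h1 : ∀ j, π (tor σ l) ^ j = 1 → l ^ (j * (n - 2)) = 1 := fun j h => by
    rw [← map_pow, ← map_pow] at h
    obtain ⟨x, hx⟩ := exists_a (σ := σ) D.card D.hs 1
    have h4 : ((l ^ j : Fˣ) : F) ^ 2 / σ ((l ^ j : Fˣ) : F) * x.a = x.a :=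
      congrArg HG.a (D.act_eq (by rw [h, one_mul, mul_one]) : act (l ^ j) x = x)
    rw [hx, mul_one, div_eq_one_iff_eq (sne _), D.hs] at h4
    have h5 : (l ^ j) ^ 2 = (l ^ j) ^ n := Units.ext (by exact_mod_cast h4)
    rw [pow_mul]
    refine mul_left_cancel (a := (l ^ j) ^ 2) ?_
    rw [← pow_add, mul_one, h5, Nat.add_sub_cancel' (by omega)]
  have h2 : ci σ l = (l ^ n)⁻¹ := congrArg Inv.inv (Units.ext (D.hs l))
  have h4 := D.w_tor l
  rw [h2, map_inv, map_inv, map_pow, map_pow] at h4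
  obtain ⟨m, rfl⟩ := Nat.exists_eq_add_of_le' h3
  have h5 : (m + 3) ^ 2 - 1 = (m + 4) * (m + 2) := Nat.sub_eq_of_eq_add (by ring)
  refine ⟨_, hl ▸ (orderOf_map_dvd π _).trans (orderOf_map_dvd _ l), π (tor σ l), rfl, _,
    inv_mem (pow_mem (mem_zpowers _) (m + 3)), isConj_iff.2 ⟨_, h4⟩, fun e => ?_, fun e => ?_⟩
  · have h6 := Nat.le_of_dvd (Nat.mul_pos (by omega) (by omega)) (orderOf_dvd_of_pow_eq_one (h1 (m + 4) (by
      rw [pow_succ, ← inv_inv (_ ^ (m + 3)), e, inv_mul_cancel])))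
    rw [hl, h5, show m + 3 - 2 = m + 1 from rfl] at h6
    nlinarith
  · have h6 := Nat.le_of_dvd (Nat.mul_pos (by omega) (by omega)) (orderOf_dvd_of_pow_eq_one (h1 (m + 2)
      (mul_eq_right.1 ((pow_succ _ _).symm.trans (inv_injective e)))))
    rw [hl, h5, show m + 3 - 2 = m + 1 from rfl] at h6
    nlinarith

end Cfsg.Agent.N2.G2.L3
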