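import Cfsg.Agent.N2.G2.L3B
import Cfsg.Agent.N2.G2.L3C

/-!
# N2 (S3519), `G₂(q)` and `³D₄(q)` : the box `pL3` (helper97)
-/

set_option autoImplicit false
set_option linter.unusedSectionVars false

namespace Cfsg.Agent.N2.G2

open Subgroup Cfsg Cfsg.Agent.FP3 Cfsg.Agent.N2C.N4 Cfsg.Agent.N2C.RD

namespace L3

variable {p k q : ℕ} {T : Type} [Group T] [Finite T] [IsSimpleGroup T] {d : T → ℕ} {A S : Subgroup T}
  {Γ : Subgroup (MulAut T)} (h : Sh p k q T d) (C : Cx p A Γ) (hS : Sim A Γ S) {s a r : ℕ}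

include h

theorem le_q : p ≤ q := by
  obtain ⟨f, h1, rfl⟩ := h.pw
  exact Nat.le_self_pow h1.ne' p

/-- odd cross characteristic -/
theorem D3.three (D : D3 S s a r) (h2 : s ≠ 2) (hp : s ≠ p) : s = 3 ∧ a = 1 := by
  obtain ⟨Q, h1, h3⟩ := D.exp h2
  have h4 := D.pos
  have h5 : Nat.card (Q.map S.subtype) = s ^ (3 * a) := by rwa [card_map_of_injective S.subtype_injective]
  obtain ⟨rfl, h6⟩ := exp_le h D.prime h2 hp (Q := Q.map S.subtype) (by
    rintro _ ⟨x, hx, rfl⟩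
    rw [← map_pow, h3 x hx, map_one]) (h5 ▸ Nat.pow_le_pow_right D.prime.pos (by omega))
  have h7 := (Nat.pow_le_pow_iff_right (by decide)).1 (h5 ▸ h6 : 3 ^ (3 * a) ≤ 3 ^ 3)
  exact ⟨rfl, by omega⟩

theorem size8 {n c : ℕ} (hn : Nat.card S ≤ n) (h1 : n ≤ c ^ 8) (h2 : n ≤ 2 ^ 16) (h3 : k = 1 → c ≤ q) :
    Nat.card S ≤ q ^ (4 * (k + 1)) := by
  rcases h.par with ⟨rfl, -⟩ | ⟨rfl, h4⟩
  · exact hn.trans (h1.trans (Nat.pow_le_pow_left (h3 rfl) 8))
  · exact hn.trans (h2.trans (Nat.pow_le_pow_left h4 16))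

include C hS

theorem D3.crit (D : D3 S s a r) (hp : r ≠ p) (hi : Nat.card S ≤ q ^ (4 * (k + 1))) : Good A :=
  have ⟨_, h1, h2⟩ := D.aut
  crit_cy' h C hS h1 D.pr (by have := D.big; omega) hp h2 D.cy D.fu le_rfl hi

/-- the defining characteristic -/
theorem D3.own (D : D3 S p a r) : Good A := by
  refine D.crit h C hS D.ne ?_
  rcases D.ord with e | ⟨rfl, rfl⟩
  · exact own_size h C hS.le D.pr D.ne D.rd e D.le (.inr ⟨D.dvd, by omega⟩)
  · refine size8 h D.le (c := 4) (by decide) (by decide) fun e => ?_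
    obtain ⟨f, h1, h2⟩ := h.pw
    have h3 := h.par
    have h4 : 2 ∣ q := h2 ▸ dvd_pow_self 2 h1.ne'
    omega

/-- the small groups in cross characteristic -/
theorem D3.cross (D : D3 S s a r) (hi : Nat.card S ≤ q ^ (4 * (k + 1))) {m c : ℕ} (hm : m ∣ (s ^ a) ^ 2 - 1) (hf : Fu S m)
    (h1 : c ≤ r) (h2 : 2 * a * (s ^ a) ^ 8 ≤ c ^ 7) : Good A := by
  by_cases hp : r = p
  · subst hp
    exact h.good_fu hS.le hf (D.pr.coprime_iff_not_dvd.2 fun e => D.nd (e.trans hm)).symm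
      ((hS.card_le C).trans (D.aut_le.trans (h2.trans (Nat.pow_le_pow_left (h1.trans (le_q h)) 7))))
      (num7 h (D.big.trans (le_q h)))
  · exact D.crit h C hS hp hi

theorem good_l3 {F : Type} [Field F] [Fintype F] (ho : Odd (Fintype.card F) ∨ p = 2) (e : S ≃* PSL 3 F) : Good A := by
  obtain ⟨s, _⟩ := CharP.exists F
  have hs := CharP.char_is_prime F s
  obtain ⟨a, ha, hF⟩ := exists_f F s
  obtain ⟨r, D⟩ := dL (hs := hS.simple) hS.nonab hs ha hF e
  by_cases h1 : s = p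
  · subst h1
    exact D.own h C hS
  obtain ⟨rfl, rfl⟩ := D.three h (by
    rintro rfl
    exact ho.elim (fun k => Nat.not_even_iff_odd.2 k (even_iff_two_dvd.2 (hF ▸ dvd_pow_self 2 (by omega)))) fun k => h1 k.symm) h1
  exact D.cross h C hS (size8 h D.le (c := 3) (by decide) (by decide) fun _ => by have := h.par; omega) (by decide)
    ((fuL hF).map e.symm.toMonoidHom e.symm.injective) D.big (by decide)

theorem good_u3 {F : Type} [Field F] [Fintype F] {n : ℕ} (hF : Fintype.card F = n ^ 2)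
    (ho : Odd n ∨ (p = 2 ∧ 4 ≤ n) ∨ n = 4 ∨ n = 8) (e : S ≃* PSU 3 F n) : Good A := by
  obtain ⟨s, _⟩ := CharP.exists F
  have hs := CharP.char_is_prime F s
  obtain ⟨a, ha, rfl⟩ := exists_f' F hs two_ne_zero hF
  have h3 : 3 ≤ s ^ a := by
    have := Nat.one_lt_pow (by omega : a ≠ 0) hs.one_lt
    rcases ho with ⟨j, k⟩ | k | k | k <;> omega
  obtain ⟨r, hr, D⟩ := dU (hs := hS.simple) hS.nonab hs ha hF h3 e
  by_cases h1 : s = p
  · subst h1
    exact D.own h C hS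
  obtain ⟨m, hm, hf⟩ := fuU hF h3
  replace hf := hf.map e.symm.toMonoidHom e.symm.injective
  have hc := H680.Six.psu3_card hF
  rw [← Nat.card_congr e.toEquiv] at hc
  by_cases h2 : s = 2
  · subst h2
    rcases ho with k | k | k | k
    · exact absurd (even_iff_two_dvd.2 (dvd_pow_self 2 (by omega))) (Nat.not_even_iff_odd.2 k)
    · exact absurd k.1.symm h1
    · obtain rfl : a = 2 := Nat.pow_right_injective le_rfl k
      exact D.cross h C hS (size_of h (n := 62400) (a := 4) (b := 2) (by norm_num at hc; exact hc) (by decide +kernel)) hm hf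
        D.big (by decide)
    · obtain rfl : a = 3 := Nat.pow_right_injective le_rfl k
      exact D.cross h C hS (size_of h (n := 5515776) (a := 7) (b := 3) (by norm_num at hc; omega) (by decide +kernel)) hm hf
        hr (by decide)
  obtain ⟨rfl, rfl⟩ := D.three h h2 h1
  exact D.cross h C hS (size8 h D.le (c := 3) (by decide) (by decide) fun _ => by have := h.par; omega) hm hf D.big (by decide)

end L3

open L3 in
/-- **[L3]** -/
theorem boxL3 : BoxSim pL3 := by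
  rintro p k q T _ _ _ d A Γ h C S hS ⟨F, _, _, ⟨h1, h2, h3, h4, ⟨e⟩⟩ | ⟨h1, ⟨e⟩⟩ | ⟨n, h1, h2, ⟨e⟩⟩⟩
  exacts [good_l2 h C hS h1 h2 h3 h4 e, good_l3 h C hS h1 e, good_u3 h C hS h1 h2 e]

end Cfsg.Agent.N2.G2
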