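import Cfsg.Agent.N2.G2.L2T
import Cfsg.Agent.N2.L2.Mat
import Cfsg.Agent.H648.DG.Psl2Inv
import Cfsg.Agent.S0813

/-!
# N2, `³D₄(q)`, `q` odd: the socles `L₂(n)` in the defining characteristic (helper42)
-/

set_option autoImplicit false
set_option linter.unusedSectionVars false

namespace Cfsg.Agent.N2.G2

open Subgroup Cfsg Cfsg.Agent.FP3 Cfsg.Agent.ClassicalGeometry Cfsg.Agent.N2.L2 Polynomial

namespace Odo

variable {F : Type} [Field F]

theorem mul_ent (X Y : SL2 F) (i j : Fin 2) : (X * Y).1 i j = X.1 i 0 * Y.1 0 j + X.1 i 1 * Y.1 1 j := by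
  change (X.1 * Y.1) i j = _
  rw [Matrix.mul_apply, Fin.sum_univ_two]

theorem ne_one {X : SL2 F} (h : (X.1 0 0 + X.1 1 1) ^ 2 ≠ 4) : (QuotientGroup.mk X : PL F) ≠ 1 := fun k => by
  rcases PSL2Basic.mem_center_SL2_iff.1 ((QuotientGroup.eq_one_iff X).1 k) with rfl | rfl
  · exact h (by change ((1 : F) + 1) ^ 2 = 4; norm_num)
  · exact h (by change ((-1 : F) + -1) ^ 2 = 4; norm_num)

/-- an element of trace different from `± 2` has order prime to `p` -/
theorem cop {p : ℕ} [hp : Fact p.Prime] [CharP F p] (h2 : p ≠ 2) [Finite F] {W : SL2 F}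
    (h : (W.1 0 0 + W.1 1 1) ^ 2 ≠ 4) : (orderOf (QuotientGroup.mk W : PL F)).Coprime p := by
  refine (hp.1.coprime_iff_not_dvd.2 fun k => h ?_).symm
  have h1 := orderOf_pow_orderOf_div (orderOf_pos _).ne' k
  generalize orderOf (QuotientGroup.mk W : PL F) / p = m at h1
  rw [← QuotientGroup.mk_pow] at h1
  have h3 : (QuotientGroup.mk (W ^ m) : PL F) ≠ 1 := fun e => hp.1.ne_one (by rw [← h1, e, orderOf_one])
  have h4 := pow_orderOf_eq_one (QuotientGroup.mk (W ^ m) : PL F)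
  rw [h1, ← QuotientGroup.mk_pow, QuotientGroup.eq_one_iff, PSL2Basic.mem_center_SL2_iff] at h4
  have h5 : W * W ^ m = W ^ m * W := ((Commute.refl W).pow_right m).eq
  generalize W ^ m = Z at h3 h4 h5
  obtain ⟨r, hr⟩ : ∃ r : F, Z.1 ^ p = (r ^ p) • (1 : Matrix (Fin 2) (Fin 2) F) := by
    have h6 : Z.1 ^ p = (Z ^ p).1 := (Matrix.SpecialLinearGroup.coe_pow Z p).symm
    rcases h4 with e | e
    · exact ⟨1, by rw [h6, e, one_pow, one_smul]; rfl⟩
    · exact ⟨-1, by rw [h6, e, (hp.1.odd_of_ne_two h2).neg_one_pow, neg_smul, one_smul]; rfl⟩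
  have h6 : IsNilpotent (Z.1 - r • 1) := ⟨p, by
    have := add_pow_char_of_commute p (show Commute (Z.1 - r • 1) (r • (1 : Matrix (Fin 2) (Fin 2) F)) from
      (Commute.one_right _).smul_right r)
    rw [sub_add_cancel, hr, _root_.smul_pow, one_pow] at this
    exact (add_eq_right.1 this.symm)⟩
  have h7 := (Matrix.isNilpotent_trace_of_isNilpotent h6).eq_zero
  have h8 : (Z.1 - r • 1).det = 0 := by
    obtain ⟨n, hn⟩ := h6
    exact IsNilpotent.eq_zero ⟨n, by rw [← Matrix.det_pow, hn, Matrix.det_zero]⟩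
  obtain ⟨a, b, e⟩ := exists_lin (not_scalar h3) (X := W.1) (congrArg Subtype.val h5)
  have dW : W.1 0 0 * W.1 1 1 - W.1 0 1 * W.1 1 0 = 1 := by rw [← Matrix.det_fin_two]; exact W.2
  have y00 : W.1 0 0 = a * Z.1 0 0 + b := by rw [e]; simp
  have y01 : W.1 0 1 = a * Z.1 0 1 := by rw [e]; simp
  have y10 : W.1 1 0 = a * Z.1 1 0 := by rw [e]; simp
  have y11 : W.1 1 1 = a * Z.1 1 1 + b := by rw [e]; simp
  have k1 : Z.1 0 0 - r + (Z.1 1 1 - r) = 0 := by
    rw [Matrix.trace_fin_two, Matrix.sub_apply, Matrix.sub_apply] at h7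
    simpa using h7
  have k2 : (Z.1 0 0 - r) * (Z.1 1 1 - r) - Z.1 0 1 * Z.1 1 0 = 0 := by simpa [Matrix.det_fin_two] using h8
  rw [y00, y01, y10, y11] at dW
  rw [y00, y11]
  linear_combination 4 * dW - 4 * a ^ 2 * k2 + a ^ 2 * (Z.1 0 0 - r + (Z.1 1 1 - r)) * k1

/-- the four-group -/
theorem v4 {p : ℕ} [hp : Fact p.Prime] [CharP F p] (h2 : (2 : F) ≠ 0) [Finite F] : V4 (PL F) := by
  have := NeZero.mk hp.1.ne_zero
  obtain ⟨u, v, huv⟩ : ∃ u v : F, u ^ 2 + v ^ 2 = -1 := by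
    obtain ⟨u, v, e⟩ := CharP.sq_add_sq F p (-1)
    exact ⟨u, v, by rw [e]; simp⟩
  let A : SL2 F := ⟨!![0, 1; -1, 0], by simp [Matrix.det_fin_two]⟩
  let B : SL2 F := ⟨!![u, v; v, -u], by rw [Matrix.det_fin_two_of]; linear_combination -huv⟩
  have h4 : (0 : F) ^ 2 ≠ 4 := fun e => h2 (pow_eq_zero_iff two_ne_zero |>.1 (by linear_combination -e))
  have tA : A.1 0 0 + A.1 1 1 = 0 := add_zero 0
  have tB : B.1 0 0 + B.1 1 1 = 0 := add_neg_cancel u
  have tC : (A * B).1 0 0 + (A * B).1 1 1 = 0 := by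
    rw [mul_ent, mul_ent]
    change 0 * u + 1 * v + (-1 * v + 0 * -u) = 0
    ring
  have sq : ∀ X : SL2 F, X.1 0 0 + X.1 1 1 = 0 → (QuotientGroup.mk X : PL F) * QuotientGroup.mk X = 1 := fun X e => by
    rw [← QuotientGroup.mk_mul, H158.PslTwoClass.mul_self_of_trace e, mk_neg, QuotientGroup.mk_one]
  have hA := sq A tA
  have hB := sq B tB
  have hC := sq _ tC
  have nC := ne_one (X := A * B) (tC ▸ h4)
  rw [QuotientGroup.mk_mul] at hC nC
  refine v4_of (a := QuotientGroup.mk A) (b := QuotientGroup.mk B) ((pow_two _).trans hA) ((pow_two _).trans hB)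
    (ne_one (tA ▸ h4)) (ne_one (tB ▸ h4)) (fun e => nC (by rw [e, hB])) ?_ fun g h5 h6 h7 => ?_
  · rw [← inv_eq_of_mul_eq_one_right hC, mul_inv_rev, inv_eq_of_mul_eq_one_right hA, inv_eq_of_mul_eq_one_right hB]
  by_contra h8
  have h9 : Nz g := Or.inl fun e => h8 (orderOf_eq_one_iff.1 ((Nat.coprime_two_right.2 h7).eq_one_of_dvd
    (orderOf_dvd_of_pow_eq_one ((pow_two g).trans e))))
  obtain ⟨G, rfl⟩ := QuotientGroup.mk_surjective g
  have e1 := lift_comm h5 h9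
  have e2 := lift_comm h6 h9
  have a1 := congrArg (fun X : SL2 F => X.1 0 0) e1
  have a2 := congrArg (fun X : SL2 F => X.1 0 1) e1
  have a3 := congrArg (fun X : SL2 F => X.1 0 0) e2
  have a4 := congrArg (fun X : SL2 F => X.1 0 1) e2
  simp only [mul_ent] at a1 a2 a3 a4
  change G.1 0 0 * 0 + G.1 0 1 * -1 = 0 * G.1 0 0 + 1 * G.1 1 0 at a1
  change G.1 0 0 * 1 + G.1 0 1 * 0 = 0 * G.1 0 1 + 1 * G.1 1 1 at a2
  change G.1 0 0 * u + G.1 0 1 * v = u * G.1 0 0 + v * G.1 1 0 at a3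
  change G.1 0 0 * v + G.1 0 1 * -u = u * G.1 0 1 + v * G.1 1 1 at a4
  have b1 : G.1 0 1 = 0 := by
    refine (mul_eq_zero.1 (show 2 * G.1 0 1 = 0 from ?_)).resolve_left h2
    linear_combination (-v) * a3 + u * a4 + v ^ 2 * a1 - u * v * a2 + 2 * G.1 0 1 * huv
  refine not_scalar h8 (G.1 0 0) ?_
  ext i j
  fin_cases i <;> fin_cases j <;> simp [b1]
  · linear_combination -a1 - b1
  · linear_combination -a2

theorem quad_ne {a b c : F} (h : a ≠ 0 ∨ b ≠ 0 ∨ c ≠ 0) : (C a * X ^ 2 + C b * X + C c : F[X]) ≠ 0 := fun e => by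
  have h0 := congrArg (coeff · 0) e
  have h1 := congrArg (coeff · 1) e
  have h2 := congrArg (coeff · 2) e
  simp [coeff_X, coeff_C] at h0 h1 h2
  tauto

theorem good_s [Fintype F] (hn : 11 ≤ Fintype.card F) (h2 : (2 : F) ≠ 0) {b c : F} (h : c ≠ 0 ∨ b ≠ 0) :
    ∃ s : F, s ≠ 0 ∧ c * s ^ 2 + b ≠ 0 ∧ c * s ^ 2 - b ≠ 0 ∧ c * s ^ 2 - 2 * s - b ≠ 0 ∧ c * s ^ 2 + 2 * s - b ≠ 0 := by
  by_contra k
  push Not at k
  have h1 := eq_zero_of_natDegree_lt_card_of_eval_eq_zero (X * ((C c * X ^ 2 + C 0 * X + C b) * (C c * X ^ 2 + C 0 * X + C (-b)) *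
    ((C c * X ^ 2 + C (-2) * X + C (-b)) * (C c * X ^ 2 + C 2 * X + C (-b)))) : F[X]) Function.injective_id (fun s => by
      simp only [eval_mul, eval_add, eval_C, eval_X, eval_pow, id]
      by_contra e
      simp only [mul_eq_zero, not_or] at e
      obtain ⟨e0, ⟨e1, e2⟩, e3, e4⟩ := e
      have := k s e0 (fun t => e1 (by linear_combination t)) (fun t => e2 (by linear_combination t))
        fun t => e3 (by linear_combination t)
      exact e4 (by linear_combination this)) (lt_of_le_of_lt (natDegree_mul_le.trans (add_le_add natDegree_X_le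
      (natDegree_mul_le.trans (add_le_add (natDegree_mul_le.trans (add_le_add natDegree_quadratic_le natDegree_quadratic_le))
        (natDegree_mul_le.trans (add_le_add natDegree_quadratic_le natDegree_quadratic_le)))))) (by omega))
  exact mul_ne_zero X_ne_zero (mul_ne_zero (mul_ne_zero (quad_ne (h.imp_right Or.inr))
    (quad_ne (h.imp_right fun e => Or.inr (neg_ne_zero.2 e)))) (mul_ne_zero (quad_ne (Or.inr (Or.inl (neg_ne_zero.2 h2))))
      (quad_ne (Or.inr (Or.inl h2))))) h1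

/-- a generating triple of elements of order prime to `p` -/
theorem gen [Fintype F] {p : ℕ} [hp : Fact p.Prime] [CharP F p] (hp2 : p ≠ 2) (h2 : (2 : F) ≠ 0) (hn : 11 ≤ Fintype.card F) :
    ∃ x y : PL F, Subgroup.closure {x, y} = ⊤ ∧ x ≠ 1 ∧ x * y ≠ 1 ∧ (orderOf x).Coprime p ∧ (orderOf (x * y)).Coprime p ∧
      orderOf y * 2 = Fintype.card F + 1 := by
  obtain ⟨a, t, ha, -, -, hneg, -, hT⟩ := NonsplitTorus.exists_torus_TI F
  have hy : orderOf (QuotientGroup.mk a : PL F) = _ := PSLTorus.orderOf_pr a ha hneg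
  obtain ⟨m, hm⟩ := (PSL2Basic.two_ne_zero_iff_odd (F := F)).1 h2
  have hg : Nat.gcd 2 (Fintype.card F - 1) = 2 := Nat.gcd_eq_left ⟨m, by omega⟩
  have h6 : orderOf (QuotientGroup.mk a : PL F) * 2 = Fintype.card F + 1 := by rw [hy, hg]; omega
  have da : a.1 0 0 * a.1 1 1 - a.1 0 1 * a.1 1 0 = 1 := by rw [← Matrix.det_fin_two]; exact a.2
  have hbc : a.1 1 0 ≠ 0 ∨ a.1 0 1 ≠ 0 := by
    by_contra k
    push Not at k
    rw [k.1, mul_zero, sub_zero] at da
    have h3 : a.1 = Matrix.diagonal ![a.1 0 0, a.1 1 1] := by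
      ext i j
      fin_cases i <;> fin_cases j <;> simp [k.1, k.2]
    have h4 : a ^ (Fintype.card F - 1) = 1 := Subtype.ext (by
      refine (Matrix.SpecialLinearGroup.coe_pow a _).trans ?_
      change a.1 ^ _ = 1
      rw [h3, Matrix.diagonal_pow, ← Matrix.diagonal_one]
      congr 1
      funext i
      fin_cases i
      exacts [FiniteField.pow_card_sub_one_eq_one _ (left_ne_zero_of_mul_eq_one da),
        FiniteField.pow_card_sub_one_eq_one _ (right_ne_zero_of_mul_eq_one da)])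
    have := Nat.le_of_dvd (by omega) (orderOf_dvd_of_pow_eq_one h4)
    omega
  obtain ⟨s, s0, s1, s2, s3, s4⟩ := good_s hn h2 hbc
  let W : SL2 F := ⟨!![0, s; -s⁻¹, 0], by rw [Matrix.det_fin_two_of]; field_simp; ring⟩
  have hs := mul_inv_cancel₀ s0
  have h4 : (0 : F) ^ 2 ≠ 4 := fun e => h2 (pow_eq_zero_iff two_ne_zero |>.1 (by linear_combination -e))
  have tW : W.1 0 0 + W.1 1 1 = 0 := add_zero 0
  have tC : ((W * a).1 0 0 + (W * a).1 1 1) * s = a.1 1 0 * s ^ 2 - a.1 0 1 := by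
    rw [mul_ent, mul_ent]
    change (0 * a.1 0 0 + s * a.1 1 0 + (-s⁻¹ * a.1 0 1 + 0 * a.1 1 1)) * s = _
    linear_combination (-a.1 0 1) * hs
  have h5 : ((W * a).1 0 0 + (W * a).1 1 1) ^ 2 ≠ 4 := fun e => mul_ne_zero s3 s4 (by
    rw [show ∀ u v w : F, (u - v - w) * (u + v - w) = (u - w) ^ 2 - v ^ 2 by intros; ring, ← tC]
    linear_combination s ^ 2 * e)
  refine ⟨QuotientGroup.mk W, QuotientGroup.mk a, ?_, ne_one (tW ▸ h4), ne_one h5, cop hp2 (tW ▸ h4), cop hp2 h5, h6⟩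
  refine (H648.DG.Psl2.torus_case hy (Or.inl (by omega)) _ (subset_closure (Or.inr rfl))).resolve_right fun k => ?_
  have h7 := (mem_normalizer_iff''.1 (k (subset_closure (Or.inl rfl))) _).1 (mem_zpowers (QuotientGroup.mk a : PL F))
  obtain ⟨j, hj⟩ := h7
  have h8 : W⁻¹ * a * W ∈ zpowers a := by
    have h9 : (QuotientGroup.mk (a ^ j) : PL F) = QuotientGroup.mk (W⁻¹ * a * W) := hj
    rw [QuotientGroup.eq, PSL2Basic.mem_center_SL2_iff] at h9
    rw [← mul_inv_cancel_left (a ^ j) (W⁻¹ * a * W)]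
    refine mul_mem ⟨j, rfl⟩ ?_
    rcases h9 with e | e <;> rw [e]
    exacts [one_mem _, hneg]
  have h9 : (QuotientGroup.mk a : PL F) ≠ 1 := fun e => by rw [e, orderOf_one] at h6; omega
  rcases hT a (mem_zpowers a) (fun e => h9 (by rw [e, QuotientGroup.mk_one]))
    (fun e => h9 (by rw [e, mk_neg, QuotientGroup.mk_one])) W h8 with ⟨-, e⟩ | ⟨-, e⟩
  · have e1 := congrArg (fun X : SL2 F => X.1 0 0) (show a * W = W * a by rw [← inv_mul_eq_iff_eq_mul, ← mul_assoc, e])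
    simp only [mul_ent] at e1
    change a.1 0 0 * 0 + a.1 0 1 * -s⁻¹ = 0 * a.1 0 0 + s * a.1 1 0 at e1
    exact s1 (by linear_combination (-s) * e1 - a.1 0 1 * hs)
  · have e1 : a * (W * a) = W := by rw [← mul_assoc, ← mul_inv_cancel_left W (a * W), ← mul_assoc W⁻¹, e, inv_mul_cancel_right]
    have e2 := PSL2Basic.sl2_mul_self (W * a)
    have e3 : W * a * (W * a) = -1 := by rw [mul_assoc, e1, H158.PslTwoClass.mul_self_of_trace tW]
    have e4 : (W * a).1.trace • (W * a).1 = 0 := by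
      have := congrArg Subtype.val e3
      change (W * a).1 * (W * a).1 = -1 at this
      rw [e2] at this
      exact sub_left_inj.1 (this.trans (zero_sub 1).symm)
    rcases smul_eq_zero.1 e4 with e5 | e5
    · exact s2 (by rw [← tC, ← Matrix.trace_fin_two, e5, zero_mul])
    · have := (W * a).2
      rw [e5, Matrix.det_zero] at this
      exact zero_ne_one this

theorem three_le {p f : ℕ} (hp : 3 ≤ p) : 3 * f ≤ p ^ f := by
  refine le_trans ?_ (Nat.pow_le_pow_left hp f)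
  cases f with
  | zero => exact Nat.zero_le _
  | succ f => rw [pow_succ']; exact Nat.mul_le_mul_left _ (Nat.lt_pow_self (by decide))

end Odo

/-- **`³D₄(q)`, `q` odd, socle `L₂(n)` in the defining characteristic** -/
theorem boxOdo : BoxOdo := by
  rintro p k q T _ _ _ d A Γ h C ⟨rfl, hp⟩ S hS ⟨F, _, _, ⟨h1, h2⟩, ⟨e⟩⟩
  have := Fact.mk h.prime
  obtain ⟨p', hc, ⟨a, a0⟩, hp', ha⟩ := FiniteField.card' F
  change Fintype.card F = p' ^ a at ha
  obtain rfl : p = p' := (Nat.prime_dvd_prime_iff_eq h.prime hp').1 (h.prime.dvd_of_dvd_pow (ha ▸ h1))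
  have ho : Odd (Fintype.card F) := ha ▸ (hp'.odd_of_ne_two hp).pow
  have h3 := (PSL2Basic.two_ne_zero_iff_odd (F := F)).2 ho
  obtain ⟨x, y, k1, k2, k3, k4, k5, k6⟩ := Odo.gen (F := F) hp h3 h2
  have k7 : orderOf ((e.symm y : S) : T) * 2 = p ^ a + 1 := by rw [orderOf_coe, e.symm.orderOf_eq, k6, ha]
  have h4 := h.cube le_rfl a0 k7
  obtain ⟨f, hf, hq⟩ := h.pw
  have h5 : a ≤ q := by
    rw [hq, ← pow_mul, Nat.pow_le_pow_iff_right hp'.one_lt] at h4
    have := Odo.three_le (f := f) (show 3 ≤ p by have := hp'.two_le; omega)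
    omega
  have h6 : 2 * a * Nat.card S = a * (p ^ a * ((p ^ a) ^ 2 - 1)) := by
    rw [Nat.card_congr e.toEquiv, ← ha, ← PSL2Basic.card_PSL2_odd F ho]
    ring
  refine good_tri h C hS hp (o := 2 * a) (dvd_of_eq ?_) (Nat.mul_pos two_pos a0) (by omega) ((Odo.v4 (p := p) h3).congr e)
    (x := e.symm x) (y := e.symm y) ?_ (e.symm.map_ne_one_iff.2 k2) (e.symm.map_ne_one_iff.2 fun t => ?_) ?_ ?_ ?_ ?_ ?_
  · rw [h6, Nat.card_congr (MulAut.congr e).toEquiv, S0813.result p a a0 ha 2 le_rfl fun _ => by omega,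
      PSL2Basic.card_PGL2, ha, if_pos rfl, one_mul]
  · have := congrArg (Subgroup.map e.symm.toMonoidHom) k1
    rwa [MonoidHom.map_closure, Set.image_pair, map_top_of_surjective _ e.symm.surjective] at this
  · rw [t, orderOf_one] at k6
    omega
  · rw [← map_mul]
    exact e.symm.map_ne_one_iff.2 k3
  · rwa [e.symm.orderOf_eq]
  · rw [e.symm.orderOf_eq]
    refine (hp'.coprime_iff_not_dvd.2 fun t => hp'.ne_one (Nat.dvd_one.1 ((Nat.dvd_add_right h1).1 ?_))).symm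
    exact k6 ▸ t.mul_right 2
  · rwa [← map_mul, e.symm.orderOf_eq]
  · rw [h6]
    calc _ ≤ q * (q ^ 3 * (q ^ 3) ^ 2) :=
          Nat.mul_le_mul h5 (Nat.mul_le_mul h4 ((Nat.sub_le _ _).trans (Nat.pow_le_pow_left h4 2)))
      _ = q ^ 10 := by ring

end Cfsg.Agent.N2.G2
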