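import Cfsg.Agent.N2.G2.Tri
import Cfsg.Agent.S0126

/-!
# N2-G2, odd local subgroups: group theoretic tools (helper55)
-/

set_option autoImplicit false
set_option linter.unusedSectionVars false

namespace Cfsg.Agent.N2.G2.LocO

open Subgroup Cfsg Cfsg.Agent.FP3
open Cfsg.Agent.SB.Low (EA Nz Cz)

variable {T : Type} [Group T] [Finite T]

theorem mem_cen {x g : T} : g ∈ centralizer ({x} : Set T) ↔ g * x = x * g := mem_centralizer_singleton_iff

theorem relIndex_le (A : Subgroup T) (x : T) (S : Set T) (h : ∀ a ∈ A, a * x * a⁻¹ ∈ S) :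
    (centralizer {x}).relIndex A ≤ S.ncard := by
  rw [← Nat.card_coe_set_eq]
  refine Nat.card_le_card_of_injective
    (fun c : A ⧸ (centralizer {x}).subgroupOf A => (⟨_, h c.out c.out.2⟩ : S)) fun c c' e => ?_
  rw [← QuotientGroup.out_eq' c, ← QuotientGroup.out_eq' c', QuotientGroup.eq, mem_subgroupOf, mem_cen]
  have e' : (c.out : T) * x * (c.out : T)⁻¹ = c'.out * x * (c'.out : T)⁻¹ := congrArg Subtype.val e
  simp only [coe_mul, coe_inv]
  calc (c.out : T)⁻¹ * c'.out * x = (c.out : T)⁻¹ * (c'.out * x * (c'.out : T)⁻¹) * c'.out := by group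
    _ = x * ((c.out : T)⁻¹ * c'.out) := by rw [← e']; group

theorem card_eq (B A : Subgroup T) : Nat.card A = B.relIndex A * Nat.card (B ⊓ A : Subgroup T) := by
  rw [← inf_relIndex_right, mul_comm, ← (B ⊓ A).relIndex_bot_left, ← A.relIndex_bot_left,
    relIndex_mul_relIndex _ _ _ bot_le inf_le_right]

theorem card_le (A : Subgroup T) (x : T) (S : Set T) (h : ∀ a ∈ A, a * x * a⁻¹ ∈ S) : Nat.card A ≤ S.ncard * cn x := by
  rw [card_eq (centralizer {x}) A]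
  exact Nat.mul_le_mul (relIndex_le A x S h) (card_le_of_le inf_le_left)

theorem two_le {B A : Subgroup T} (h : B ≤ A) {g : T} (hg : g ∈ A) (hg' : g ∉ B) : 2 * Nat.card B ≤ Nat.card A := by
  rw [card_eq B A, inf_eq_left.2 h]
  have h1 : B.relIndex A ≠ 1 := fun e => hg' (relIndex_eq_one.1 e hg)
  have h2 : B.relIndex A ≠ 0 := index_ne_zero_of_finite
  exact Nat.mul_le_mul_right _ (by omega)

theorem cc_le' (A H : Subgroup T) (x : T) (h : ∀ g ∈ A, IsConj x g → g ∈ H) : cc A x ≤ Nat.card H :=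
  Nat.card_le_card_of_injective (fun g : {g : T // IsConj x g ∧ g ∈ A} => (⟨g.1, h g.1 g.2.2 g.2.1⟩ : H))
    fun _ _ e => Subtype.ext (congrArg Subtype.val e :)

theorem good_half {A H : Subgroup T} {x : T} (hx : x ∈ A) (h : ∀ g ∈ A, IsConj x g → g ∈ H) (h2 : 2 * Nat.card H ≤ Nat.card A)
    {c : ℕ} (hc : cn x ≤ c) (h4 : c ^ 3 * Nat.card H ≤ 4 * Nat.card T) : Good A := by
  refine good_of_cc hx hc (cc_le' A H x h) ?_
  calc (c * Nat.card H) ^ 3 = c ^ 3 * Nat.card H * Nat.card H ^ 2 := by ring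
    _ ≤ 4 * Nat.card T * Nat.card H ^ 2 := Nat.mul_le_mul_right _ h4
    _ = Nat.card T * (2 * Nat.card H) ^ 2 := by ring
    _ ≤ _ := Nat.mul_le_mul_left _ (Nat.pow_le_pow_left h2 2)

theorem exists_sub (H : Subgroup T) {l n : ℕ} (hl : l.Prime) (h : l ^ n ∣ Nat.card H) : ∃ P ≤ H, Nat.card P = l ^ n := by
  have := Fact.mk hl
  obtain ⟨P, hP⟩ := Sylow.exists_subgroup_card_pow_prime l h
  exact ⟨P.map H.subtype, map_subtype_le P, by rw [card_map_of_injective H.subtype_injective, hP]⟩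

theorem exists_ord (H : Subgroup T) {l : ℕ} (hl : l.Prime) (h : l ∣ Nat.card H) : ∃ y ∈ H, orderOf y = l := by
  have := Fact.mk hl
  obtain ⟨y, hy⟩ := exists_prime_orderOf_dvd_card' l h
  exact ⟨y, y.2, by rw [orderOf_coe, hy]⟩

theorem ord_dvd {H : Subgroup T} {y : T} (h : y ∈ H) : orderOf y ∣ Nat.card H := orderOf_dvd_natCard H h

theorem pg (H : Subgroup T) {l n : ℕ} (hl : l.Prime) (h2 : l ≠ 2) (h : l ^ n ∣ Nat.card H) :
    (∃ x ∈ H, orderOf x = l ^ n) ∨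
      ∃ P E : Subgroup T, E ≤ P ∧ P ≤ H ∧ Nat.card P = l ^ n ∧ EA l E ∧ Nat.card E = l ^ 2 ∧ P ≤ Nz E := by
  have := Fact.mk hl
  obtain ⟨P, hP, hc⟩ := exists_sub H hl h
  by_cases hy : IsCyclic P
  · obtain ⟨x, hx⟩ := IsCyclic.exists_ofOrder_eq_natCard (α := P)
    exact .inl ⟨x, hP x.2, by rw [orderOf_coe, hx, hc]⟩
  · obtain ⟨E, h1, ⟨h3, h4⟩, h5⟩ := S0126.result h2 (IsPGroup.of_card hc) hy
    have h6 : Nat.card (E.map P.subtype) = l ^ 2 := by rw [card_map_of_injective P.subtype_injective, h5]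
    refine .inr ⟨P, E.map P.subtype, map_subtype_le E, hP, hc, ⟨hl, fun e => ?_, ?_, ?_⟩, h6, fun g hg => ?_⟩
    · rw [e, card_bot] at h6
      exact hl.ne_one (Nat.pow_eq_one.1 h6.symm |>.resolve_right (by decide))
    · rintro _ ⟨x, hx, rfl⟩
      exact congrArg Subtype.val (h4 x hx)
    · rintro _ ⟨x, hx, rfl⟩ _ ⟨y, hy, rfl⟩
      exact congrArg (fun z : E => ((z : P) : T)) (h3.is_comm.comm ⟨x, hx⟩ ⟨y, hy⟩)
    · refine mem_normalizer_fintype ?_
      rintro _ ⟨x, hx, rfl⟩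
      exact ⟨_, h1.conj_mem x hx ⟨g, hg⟩, rfl⟩

theorem exists_sq {r a n : ℕ} (hr : r.Prime) (K : Subgroup T)
    (hc : (∀ y ∈ K, y ^ r = 1) → ∀ x ∈ K, ∀ y ∈ K, x * y = y * x) (hk : PRankLE r a T) (h1 : r ^ a < Nat.card K)
    (h2 : Nat.card K ∣ r ^ n) : ∃ y ∈ K, r ^ 2 ∣ orderOf y ∧ orderOf y ∣ r ^ n := by
  by_cases h : ∀ y ∈ K, y ^ r = 1
  · exact absurd (hk K ⟨⟨fun x y => Subtype.ext (hc h x x.2 y y.2)⟩⟩ h) (not_le.2 h1)
  · push Not at h
    obtain ⟨y, hy, h⟩ := h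
    have h3 := (ord_dvd hy).trans h2
    obtain ⟨j, -, hj⟩ := (Nat.dvd_prime_pow hr).1 h3
    refine ⟨y, hy, hj ▸ pow_dvd_pow r (not_lt.1 fun h4 => h (orderOf_dvd_iff_pow_eq_one.1 ?_)), h3⟩
    rw [hj]
    exact (pow_dvd_pow r (by omega)).trans (pow_one r).dvd

theorem exists_four (H : Subgroup T) (h : 2 ^ 4 ∣ Nat.card H) (hk : PRankLE 2 3 T) :
    ∃ y ∈ H, 2 ^ 2 ∣ orderOf y ∧ orderOf y ∣ 2 ^ 4 := by
  obtain ⟨P, hP, hc⟩ := exists_sub H Nat.prime_two h
  obtain ⟨y, hy, h1⟩ := exists_sq Nat.prime_two P (fun h x hx y hy => by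
    have k : ∀ z ∈ P, z⁻¹ = z := fun z hz => inv_eq_of_mul_eq_one_right (by rw [← pow_two, h z hz])
    rw [← k _ (mul_mem hx hy), mul_inv_rev, k x hx, k y hy]) hk (by rw [hc]; decide) hc.dvd
  exact ⟨y, hP hy, h1⟩

theorem mem_zp {H : Subgroup T} {e f : T} {r : ℕ} (hr : r.Prime) (he : e ∈ H) (hf : f ∈ H) (h1 : orderOf e = r)
    (h2 : orderOf f = r) (hc : f * e = e * f) (h : ¬ r ^ 2 ∣ Nat.card H) : f ∈ zpowers e := by
  have := Fact.mk hr
  have k : ∀ x : T, orderOf x = r → IsPGroup r (zpowers x) := fun x hx =>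
    IsPGroup.of_card (n := 1) (by rw [Nat.card_zpowers, hx, pow_one])
  have h3 : IsPGroup r (zpowers e ⊔ zpowers f : Subgroup T) := (k e h1).to_sup_of_normal_left' (k f h2)
    (zpowers_le.2 (centralizer_le_normalizer _ (by
      rintro _ ⟨n, rfl⟩
      exact ((show Commute f e from hc).zpow_right n).eq.symm)))
  obtain ⟨j, hj⟩ := IsPGroup.iff_card.1 h3
  have h4 : r ^ j ∣ Nat.card H := hj ▸ card_dvd_of_le (sup_le (zpowers_le.2 he) (zpowers_le.2 hf))
  have h5 : j ≤ 1 := not_lt.1 fun h5 => h ((pow_dvd_pow r h5).trans h4)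
  have h6 : zpowers e = zpowers e ⊔ zpowers f := eq_of_le_of_card_ge le_sup_left (by
    rw [hj, Nat.card_zpowers, h1]
    exact (Nat.pow_le_pow_right hr.pos h5).trans (pow_one r).le)
  exact h6 ▸ mem_sup_right (mem_zpowers f)

theorem comm_of_odd {g e : T} (h : g * e * g⁻¹ = e ∨ g * e * g⁻¹ = e⁻¹) (ho : Odd (orderOf g)) : g * e = e * g := by
  rcases h with h | h
  · exact mul_inv_eq_iff_eq_mul.1 h
  · have h1 : Commute (g ^ 2) e := by
      have : g * (g * e * g⁻¹) * g⁻¹ = e := by rw [h, ← conj_inv, h, inv_inv]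
      rw [Commute, SemiconjBy, ← mul_inv_eq_iff_eq_mul]
      conv_rhs => rw [← this]
      rw [pow_two]
      group
    obtain ⟨n, hn⟩ := exists_pow_eq_self_of_coprime (Nat.coprime_two_left.2 ho)
    exact hn ▸ (h1.pow_left n).eq

theorem pow_left {e y : T} (hc : e * y = y * e) (h : (orderOf y).Coprime (orderOf e)) : ∃ n : ℕ, (e * y) ^ n = e := by
  obtain ⟨n, hn⟩ := exists_pow_eq_self_of_coprime h
  exact ⟨orderOf y * n, by rw [pow_mul, (show Commute e y from hc).mul_pow, pow_orderOf_eq_one, mul_one, hn]⟩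

theorem cen_pow (x : T) (n : ℕ) : centralizer ({x} : Set T) ≤ centralizer {x ^ n} := fun _ hg =>
  mem_cen.2 ((show Commute _ x from mem_cen.1 hg).pow_right n).eq

theorem cen_le (e : T) : centralizer ({e} : Set T) ≤ Nz (zpowers e) := fun g hg => centralizer_le_normalizer _ (by
  rintro _ ⟨n, rfl⟩
  exact ((show Commute g e from mem_cen.1 hg).zpow_right n).eq.symm)

theorem conj_mem {E : Subgroup T} {g x : T} (hg : g ∈ Nz E) (hx : x ∈ E) : g * x * g⁻¹ ∈ E := (mem_normalizer_iff.1 hg x).1 hx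

theorem mem_nz {e t : T} (h : t * e * t⁻¹ ∈ zpowers e) : t ∈ Nz (zpowers e) := mem_normalizer_fintype (by
  rintro _ ⟨n, rfl⟩
  rw [← conj_zpow]
  exact zpow_mem h n)

theorem mem_of_cop {B A : Subgroup T} (h : A ≤ Nz B) {g : T} (hg : g ∈ A) (hc : (orderOf g).Coprime (B.relIndex A)) : g ∈ B := by
  have : (B.subgroupOf A).Normal := normal_subgroupOf_of_le_normalizer h
  obtain ⟨n, hn⟩ := exists_pow_eq_self_of_coprime hc.symm
  exact hn ▸ pow_mem (B.subgroupOf A |>.pow_index_mem ⟨g, hg⟩) n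

theorem relIndex_dvd {B A P : Subgroup T} (h : A ≤ Nz B) (hP : P ≤ A) : B.relIndex P ∣ B.relIndex A := by
  have : (B.subgroupOf A).Normal := normal_subgroupOf_of_le_normalizer h
  rw [← relIndex_subgroupOf hP]
  exact relIndex_dvd_index_of_normal _ _

end Cfsg.Agent.N2.G2.LocO
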