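import Cfsg.Agent.N2.G2.Defs
import Cfsg.Agent.N2.Ex.Tri
import Cfsg.Agent.N2.Par.Main

/-!
# N2, `G₂(q)` and `³D₄(q)`: the frame lemmas, the trichotomy and the rows from the boxes (helper9)
-/

set_option autoImplicit false
set_option linter.unusedSectionVars false

namespace Cfsg.Agent.N2.G2

open Subgroup Cfsg Cfsg.Lie Cfsg.Agent.FP3 Cfsg.Agent.H316.U6
open Cfsg.Agent.SB.Low (EA Nz Cz hpG2)

section frame

variable {T : Type} [Group T] [Finite T] [IsSimpleGroup T] {p : ℕ} {A : Subgroup T} {Γ : Subgroup (MulAut T)}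

/-- an invariant abelian subgroup contains a minimal invariant elementary abelian subgroup -/
theorem exists_loc {B : Subgroup T} (hi : Inv Γ B) (h0 : B ≠ ⊥) (hc : ∀ x ∈ B, ∀ y ∈ B, x * y = y * x) :
    ∃ E r, E ≤ B ∧ r ∣ Nat.card B ∧ Loc Γ E r := by
  obtain ⟨E, ⟨h1, h2, h3⟩, hmin⟩ := WellFounded.has_min (wellFounded_lt (α := Subgroup T))
    {E : Subgroup T | E ≤ B ∧ Inv Γ E ∧ E ≠ ⊥} ⟨B, le_rfl, hi, h0⟩
  have hm : ∀ E' ≤ E, Inv Γ E' → E' = ⊥ ∨ E' = E := fun E' h4 h5 => by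
    by_cases h6 : E' = ⊥
    · exact Or.inl h6
    · exact Or.inr (eq_of_le_of_not_lt h4 (hmin E' ⟨h4.trans h1, h5, h6⟩))
  obtain ⟨r, hr, hd⟩ := Nat.exists_prime_and_dvd (n := Nat.card E) fun k => h3 (card_eq_one.1 k)
  have := Fact.mk hr
  obtain ⟨x, hx⟩ := exists_prime_orderOf_dvd_card' r hd
  let Ω : Subgroup T :=
    { carrier := {y | y ∈ E ∧ y ^ r = 1}
      one_mem' := ⟨one_mem _, one_pow _⟩
      mul_mem' := fun {a b} ha hb => ⟨mul_mem ha.1 hb.1, by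
        rw [(show Commute a b from hc a (h1 ha.1) b (h1 hb.1)).mul_pow, ha.2, hb.2, one_mul]⟩
      inv_mem' := fun {a} ha => ⟨inv_mem ha.1, by rw [inv_pow, ha.2, inv_one]⟩ }
  have h4 : Ω = E := (hm Ω (fun _ h => h.1) fun σ hσ y hy => ⟨h2 σ hσ y hy.1, by rw [← map_pow, hy.2, map_one]⟩).resolve_left
    fun k => by
      have h5 : (x : T) ∈ Ω := ⟨x.2, by rw [← hx, ← coe_pow, pow_orderOf_eq_one, coe_one]⟩
      rw [k, mem_bot] at h5
      rw [show x = 1 from Subtype.ext h5, orderOf_one] at hx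
      exact hr.one_lt.ne hx
  exact ⟨E, r, h1, hd.trans (card_dvd_of_le h1),
    ⟨⟨hr, h3, fun y hy => (h4.ge hy).2, fun a ha b hb => hc a (h1 ha) b (h1 hb)⟩, h2, hm⟩⟩

theorem ea_pgroup {r : ℕ} {E : Subgroup T} (h : EA r E) : IsPGroup r E :=
  fun x => ⟨1, Subtype.ext (by simpa using h.pow x x.2)⟩

theorem Loc.ne {E : Subgroup T} {r : ℕ} (C : Cx p A Γ) (h : Loc Γ E r) : r ≠ p := by
  rintro rfl
  exact h.ne_bot (C.noP E h.inv (ea_pgroup h.toEA))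

/-- `T` is not abelian -/
theorem Cx.nonab (C : Cx p A Γ) : ¬ ∀ a b : T, a * b = b * a := fun h => by
  have : A.Normal := ⟨fun a ha g => by rwa [h g a, mul_inv_cancel_right]⟩
  exact this.eq_bot_or_eq_top.elim C.mi.ne_bot C.mi.ne_top

/-- `A` is the normaliser of an invariant abelian subgroup -/
theorem Cx.norm_ab (C : Cx p A Γ) {B : Subgroup T} (hi : Inv Γ B) (h0 : B ≠ ⊥) (hc : ∀ x ∈ B, ∀ y ∈ B, x * y = y * x) :
    Nz B = A := mi_norm C.mi hi h0 fun k => C.nonab fun a b => hc a (k ▸ mem_top a) b (k ▸ mem_top b)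

theorem Loc.norm {E : Subgroup T} {r : ℕ} (C : Cx p A Γ) (h : Loc Γ E r) : Nz E = A := C.norm_ab h.inv h.ne_bot h.comm

theorem Sim.ne_bot {S : Subgroup T} (h : Sim A Γ S) : S ≠ ⊥ := by
  have := h.simple
  exact (nontrivial_iff_ne_bot S).1 inferInstance

theorem Sim.norm {S : Subgroup T} (C : Cx p A Γ) (h : Sim A Γ S) : Nz S = A :=
  mi_norm C.mi h.inv h.ne_bot fun k => C.mi.ne_top (top_le_iff.1 (k ▸ h.le))

/-- `A` embeds in the automorphism group of `S` -/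
theorem Sim.emb {S : Subgroup T} (C : Cx p A Γ) (h : Sim A Γ S) :
    ∃ f : A →* MulAut S, Function.Injective f ∧ ∀ (a : A) (x : S), (f a x : T) = a * x * (a : T)⁻¹ := by
  refine ⟨S.normalizerMonoidHom.comp (inclusion (h.norm C).ge), (injective_iff_map_eq_one _).2 fun a ha =>
    Subtype.ext (h.cent a fun x hx => ?_), fun _ _ => rfl⟩
  have h1 := congrArg Subtype.val (DFunLike.congr_fun ha ⟨x, hx⟩)
  exact mul_inv_eq_iff_eq_mul.1 h1

theorem Sim.card_dvd {S : Subgroup T} (C : Cx p A Γ) (h : Sim A Γ S) : Nat.card A ∣ Nat.card (MulAut S) :=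
  let ⟨f, hf, _⟩ := h.emb C
  card_dvd_of_injective f hf

theorem Sim.card_le {S : Subgroup T} (C : Cx p A Γ) (h : Sim A Γ S) : Nat.card A ≤ Nat.card (MulAut S) :=
  Nat.le_of_dvd Nat.card_pos (h.card_dvd C)

theorem inv_sup {B B' : Subgroup T} (h : Inv Γ B) (h' : Inv Γ B') : Inv Γ (B ⊔ B') := fun σ hσ x hx => by
  have h1 : B ⊔ B' ≤ (B ⊔ B').comap σ.toMonoidHom :=
    sup_le (fun y hy => mem_sup_left (h σ hσ y hy)) fun y hy => mem_sup_right (h' σ hσ y hy)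
  exact h1 hx

theorem inv_inf {B B' : Subgroup T} (h : Inv Γ B) (h' : Inv Γ B') : Inv Γ (B ⊓ B') := fun σ hσ x hx =>
  ⟨h σ hσ x hx.1, h' σ hσ x hx.2⟩

theorem inv_closure {s : Set T} (h : ∀ σ ∈ Γ, ∀ x ∈ s, σ x ∈ s) : Inv Γ (Subgroup.closure s) := fun σ hσ x hx => by
  have h1 : Subgroup.closure s ≤ (Subgroup.closure s).comap σ.toMonoidHom :=
    (closure_le _).2 fun y hy => subset_closure (h σ hσ y hy)
  exact h1 hx

/-- the almost simple group `Inn T ⊔ Γ` -/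
theorem exists_setup (hn : ¬ IsMulCommutative T) (hA : MI A Γ) :
    ∃ (G : Type) (_ : Group G) (_ : Finite G) (T' H : Subgroup G) (j : T →* G), Function.Injective j ∧ j.range = T' ∧
      DS.Setup T' H ∧ (∀ x, j x ∈ H ↔ x ∈ A) ∧ ∀ σ ∈ Γ, ∃ h ∈ H, ∀ x, j (σ x) = h * j x * h⁻¹ := by
  have hj := Ex.conj_inj hn
  have hN : (Inn T).Normal := ⟨by
    rintro _ ⟨t, rfl⟩ σ
    exact ⟨σ t, by ext x; simp⟩⟩
  let e : T ≃* (Inn T).subgroupOf (Inn T ⊔ Γ) := (MonoidHom.ofInjective hj).trans (subgroupOfEquivOfLe le_sup_left).symm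
  refine ⟨↥(Inn T ⊔ Γ), _, inferInstance, (Inn T).subgroupOf (Inn T ⊔ Γ), Γ.subgroupOf (Inn T ⊔ Γ),
    (Subgroup.subtype _).comp e.toMonoidHom, Subtype.val_injective.comp e.injective, ?_, ⟨hN.subgroupOf _, e.symm.isSimpleGroup,
    fun k => hn ⟨⟨fun a b => e.injective ?_⟩⟩, ?_, ?_, fun k => ?_⟩, hA.conj,
    fun σ hσ => ⟨⟨σ, mem_sup_right hσ⟩, hσ, fun x => Subtype.ext ?_⟩⟩
  · ext g
    exact ⟨fun ⟨x, hx⟩ => hx ▸ (e x).2, fun hg => ⟨e.symm ⟨g, hg⟩, congrArg Subtype.val (e.apply_symm_apply _)⟩⟩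
  · rw [map_mul, map_mul]
    exact k.1.1 _ _
  · refine eq_bot_iff.2 fun g hg => mem_bot.2 (Subtype.ext (MulEquiv.ext fun x => hj ?_))
    have h1 := congrArg Subtype.val (hg (e x) (e x).2)
    have h2 : MulAut.conj x * (g : MulAut T) = (g : MulAut T) * MulAut.conj x := h1
    have h3 : MulAut.conj ((g : MulAut T) x) = (g : MulAut T) * MulAut.conj x * (g : MulAut T)⁻¹ := by
      ext y
      simp
    rw [h3, ← h2, mul_inv_cancel_right]
    rfl
  · have h1 := mi_covBy hA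
    refine ⟨fun k => h1.1.not_ge (subgroupOf_eq_top.1 k), fun B hB => ?_⟩
    have h2 : Γ < B.map (Inn T ⊔ Γ).subtype := by
      have h4 := (map_lt_map_iff_of_injective (Inn T ⊔ Γ).subtype_injective).2 hB
      rwa [map_subgroupOf_eq_of_le (le_sup_right : Γ ≤ Inn T ⊔ Γ)] at h4
    have h3 := (h1.eq_or_eq h2.le (map_subtype_le B)).resolve_left h2.ne'
    exact eq_top_iff.2 fun g _ => (mem_map_iff_mem (Inn T ⊔ Γ).subtype_injective).1 (h3.symm ▸ g.2)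
  · exact hA.ne_top (eq_top_iff.2 fun x _ => (hA.conj x).1 (k (e x).2))
  · show MulAut.conj (σ x) = σ * MulAut.conj x * σ⁻¹
    ext y
    simp

/-- **the trichotomy** -/
theorem tri_mi (hn : ¬ IsMulCommutative T) (hA : MI A Γ) :
    (∃ E r, Loc Γ E r) ∨ (∃ S, Sim A Γ S) ∨ ∃ 𝓢, Mul A Γ 𝓢 := by
  obtain ⟨G, _, _, T', H, j, hj, hr, hs, h1, h2⟩ := exists_setup hn hA
  have h3 : ∀ {E : Subgroup G}, (∀ h ∈ H, ∀ x ∈ E, h * x * h⁻¹ ∈ E) → Inv Γ (E.comap j) := fun k σ hσ x hx => by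
    obtain ⟨h, hh, h4⟩ := h2 σ hσ
    exact mem_comap.2 ((h4 x).symm ▸ k h hh _ hx)
  have h4 : ∀ x y : T, j x * j y = j y * j x ↔ x * y = y * x := fun x y => by
    rw [← map_mul, ← map_mul, hj.eq_iff]
  have h5 : ∀ {E : Subgroup G}, E ≤ T' → (E.comap j).map j = E := fun k => map_comap_eq_self (hr ▸ k)
  have h6 : ∀ {E : Subgroup G}, E ≤ T' → Nonempty (E.comap j ≃* E) := fun k =>
    ⟨(equivMapOfInjective _ j hj).trans (MulEquiv.subgroupCongr (h5 k))⟩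
  have h7 : ∀ {E : Subgroup G}, E ≤ T' → IsSimpleGroup E → ¬ IsMulCommutative E →
      IsSimpleGroup (E.comap j) ∧ ¬ IsMulCommutative (E.comap j) := fun k a b => by
    obtain ⟨i⟩ := h6 k
    exact ⟨i.isSimpleGroup, fun c => b ⟨⟨fun x y => i.symm.injective (by rw [map_mul, map_mul, c.is_comm.comm])⟩⟩⟩
  have h8 : ∀ {E : Subgroup G} {t : T}, E ≤ T' → (∀ x ∈ E.comap j, t * x = x * t) → ∀ x ∈ E, j t * x = x * j t :=
    fun k a x hx => by
      obtain ⟨y, rfl⟩ : x ∈ j.range := hr ▸ k hx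
      exact (h4 _ y).2 (a y hx)
  have h9 : ∀ t, j t ∈ T' := fun t => hr ▸ ⟨t, rfl⟩
  rcases Ex.tri hs (fun k => hA.ne_bot (eq_bot_iff.2 fun x hx => mem_bot.2 (hj (by
      rw [map_one]; exact mem_bot.1 (k ▸ ⟨(h1 x).2 hx, h9 x⟩))))) with ⟨E, r, hE⟩ | ⟨N, hN⟩ | ⟨𝓢, hS⟩
  · obtain ⟨E', r', -, -, h⟩ := exists_loc (h3 fun h hh x => (mem_normalizer_iff.1 (hE.norm.ge hh) x).1)
      (fun k => hE.ne_bot (by rw [← h5 hE.le_S, k, Subgroup.map_bot])) fun a ha b hb => (h4 a b).1 (hE.comm _ ha _ hb)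
    exact Or.inl ⟨E', r', h⟩
  · have k := hN.le.trans inf_le_right
    exact Or.inr (Or.inl ⟨N.comap j, fun x hx => (h1 x).1 (hN.le hx).1, h3 hN.nrm, (h7 k hN.simple hN.nonab).1,
      (h7 k hN.simple hN.nonab).2, fun t ht => hj (by rw [map_one]; exact hN.cent _ (h9 t) (h8 k ht))⟩)
  · have k : ∀ S ∈ 𝓢, S ≤ T' := fun S h => (hS.le S h).trans inf_le_right
    refine Or.inr (Or.inr ⟨(fun S => S.comap j) '' 𝓢, ?_, ?_, ?_, ?_, ?_, ?_, fun t ht => hj ?_⟩)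
    · rintro _ ⟨S, h, rfl⟩ x hx
      exact (h1 x).1 (hS.le S h hx).1
    · rintro _ ⟨S, h, rfl⟩
      exact (h7 (k S h) (hS.simple S h) (hS.nonab S h)).1
    · rintro _ ⟨S, h, rfl⟩
      exact (h7 (k S h) (hS.simple S h) (hS.nonab S h)).2
    · rintro _ ⟨S, h, rfl⟩ _ ⟨S', h', rfl⟩ hne x hx y hy
      exact (h4 x y).1 (hS.comm S h S' h' (fun e => hne (by rw [e])) _ hx _ hy)
    · rintro σ hσ _ ⟨S, h, rfl⟩
      obtain ⟨g, hg, e⟩ := h2 σ hσ
      refine ⟨_, hS.perm g hg S h, ?_⟩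
      ext x
      obtain ⟨x, rfl⟩ := σ.surjective x
      show j (σ x) ∈ TH.cj g S ↔ σ.toMonoidHom x ∈ map σ.toMonoidHom _
      rw [e, TH.Own.conj_mem_cj_iff, mem_map_iff_mem σ.injective, mem_comap]
    · obtain ⟨S, h, S', h', hne⟩ := hS.two
      exact ⟨_, ⟨S, h, rfl⟩, _, ⟨S', h', rfl⟩, fun e => hne (by rw [← h5 (k S h), ← h5 (k S' h')]; exact congrArg _ e)⟩
    · rw [map_one]
      exact hS.cent _ (h9 t) fun S h => h8 (k S h) (ht _ ⟨S, h, rfl⟩)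

end frame

theorem prank_sub {T : Type} [Group T] {r n : ℕ} (h : PRankLE r n T) (S : Subgroup T) : PRankLE r n S := fun E hc hp => by
  rw [Nat.card_congr (E.equivMapOfInjective _ S.subtype_injective).toEquiv]
  refine h _ ⟨⟨?_⟩⟩ ?_
  · rintro ⟨_, a, ha, rfl⟩ ⟨_, b, hb, rfl⟩
    exact Subtype.ext (congrArg (fun x : E => ((x : S) : T)) (hc.1.1 ⟨a, ha⟩ ⟨b, hb⟩))
  · rintro _ ⟨a, ha, rfl⟩
    rw [← map_pow, hp a ha, map_one]

theorem sh_of (B : Boxes) {p : ℕ} [Fact p.Prime] {k q : ℕ} {T : Type} [Group T] [Finite T] [IsSimpleGroup T] {d : T → ℕ}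
    (h : Mod p k q T d) : Sh p k q T d :=
  have a := B.a p k q T d h
  have b := B.b p k q T d h
  have l := B.l p k q T d h
  { toElA := a, toElB := b, toElL := l, toLin := B.lin p k q T d h a l, toSc := B.sc p k q T d h a l,
    prime := Fact.out, why := B.why p k q T d h a b l, u5 := B.u5 p k q T d h a b l }

theorem good_of (B : Boxes) (cf : Cf) : On fun _ _ _ _ _ A _ => Good A := by
  intro p k q T _ _ _ d A Γ h C
  rcases tri_mi (fun c => C.nonab c.1.1) C.mi with ⟨E, r, hE⟩ | ⟨S, hS⟩ | ⟨𝓢, hS⟩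
  · by_cases h2 : r = 2
    · exact B.loc2 B.locO p k q T d A Γ h C E (h2 ▸ hE)
    · exact B.locO p k q T d A Γ h C E r hE h2
  · have := hS.simple
    rcases B.list cf p S hS.nonab h.prime (fun k => prank_sub (h.rk2 k) S) fun r a b c => prank_sub (h.rk r a b c) S
      with k | k | k | k
    exacts [B.l2 p _ q T d A Γ h C S hS k, B.l3 p _ q T d A Γ h C S hS k, B.x p _ q T d A Γ h C S hS k,
      B.fin p _ q T d A Γ h C S hS k]
  · exact B.mul p k q T d A Γ h C 𝓢 hS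

theorem asRow_of (B : Boxes) (cf : Cf) {p : ℕ} [Fact p.Prime] {k q : ℕ} {T : Type} [Group T] [Finite T] [IsSimpleGroup T]
    {d : T → ℕ} (hn : ¬ IsMulCommutative T) (hT : IsLieTypeChar p T) (h : Mod p k q T d) : ASRow T := by
  intro A Γ hA
  by_cases h1 : ∀ E : Subgroup T, Inv Γ E → IsPGroup p E → E = ⊥
  · by_cases h2 : p ∣ A.index
    · exact good_of B cf p k q T d A Γ (sh_of B h) ⟨hA, h1, h2⟩
    · exact Par.good_of_index hn hT hA h2
  · push Not at h1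
    obtain ⟨E, a, b, c⟩ := h1
    exact Par.good_of_inv hn hT hA a b c

theorem row_G2 (B : Boxes) (cf : Cf) : Row fG2 := by
  rintro T _ _ _ hn ⟨F, _, _, hq, ⟨e⟩⟩
  obtain ⟨p, hp⟩ := CharP.exists F
  have : Fact p.Prime := ⟨CharP.char_is_prime F p⟩
  obtain ⟨m, h1, h2⟩ := mdata_untw (r := p) hpG2 (fun h => absurd (congrArg ChevalleyDatum.nroots h) (by decide))
    (fun h => absurd (congrArg ChevalleyDatum.nroots h) (by decide)) F
  have h3 : m.dd = 1 := by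
    rcases h2 with h | ⟨-, h⟩ | ⟨-, h⟩
    exacts [h.1, absurd (congrArg ChevalleyDatum.nroots h) (by decide), absurd (congrArg ChevalleyDatum.nroots h) (by decide)]
  exact asRow_of B cf (p := p) hn
    (.inr (.inr (.inr (.inr (.inr (.inr (.inl ⟨F, inferInstance, inferInstance, inferInstance, .inl ⟨hq, ⟨e⟩⟩⟩)))))))
    (.inl ⟨rfl, hq, ⟨m.congr e, h3, h1, fun _ => rfl⟩, F, inferInstance, inferInstance, inferInstance, rfl, ⟨e⟩⟩)

theorem row_3D4 (B : Boxes) (cf : Cf) : Row f3D4 := by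
  rintro T _ _ _ hn ⟨F, _, _, q, hq, hF, ⟨e⟩⟩
  obtain ⟨p, hp⟩ := CharP.exists F
  have : Fact p.Prime := ⟨CharP.char_is_prime F p⟩
  obtain ⟨m, h1, h2⟩ := mdata_twD4' (r := p) hq hF
  exact asRow_of B cf (p := p) hn
    (.inr (.inr (.inr (.inr (.inr (.inr (.inr (.inl ⟨F, inferInstance, inferInstance, inferInstance, q, hq,
      .inr ⟨hF, ⟨e⟩⟩⟩))))))))
    (.inr ⟨rfl, hq, ⟨m.congr e, h1, h2, fun _ => rfl⟩, F, inferInstance, inferInstance, inferInstance, hF, ⟨e⟩⟩)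

end Cfsg.Agent.N2.G2
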