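import Cfsg.Agent.N2.G2.MulA
import Cfsg.Agent.N2.G2.Crit

/-!
# N2, `G₂(q)` and `³D₄(q)`: several components, `boxMul` (helper45)
-/

set_option autoImplicit false
set_option linter.unusedSectionVars false

namespace Cfsg.Agent.N2.G2

open Subgroup Cfsg Cfsg.Agent.FP3
open Cfsg.Agent.SB.Low (EA Nz Cz)

namespace MuB

variable {p k q : ℕ} {T : Type} [Group T] [Finite T] [IsSimpleGroup T] {d : T → ℕ} {A S S' : Subgroup T}
  {Γ : Subgroup (MulAut T)} {𝓢 : Set (Subgroup T)} {y z : T}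

theorem comm_four {V : Subgroup T} (h : ∀ x ∈ V, x ^ 2 = 1) : ∀ x ∈ V, ∀ y ∈ V, x * y = y * x := fun x hx y hy => by
  have h1 := fun x (hx : x ∈ V) => eq_inv_of_mul_eq_one_left (pow_two x ▸ h x hx)
  rw [h1 _ (V.mul_mem hx hy), mul_inv_rev, ← h1 _ hx, ← h1 _ hy]

theorem two (h : Sh p k q T d) (P : Pr S S') : p = 2 := by
  by_contra hp
  obtain ⟨U, h1, h2, h3⟩ := P.a.four
  obtain ⟨V, h4, h5, h6⟩ := P.b.four
  obtain ⟨E, h7, h8, h9, -⟩ := P.prod h1 h4 h3 h6 (comm_four h3) (comm_four h6)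
  have h10 := h.rk2 hp E ⟨⟨fun a b => Subtype.ext (h9 _ a.2 _ b.2)⟩⟩ h8
  rw [h7, h2, h5] at h10
  omega

theorem cop_two {r : ℕ} (hr : r.Prime) (h : r ≠ 2) : r.Coprime 2 := (Nat.coprime_primes hr Nat.prime_two).2 h

theorem ne_one (h : (orderOf y).Prime) : y ≠ 1 := fun e => h.one_lt.ne' (orderOf_eq_one_iff.2 e)

theorem not_reg (h : Sh 2 k q T d) (N : NS S) (hy : S ≤ centralizer {y}) (ho : (orderOf y).Coprime 2) : d y ≠ k + 1 :=
  fun e => N.not_le (h.reg y ho e).1 hy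

theorem cls (h : Sh 2 k q T d) (ho : (orderOf y).Coprime 2) (h1 : y ≠ 1) :
    d y = k + 1 ∨ d y = k + 3 ∨ (d y = k + 7 ∧ (k = 1 → y ^ 3 = 1)) := by
  rcases h.cls y ho h1 with e | e | e | e
  exacts [.inl e, .inr (.inl e), .inr (.inr e),
    absurd (orderOf_eq_one_iff.1 (ho.eq_one_of_dvd (orderOf_dvd_of_pow_eq_one e.2))) h1]

theorem even_q (h : Sh 2 k q T d) : Even q := by
  obtain ⟨f, h1, rfl⟩ := h.pw
  exact Nat.even_pow.2 ⟨even_two, h1.ne'⟩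

theorem four_le (h : Sh 2 k q T d) : 4 ≤ q ^ k := by
  obtain ⟨c, hc⟩ := even_q h
  rcases h.par with ⟨rfl, e⟩ | ⟨rfl, e⟩
  · rw [pow_one]
    omega
  · exact le_trans (by decide) (Nat.pow_le_pow_left e 3)

section pair

variable (h : Sh 2 k q T d) (P : Pr S S') (hy : y ∈ S) (hz : z ∈ S') (h1 : z ≠ 1) (ho : (orderOf y).Coprime 2)
  (ho' : (orderOf z).Coprime 2) (hc : (orderOf y).Coprime (orderOf z))

include P hy hz hc in
theorem ord_mul : orderOf (y * z) = orderOf y * orderOf z :=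
  (show Commute y z from P.comm y hy z hz).orderOf_mul_eq_mul_orderOf_of_coprime hc

include P hy hz hc ho ho' in
theorem cop_mul : (orderOf (y * z)).Coprime 2 := ord_mul P hy hz hc ▸ ho.mul_left ho'

include P hy hz hc h1 in
theorem mul_ne : y * z ≠ 1 := fun e => by
  have h2 := ord_mul P hy hz hc
  rw [e, orderOf_one] at h2
  exact h1 (orderOf_eq_one_iff.1 (Nat.eq_one_of_mul_eq_one_left h2.symm))

include h P hy hz h1 ho ho' hc

theorem reg_of_mild (hd : d y = k + 3) : d (y * z) = k + 1 := by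
  have h2 := mem_zpowers_mul (P.comm y hy z hz) hc
  have h3 := cop_mul P hy hz ho ho' hc
  refine (h.reg_or_mild h3 (mul_ne P hy hz h1 hc) ((h.d_le h2).trans (by omega))).resolve_right fun e => ?_
  obtain ⟨m, h4, h5, -⟩ := h.mild y ho hd
  obtain ⟨m', h6, h7, -⟩ := h.mild _ h3 e
  have h8 := P.drop hy hz h1 h2
  have h9 : 0 < cn y := Nat.card_pos
  rw [h5] at h9
  rw [h5, h7, mul_left_comm] at h8
  have := Nat.le_of_mul_le_mul_left h8 (Nat.pos_of_mul_pos_right h9)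
  have := four_le h
  omega

theorem le_of_bad (h0 : y ≠ 1) (hk : k = 3) (hq : 4 ≤ q) : d (y * z) ≤ k + 4 := by
  have h2 := mem_zpowers_mul (P.comm y hy z hz) hc
  have h3 := cop_mul P hy hz ho ho' hc
  have h4 := h.d_le h2
  rcases cls h h3 (mul_ne P hy hz h1 hc) with e | e | ⟨e, -⟩
  · omega
  · omega
  obtain ⟨m, n, w, h5, h6, -⟩ := h.bad3 hk y ho (by rcases cls h ho h0 with k | k | ⟨k, -⟩ <;> omega)
  obtain ⟨m', n', w', h7, h8, -⟩ := h.bad3 hk _ h3 (by omega)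
  have h9 := P.drop hy hz h1 h2
  have := bd_range hq h5 h7
  omega

end pair

/-- the two components are permuted -/
theorem swap (C : Cx p A Γ) (M : Mul A Γ 𝓢) (h1 : S ∈ 𝓢) (h2 : S' ∈ 𝓢) (hne : S ≠ S')
    (h3 : ∀ U ∈ 𝓢, U = S ∨ U = S') (a : A) :
    ((∀ x ∈ S, a * x * (a : T)⁻¹ ∈ S) ∧ ∀ x ∈ S', a * x * (a : T)⁻¹ ∈ S') ∨
      ((∀ x ∈ S, a * x * (a : T)⁻¹ ∈ S') ∧ ∀ x ∈ S', a * x * (a : T)⁻¹ ∈ S) := by
  have h4 := (C.mi.conj a).2 a.2
  have h5 : ∀ {U V : Subgroup T}, U.map (MulAut.conj (a : T)).toMonoidHom = V → ∀ x ∈ U, a * x * (a : T)⁻¹ ∈ V :=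
    fun e x hx => e ▸ ⟨x, hx, rfl⟩
  have h6 := (map_injective (f := (MulAut.conj (a : T)).toMonoidHom) (MulEquiv.injective _)).ne hne
  rcases h3 _ (M.perm _ h4 S h1) with e | e <;> rcases h3 _ (M.perm _ h4 S' h2) with e' | e'
  exacts [absurd (e.trans e'.symm) h6, .inl ⟨h5 e, h5 e'⟩, .inr ⟨h5 e, h5 e'⟩, absurd (e.trans e'.symm) h6]

theorem pr_of (M : Mul A Γ 𝓢) (h1 : S ∈ 𝓢) (h2 : S' ∈ 𝓢) (hne : S ≠ S') : Pr S S' :=
  ⟨⟨M.simple S h1, M.nonab S h1⟩, ⟨M.simple S' h2, M.nonab S' h2⟩, M.comm S h1 S' h2 hne⟩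

theorem conj_eq {a b x : T} (h : a * x * a⁻¹ = b * x * b⁻¹) : x * (a⁻¹ * b) = a⁻¹ * b * x := by
  rw [eq_comm, mul_assoc, inv_mul_eq_iff_eq_mul, ← mul_assoc, ← mul_assoc, h, inv_mul_cancel_right]

/-! ### `G₂(q)` -/

theorem mild1 (h : Sh 2 1 q T d) (P : Pr S S') :
    ∃ y ∈ S, (orderOf y).Prime ∧ orderOf y ≠ 2 ∧ 5 ≤ orderOf y ∧ d y = 4 ∧ 5 * Nat.card S' ≤ cm 1 q := by
  obtain ⟨y, h1, h2, h3, h4⟩ := P.a.elt Nat.prime_three
  have h5 := cop_two h2 h3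
  have h6 : 5 ≤ orderOf y := h2.five_le_of_ne_two_of_ne_three h3 h4
  have h7 : d y = 4 := by
    rcases cls h h5 (ne_one h2) with e | e | ⟨-, e⟩
    exacts [absurd e (not_reg h P.b (P.le_cent h1) h5), e,
      absurd (Nat.le_of_dvd three_pos (orderOf_dvd_of_pow_eq_one (e rfl))) (by omega)]
  refine ⟨y, h1, h2, h3, h6, h7, le_trans ?_ ((Nat.le_of_dvd Nat.card_pos (P.b.dvd_cn (P.le_cent h1))).trans
    (h.cn_mild h5 h7))⟩
  rw [mul_comm]
  exact Nat.mul_le_mul_left _ h6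

theorem good1 (h : Sh 2 1 q T d) (C : Cx 2 A Γ) (M : Mul A Γ 𝓢) : Good A := by
  obtain ⟨S, hS, S', hS', hne⟩ := M.two
  have P := pr_of M hS hS' hne
  obtain ⟨y, h1, h2, h3, h4, h5, h6⟩ := mild1 h P
  obtain ⟨-, -, -, -, -, -, h7⟩ := mild1 h P.symm
  obtain ⟨z, h8, h9, h10, h11⟩ := P.b.elt h2
  have c1 := cop_two h2 h3
  have c2 := cop_two h9 h10
  have c3 := (Nat.coprime_primes h2 h9).2 h11.symm
  have h12 := reg_of_mild h P h1 h8 (ne_one h9) c1 c2 c3 h5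
  have c4 := cop_mul P h1 h8 c1 c2 c3
  have h13 : ∀ U ∈ 𝓢, U = S ∨ U = S' := fun U hU => by
    by_contra k
    push Not at k
    exact not_reg h ⟨M.simple U hU, M.nonab U hU⟩ (fun x hx => mem_centralizer_singleton_iff.2
      (Commute.mul_right (M.comm U hU S hS k.1 x hx y h1) (M.comm U hU S' hS' k.2 x hx z h8)).eq) c4 h12
  have h14 : ∀ w, IsConj y w → ¬ IsConj y (w ^ 2) := fun w hw hw' => by
    have k1 : orderOf w = orderOf y := by
      obtain ⟨c, rfl⟩ := isConj_iff.1 hw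
      exact (MulAut.conj c).orderOf_eq y
    rcases h.pm w (k1 ▸ c1) (by rw [h.d_conj hw, h5]; decide) _ (npow_mem_zpowers w 2) (hw.symm.trans hw') with e | e
    · exact ne_one (k1 ▸ h2) (mul_left_cancel (a := w) (by rw [← pow_two, e, mul_one]))
    · have := Nat.le_of_dvd three_pos (orderOf_dvd_of_pow_eq_one (by rw [pow_succ, e, inv_mul_cancel] : w ^ 3 = 1))
      omega
  have h15 := half S (h2.odd_of_ne_two h3) h14
  have h16 := half S' (h2.odd_of_ne_two h3) h14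
  have h17 : Nat.card A ≤ Nat.card ({w // w ∈ S ∧ IsConj y w} ⊕ {w // w ∈ S' ∧ IsConj y w}) * cn y := by
    classical
    have k1 := fun a : A => isConj_iff.2 ⟨(a : T), (rfl : a * y * (a : T)⁻¹ = _)⟩
    refine card_le_fib A _ (fun a => if e : a * y * (a : T)⁻¹ ∈ S then .inl ⟨_, e, k1 a⟩ else
      .inr ⟨_, ((swap C M hS hS' hne h13 a).resolve_left fun k => e (k.1 y h1)).1 y h1, k1 a⟩) fun a b e =>
        mem_centralizer_singleton_iff.2 (conj_eq ?_).symm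
    split_ifs at e
    exacts [congrArg Subtype.val (Sum.inl.inj e), congrArg Subtype.val (Sum.inr.inj e)]
  rw [Nat.card_sum] at h17
  have h18 : 5 * Nat.card A ≤ cm 1 q ^ 2 := by
    have k1 := h.cn_mild c1 h5
    rw [pow_two]
    refine (Nat.mul_le_mul_left 5 h17).trans ?_
    rw [← mul_assoc]
    exact Nat.mul_le_mul (by omega) k1
  have h19 : y * z ∈ A := mul_mem (M.le S hS h1) (M.le S' hS' h8)
  have h20 : ∀ c, cn (y * z) ≤ c → c ^ 3 * cm 1 q ^ 2 ≤ 5 * ord 1 q → Good A := fun c k1 k2 =>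
    good_of_cn h19 k1 (by
      rw [h.card]
      refine Nat.le_of_mul_le_mul_left (le_trans ?_ k2) (by decide : 0 < 5)
      rw [mul_left_comm]
      exact Nat.mul_le_mul_left _ h18)
  by_cases h21 : 8 ≤ q
  · exact h20 _ (h.cn_reg c4 h12) (num_a h21)
  obtain ⟨f, -, hf⟩ := h.pw
  obtain rfl : q = 4 := by
    have k1 := pow_one q ▸ four_le h
    have k2 : f < 3 := (Nat.pow_lt_pow_iff_right one_lt_two).1 (by omega)
    interval_cases f <;> omega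
  refine h20 21 ?_ (by decide)
  have h22 : orderOf y * orderOf z ∣ cn (y * z) := ord_mul P h1 h8 c3 ▸ orderOf_dvd_natCard _
    (mem_centralizer_singleton_iff.2 rfl)
  rcases (h.reg _ c4 h12).2.2.1 with ⟨-, e | e | e | e | e⟩ | ⟨e, -⟩
  any_goals omega
  rw [e] at h22
  exact absurd (((Nat.prime_dvd_prime_iff_eq h9 Nat.prime_five).1 (h9.dvd_of_dvd_pow ((dvd_mul_left _ _).trans h22))).trans
    ((Nat.prime_dvd_prime_iff_eq h2 Nat.prime_five).1 (h2.dvd_of_dvd_pow ((dvd_mul_right _ _).trans h22))).symm) h11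

/-! ### `³D₄(q)` -/

theorem exists_sd (h : Sh 2 3 q T d) (P : Pr S S') : ∃ b, SD S b := by
  obtain ⟨V, h1, h2, -⟩ := P.b.four
  obtain ⟨t, h3, h4⟩ := exists_ord (S := V) Nat.prime_two (h2 ▸ by decide)
  obtain ⟨F, _, _, _, ⟨e⟩⟩ := h.mu rfl rfl S P.a.simple P.a.nonab t h4 fun x hx => P.comm x hx t (h1 h3)
  exact P.a.sd e

theorem SD.t3 {b : ℕ} (h : SD S b) : ∃ t ∈ S, orderOf t = 3 :=
  exists_ord Nat.prime_three (h.card ▸ (three_dvd b).mul_left _)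

theorem SD.le {b n u : ℕ} (h : SD S b) (h0 : 0 < n) (hu : Odd u) (hd : Nat.card S ∣ n * u) : 2 ^ b ≤ n :=
  Nat.le_of_dvd h0 ((Nat.Coprime.pow_left b hu.coprime_two_left).dvd_of_dvd_mul_right
    ((dvd_mul_right _ _).trans (h.card ▸ hd)))

theorem card_A (h : Sh 2 3 q T d) (C : Cx 2 A Γ) (M : Mul A Γ 𝓢) (hS : S ∈ 𝓢) (hS' : S' ∈ 𝓢) (hne : S ≠ S') {a b : ℕ}
    (ha : SD S a) (hb : SD S' b) : Nat.card A ≤ 8 * (2 ^ a * 2 ^ b) ^ 2 * tau 3 q := by
  classical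
  have P := pr_of M hS hS' hne
  obtain ⟨s, h1, h2⟩ := ha.t3
  obtain ⟨t, h3, h4⟩ := hb.t3
  have k1 : ∀ {x : T}, orderOf x = 3 → ∀ w ∈ zpowers x, w ^ 3 = 1 := fun e w hw =>
    orderOf_dvd_iff_pow_eq_one.1 (e ▸ orderOf_dvd_of_mem_zpowers hw)
  have k2 : ∀ {x g : T}, x * g = g * x → ∀ w ∈ zpowers x, w * g = g * w := fun e w ⟨i, hi⟩ =>
    hi ▸ (Commute.zpow_left e i).eq
  obtain ⟨E, h5, h6, h7, h8⟩ := P.prod (zpowers_le.2 h1) (zpowers_le.2 h3) (k1 h2) (k1 h4)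
    (fun x hx w hw => (k2 (k2 rfl x hx).symm w hw).symm) fun x hx w hw => (k2 (k2 rfl x hx).symm w hw).symm
  rw [Nat.card_zpowers, Nat.card_zpowers, h2, h4] at h5
  obtain ⟨B, -, -, h9, -, h10, -, -, -, h11, -⟩ := h.tor 3 E ⟨Nat.prime_three, fun e => by rw [e, card_bot] at h5; omega,
    h6, h7⟩ (by decide) h5
  have h12 : ∀ g, s * g = g * s → t * g = g * t → g ∈ B := fun g e e' => h11 (by decide) (h8 g (k2 e) (k2 e'))
  have h13 : ∀ U ∈ 𝓢, U = S ∨ U = S' := fun U hU => by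
    by_contra k
    push Not at k
    exact NS.not_le ⟨M.simple U hU, M.nonab U hU⟩ h9 fun x hx =>
      h12 x (M.comm U hU S hS k.1 x hx s h1).symm (M.comm U hU S' hS' k.2 x hx t h3).symm
  have k3 : ∀ {x : T}, orderOf x = 3 → ∀ c : A, orderOf (c * x * (c : T)⁻¹) = 3 := fun e c =>
    ((MulAut.conj (c : T)).orderOf_eq _).trans e
  have h14 := card_le_fib (X := ({w // w ∈ S ∧ orderOf w = 3} × {w // w ∈ S' ∧ orderOf w = 3}) ⊕
      ({w // w ∈ S ∧ orderOf w = 3} × {w // w ∈ S' ∧ orderOf w = 3})) A B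
    (fun c => if e : (∀ x ∈ S, c * x * (c : T)⁻¹ ∈ S) ∧ ∀ x ∈ S', c * x * (c : T)⁻¹ ∈ S' then
      .inl (⟨_, e.1 s h1, k3 h2 c⟩, ⟨_, e.2 t h3, k3 h4 c⟩) else
      .inr (⟨_, ((swap C M hS hS' hne h13 c).resolve_left e).2 t h3, k3 h4 c⟩,
        ⟨_, ((swap C M hS hS' hne h13 c).resolve_left e).1 s h1, k3 h2 c⟩)) fun c c' e => by
    split_ifs at e
    · obtain ⟨e1, e2⟩ := Prod.mk.inj (Sum.inl.inj e)
      exact h12 _ (conj_eq (congrArg Subtype.val e1)) (conj_eq (congrArg Subtype.val e2))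
    · obtain ⟨e1, e2⟩ := Prod.mk.inj (Sum.inr.inj e)
      exact h12 _ (conj_eq (congrArg Subtype.val e2)) (conj_eq (congrArg Subtype.val e1))
  rw [Nat.card_sum, Nat.card_prod] at h14
  refine h14.trans (Nat.mul_le_mul ?_ h10.le_tau)
  have := Nat.mul_le_mul ha.three hb.three
  nlinarith

theorem big (h : Sh 2 3 q T d) (P : Pr S S') (hS : S ≤ A) (hS' : S' ≤ A) {a b : ℕ} (ha : SD S a) (hb : SD S' b)
    (hq : q < 2 ^ a) (hA : Nat.card A ≤ 8 * (2 ^ a * 2 ^ b) ^ 2 * tau 3 q) : Good A := by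
  have h0 : 0 < q := by have := h.par; omega
  have he := even_q h
  obtain ⟨y, h1, h2⟩ := ha.cyc
  have c1 : (orderOf y).Coprime 2 := h2 ▸ (odd_add even_two (by have := ha.two; omega)).coprime_two_right
  have h3 : d y = 6 := by
    rcases cls h c1 (fun e => by
      rw [e, orderOf_one] at h2
      have := Nat.one_le_two_pow (n := a)
      omega) with e | e | ⟨e, -⟩
    · exact absurd e (not_reg h P.b (P.le_cent h1) c1)
    · exact e
    · obtain ⟨m, n, w, k1, -, k2, k3, -⟩ := h.bad3 rfl y c1 e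
      obtain ⟨f, k4, rfl⟩ := h.pw
      exact absurd (h2 ▸ k2 ▸ orderOf_dvd_of_mem_zpowers k3)
        (not_dvd_bd k4 ((Nat.pow_lt_pow_iff_right one_lt_two).1 hq) k1)
  have k1 : ∀ x, (orderOf x).Coprime 2 → d x = 6 → ∃ u, Odd u ∧ cn x = q * u := fun x e e' => by
    obtain ⟨m, k2, k3, -⟩ := h.mild x e e'
    exact ⟨_, (odd_sub he h0 two_ne_zero).mul (k2.elim (· ▸ odd_sub he h0 (by decide)) (· ▸ odd_add he (by decide))),
      k3.trans (mul_assoc _ _ _)⟩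
  obtain ⟨u, h4, h5⟩ := k1 y c1 h3
  have h6 := hb.le h0 h4 ((dvd_mul_right _ _).trans (h5 ▸ P.b.dvd_cn (P.le_cent h1)))
  obtain ⟨r, h7, h8, h9, h10⟩ := exists_partner a hb.two
  obtain ⟨z, h11, rfl⟩ := exists_ord h7 (hb.card ▸ h9.mul_left _)
  have c2 := cop_two h7 h8
  have c3 : (orderOf y).Coprime (orderOf z) := h2 ▸ (h7.coprime_iff_not_dvd.2 h10).symm
  have h12 : 2 ^ a ≤ q ^ 3 := by
    rcases cls h c2 (ne_one h7) with e | e | ⟨e, -⟩
    · exact absurd e (not_reg h P.a (P.symm.le_cent h11) c2)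
    · obtain ⟨v, k2, k3⟩ := k1 z c2 e
      exact (ha.le h0 k2 ((dvd_mul_right _ _).trans (k3 ▸ P.a.dvd_cn (P.symm.le_cent h11)))).trans
        (Nat.le_self_pow (by decide) q)
    · obtain ⟨m, n, w, k2, k3, k4, k5, -, k6⟩ := h.bad3 rfl z c2 e
      obtain ⟨v, k7, rfl⟩ := bd_odd he h0 k2
      have k8 : centralizer {w} ≤ centralizer {z} := fun g hg => by
        obtain ⟨i, rfl⟩ := k5
        exact mem_centralizer_singleton_iff.2
          ((show Commute g w from mem_centralizer_singleton_iff.1 hg).zpow_right i).eq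
      have k9 := P.a.dvd_cn ((P.symm.le_cent h11).trans (eq_of_le_of_card_ge k8 k6.ge).ge)
      rw [k6, k3, k4, mul_comm m] at k9
      exact ha.le (by positivity) k7 (Nat.dvd_of_mul_dvd_mul_right (k4 ▸ orderOf_pos w) k9)
  refine h.good_reg (mul_mem (hS h1) (hS' h11)) (cop_mul P h1 h11 c1 c2 c3)
    (reg_of_mild h P h1 h11 (ne_one h7) c1 c2 c3 h3) (hA.trans (Nat.mul_le_mul_right _ (Nat.mul_le_mul_left _ ?_)))
    (num_c ((Nat.pow_le_pow_right two_pos hb.two).trans h6))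
  exact (Nat.pow_le_pow_left (Nat.mul_le_mul h12 h6) 2).trans_eq (by ring)

theorem good3 (h : Sh 2 3 q T d) (C : Cx 2 A Γ) (M : Mul A Γ 𝓢) : Good A := by
  obtain ⟨S, hS, S', hS', hne⟩ := M.two
  have P := pr_of M hS hS' hne
  obtain ⟨a, ha⟩ := exists_sd h P
  obtain ⟨b, hb⟩ := exists_sd h P.symm
  have h1 := card_A h C M hS hS' hne ha hb
  rcases lt_or_ge q (2 ^ a) with h2 | h2
  · exact big h P (M.le S hS) (M.le S' hS') ha hb h2 h1
  rcases lt_or_ge q (2 ^ b) with h3 | h3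
  · exact big h P.symm (M.le S' hS') (M.le S hS) hb ha h3 (mul_comm (2 ^ a) _ ▸ h1)
  have h4 : 4 ≤ q := (Nat.pow_le_pow_right two_pos ha.two).trans h2
  obtain ⟨y, h5, h6⟩ := ha.t3
  obtain ⟨z, h7, h8, h9, h10⟩ := P.b.elt Nat.prime_three
  have c1 : (orderOf y).Coprime 2 := h6 ▸ by decide
  have c2 := cop_two h8 h9
  have c3 : (orderOf y).Coprime (orderOf z) := h6 ▸ (Nat.coprime_primes Nat.prime_three h8).2 h10.symm
  refine h.good_cm (mul_mem (M.le S hS h5) (M.le S' hS' h7)) (cop_mul P h5 h7 c1 c2 c3) (mul_ne P h5 h7 (ne_one h8) c3)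
    (le_of_bad h P h5 h7 (ne_one h8) c1 c2 c3 (ne_one (h6 ▸ Nat.prime_three)) rfl h4)
    (h1.trans (Nat.mul_le_mul_right _ (Nat.mul_le_mul_left _ ?_))) (num_b h4)
  exact (Nat.pow_le_pow_left (Nat.mul_le_mul h2 h3) 2).trans_eq (by ring)

end MuB

/-- **[Mul]** -/
theorem boxMul : BoxMul := by
  intro p k q T _ _ _ d A Γ h C 𝓢 M
  obtain ⟨S, hS, S', hS', hne⟩ := M.two
  obtain rfl := MuB.two h (MuB.pr_of M hS hS' hne)
  rcases h.par with ⟨rfl, -⟩ | ⟨rfl, -⟩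
  exacts [MuB.good1 h C M, MuB.good3 h C M]

end Cfsg.Agent.N2.G2
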