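import Cfsg.Agent.N2.G2.ATabI
import Cfsg.Agent.ChevalleyStructure.WeylData

/-!
# N2, `G₂(q)` and `³D₄(q)`, box [A]: the two root systems (helper52)

`Ty cs h k θ` : the facts on the root system and the twisted action `θ`; `tyG`, `tyD`.
-/

set_option autoImplicit false
set_option linter.unusedSectionVars false

namespace Cfsg.Agent.N2.G2.A

open Subgroup Cfsg Cfsg.Lie CoxeterSystem
open Cfsg.Agent.ChevalleyStructure Cfsg.Agent.ChevalleyStructure.CoxeterGeom Cfsg.Agent.Tits.Roots Cfsg.Agent.Nodes.Reps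
  Cfsg.Agent.Nodes.Coroot Cfsg.Agent.SB.Low

section Root

variable {I W : Type} [Fintype I] [DecidableEq I] [Group W] {M₀ : CoxeterMatrix I} (cs : CoxeterSystem M₀ W)
  {A : I → I → ℤ} (h : IsCartan M₀ A)

/-- the facts on the root system -/
structure Ty (k : ℕ) (θ : (I → ℤ) →+ (I → ℤ)) : Prop extends RB cs h k θ where
  cardI : Fintype.card I = k + 1
  pp : PPr cs h
  cw : {v : W | ∀ x, θ (rep cs h v x) = rep cs h v (θ x)}.ncard ≤ ww k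
  dvd : Nat.card W ∣ 192
  w12 : k = 1 → Nat.card W = 12
  inn : k = 1 → ∃ w, ∀ x, θ x = rep cs h w x
  tor : ∀ (q : ℕ) (ψ : (I → ℤ) →ₗ[ℤ] (I → ℤ)), 1 ≤ q → (∀ x, ψ (θ x) = (q : ℤ) • x) →
    Tor k q (LinearMap.det (ψ - 1)).natAbs

omit [Group W] in
theorem det_psi {θ : (I → ℤ) →+ (I → ℤ)} {q : ℕ} {ψ : (I → ℤ) →ₗ[ℤ] (I → ℤ)} (hψ : ∀ x, ψ (θ x) = (q : ℤ) • x)
    (h1 : (LinearMap.det θ.toIntLinearMap).natAbs = 1) :
    (LinearMap.det (ψ - 1)).natAbs = (LinearMap.det ((q : ℤ) • 1 - θ.toIntLinearMap)).natAbs := by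
  have h3 : (ψ - 1) * θ.toIntLinearMap = (q : ℤ) • 1 - θ.toIntLinearMap := LinearMap.ext fun x => by simp [hψ x]
  rw [← h3, map_mul, Int.natAbs_mul, h1, mul_one]

end Root

theorem nat_eq {z : ℤ} {n : ℕ} (h : z = n ∨ z = -n) : z.natAbs = n := by rcases h with rfl | rfl <;> simp

/-! ### `G₂` -/

/-- coordinates -/
def eG : (Fin 2 → ℤ) ≃+ Tab.G.T2 := ⟨⟨Tab.G.vt, Tab.G.tv, Tab.G.tv_vt, fun _ => rfl⟩, Tab.G.vt_add⟩

theorem gTor : (Tab.G.WL.all fun m => [((2 : ℤ), (1 : ℤ)), (-2, 1), (0, -1), (-1, 1), (1, 1)].contains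
    (m.1.1 + m.2.2, Tab.G.dt m.1 m.2)) = true := by decide +kernel

theorem detG (f : (Fin 2 → ℤ) →ₗ[ℤ] (Fin 2 → ℤ)) :
    LinearMap.det f = Tab.G.dt (Tab.G.vt (f (sr 0))) (Tab.G.vt (f (sr 1))) := by
  rw [← LinearMap.det_toMatrix', Matrix.det_fin_two]
  simp only [LinearMap.toMatrix'_apply, Tab.G.dt, Tab.G.vt, sr]
  ring

theorem tyG (w : CoxeterMatrix.G₂.Group) : Ty CoxeterMatrix.G₂.toCoxeterSystem hpG2.isCartan 1
    (tw CoxeterMatrix.G₂.toCoxeterSystem hpG2.isCartan w (AddEquiv.refl (Fin 2 → ℤ)).toAddMonoidHom) := by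
  have := Nodes.RGDChev.finite_W hpG2 CoxeterMatrix.G₂.toCoxeterSystem
  have h12 : Nat.card CoxeterMatrix.G₂.Group = 12 := WeylData.certG2.card_group.trans WeylData.size_G2
  have B : Br _ hpG2.isCartan tG
      (tw CoxeterMatrix.G₂.toCoxeterSystem hpG2.isCartan w (AddEquiv.refl (Fin 2 → ℤ)).toAddMonoidHom) eG :=
    ⟨Tab.G.root_iff _, fun x _ hc => Tab.G.cpr_eq _ x hc, by decide +kernel,
      fun v => ⟨_, Tab.G.mat_mem _ v, Tab.G.ap_mat _ v⟩, ⟨_, Tab.G.mat_mem _ w, Tab.G.ap_mat _ w⟩, fun _ ha => ha.act w, gBas⟩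
  refine ⟨B.rb gCls gPm gGen gOrd gNeg fun _ => gG, rfl, boxTabG.pp, ?_, h12 ▸ by norm_num, fun _ => h12,
    fun _ => ⟨w, fun _ => rfl⟩, fun q ψ hq hψ => Or.inl ⟨rfl, ?_⟩⟩
  · exact (Set.ncard_le_card _).trans h12.le
  have h1 := List.contains_iff_mem.1 (List.all_eq_true.1 gTor _ (Tab.G.mat_mem CoxeterMatrix.G₂.toCoxeterSystem w))
  have h2 : LinearMap.det (tw CoxeterMatrix.G₂.toCoxeterSystem hpG2.isCartan w
      (AddEquiv.refl (Fin 2 → ℤ)).toAddMonoidHom).toIntLinearMap =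
      Tab.G.dt (Tab.G.mat CoxeterMatrix.G₂.toCoxeterSystem w).1 (Tab.G.mat CoxeterMatrix.G₂.toCoxeterSystem w).2 := detG _
  have h3 : LinearMap.det ((q : ℤ) • 1 - (tw CoxeterMatrix.G₂.toCoxeterSystem hpG2.isCartan w
      (AddEquiv.refl (Fin 2 → ℤ)).toAddMonoidHom).toIntLinearMap) = q ^ 2 -
      ((Tab.G.mat CoxeterMatrix.G₂.toCoxeterSystem w).1.1 + (Tab.G.mat CoxeterMatrix.G₂.toCoxeterSystem w).2.2) * q +
      Tab.G.dt (Tab.G.mat CoxeterMatrix.G₂.toCoxeterSystem w).1 (Tab.G.mat CoxeterMatrix.G₂.toCoxeterSystem w).2 := by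
    rw [detG]
    simp [Tab.G.mat, Tab.G.dt, Tab.G.vt, sr, tw]
    ring
  generalize (Tab.G.mat CoxeterMatrix.G₂.toCoxeterSystem w).1.1 + (Tab.G.mat CoxeterMatrix.G₂.toCoxeterSystem w).2.2 = a at h1 h3
  generalize Tab.G.dt (Tab.G.mat CoxeterMatrix.G₂.toCoxeterSystem w).1 (Tab.G.mat CoxeterMatrix.G₂.toCoxeterSystem w).2 = b
    at h1 h2 h3
  simp only [List.mem_cons, Prod.mk.injEq, List.not_mem_nil, or_false] at h1
  rw [det_psi hψ (by rw [h2]; rcases h1 with h | h | h | h | h <;> rw [h.2] <;> rfl), h3]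
  obtain ⟨q, rfl⟩ := Nat.exists_eq_add_of_le' hq
  have e2 : (q + 1) ^ 2 - 1 = q ^ 2 + 2 * q := Nat.sub_eq_of_eq_add (by ring)
  have e3 : (q + 1) ^ 2 - (q + 1) = q ^ 2 + q := Nat.sub_eq_of_eq_add (by ring)
  rw [e2, e3, Nat.add_sub_cancel]
  rcases h1 with ⟨rfl, rfl⟩ | ⟨rfl, rfl⟩ | ⟨rfl, rfl⟩ | ⟨rfl, rfl⟩ | ⟨rfl, rfl⟩
  · exact Or.inl (nat_eq (Or.inl (by push_cast; ring)))
  · exact Or.inr (Or.inl (nat_eq (Or.inl (by push_cast; ring))))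
  · exact Or.inr (Or.inr (Or.inl (nat_eq (Or.inl (by push_cast; ring)))))
  · exact Or.inr (Or.inr (Or.inr (Or.inl (nat_eq (Or.inl (by push_cast; ring))))))
  · exact Or.inr (Or.inr (Or.inr (Or.inr (nat_eq (Or.inl (by push_cast; ring))))))

/-! ### `D₄` -/

/-- coordinates -/
def eD : (Fin 4 → ℤ) ≃+ Tab.D.T4 := ⟨⟨Tab.D.vt, Tab.D.tv, Tab.D.tv_vt, fun _ => rfl⟩, Tab.D.vt_add⟩

open Tab.D in
theorem dTor : (WL.all fun m => [((1 : ℤ), (0 : ℤ), (1 : ℤ), (1 : ℤ)), (-1, 0, 1, -1), (1, 0, -1, -1), (-1, 0, -1, 1),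
    (-2, 3, -2, 1), (2, 3, 2, 1), (0, -1, 0, 1)].contains (e1 (tm m), e2 (tm m), e3 (tm m), e4 (tm m))) = true := by
  decide +kernel

open Tab.D Nodes.RGDTwD4 in
theorem tyD (w : coxeterD4.Group) : Ty coxeterD4.toCoxeterSystem hp.isCartan 3
    (tw coxeterD4.toCoxeterSystem hp.isCartan w (H720.TwFr.permE H720.TwFr.rho4).toAddMonoidHom) := by
  have := Nodes.RGDChev.finite_W hp coxeterD4.toCoxeterSystem
  have hT := boxTabD.2 w
  have hm := mat_mem coxeterD4.toCoxeterSystem w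
  have hθ : ∀ x, vt (tw coxeterD4.toCoxeterSystem hp.isCartan w (H720.TwFr.permE H720.TwFr.rho4).toAddMonoidHom x) =
      ap (tm (mat coxeterD4.toCoxeterSystem w)) (vt x) := fun x => by
    show vt (rep _ hp.isCartan w (H720.TwFr.permE H720.TwFr.rho4 x)) = _
    rw [ap_mat, g_eq]
    simp only [ap, tm, id4, r18, r14, r13, r12]
    refine Prod.ext ?_ (Prod.ext ?_ (Prod.ext ?_ ?_)) <;> simp only <;> ring
  have hr : ∀ a, IsRoot coxeterD4.toCoxeterSystem hp.isCartan a → IsRoot coxeterD4.toCoxeterSystem hp.isCartan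
      (tw coxeterD4.toCoxeterSystem hp.isCartan w (H720.TwFr.permE H720.TwFr.rho4).toAddMonoidHom a) := fun a ha => by
    refine IsRoot.act ((root_iff _ _).2 ?_) w
    show vt (H720.TwFr.permE H720.TwFr.rho4 a) ∈ RL
    rw [g_eq]
    exact List.contains_iff_mem.1 (List.all_eq_true.1 chk_g _ ((root_iff _ a).1 ha))
  generalize tw coxeterD4.toCoxeterSystem hp.isCartan w (H720.TwFr.permE H720.TwFr.rho4).toAddMonoidHom = θ at hT hθ hr
  generalize mat coxeterD4.toCoxeterSystem w = m at hm hθ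
  have B : Br _ hp.isCartan tD θ eD :=
    ⟨root_iff _, fun x _ hc => cpr_eq _ x hc, by decide +kernel, fun v => ⟨_, mat_mem _ v, ap_mat _ v⟩,
      ⟨_, List.mem_map_of_mem hm, hθ⟩, hr, dBas⟩
  refine ⟨B.rb dCls dPm dGen dOrd dNeg fun h => absurd h (by norm_num), rfl, boxTabD.1.pp, hT.cw,
    (WeylData.certD4.card_group.trans WeylData.size_D4).dvd, fun h => absurd h (by norm_num), fun h => absurd h (by norm_num),
    fun q ψ hq hψ => Or.inr ⟨rfl, ?_⟩⟩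
  have h1 := List.contains_iff_mem.1 (List.all_eq_true.1 dTor m hm)
  have h2 : mt θ = tm m := by
    simp only [Tab.D.mt, hθ]
    simp [ap, vt, sr]
  have h5 : LinearMap.det ((q : ℤ) • 1 - θ.toIntLinearMap) =
      q ^ 4 - e1 (mt θ) * q ^ 3 + e2 (mt θ) * q ^ 2 - e3 (mt θ) * q + e4 (mt θ) := by
    rw [det_eq]
    simp [Tab.D.mt, e1, e2, e3, e4, dt, cr, vt, sr]
    ring
  have h6 : LinearMap.det θ.toIntLinearMap = e4 (mt θ) := det_eq _
  rw [h2] at h5 h6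
  generalize e1 (tm m) = a at h1 h5
  generalize e2 (tm m) = b at h1 h5
  generalize e3 (tm m) = c at h1 h5
  generalize e4 (tm m) = d at h1 h5 h6
  simp only [List.mem_cons, Prod.mk.injEq, List.not_mem_nil, or_false] at h1
  rw [det_psi hψ (by rw [h6]; rcases h1 with h | h | h | h | h | h | h <;> rw [h.2.2.2] <;> rfl), h5]
  obtain ⟨q, rfl⟩ := Nat.exists_eq_add_of_le' hq
  have a3 : (q + 1) ^ 3 - 1 = q ^ 3 + 3 * q ^ 2 + 3 * q := Nat.sub_eq_of_eq_add (by ring)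
  have a2 : (q + 1) ^ 2 - (q + 1) = q ^ 2 + q := Nat.sub_eq_of_eq_add (by ring)
  have a4 : (q + 1) ^ 4 - (q + 1) ^ 2 = q ^ 4 + 4 * q ^ 3 + 5 * q ^ 2 + 2 * q := Nat.sub_eq_of_eq_add (by ring)
  rw [a3, a2, a4, Nat.add_sub_cancel]
  rcases h1 with ⟨rfl, rfl, rfl, rfl⟩ | ⟨rfl, rfl, rfl, rfl⟩ | ⟨rfl, rfl, rfl, rfl⟩ | ⟨rfl, rfl, rfl, rfl⟩ |
    ⟨rfl, rfl, rfl, rfl⟩ | ⟨rfl, rfl, rfl, rfl⟩ | ⟨rfl, rfl, rfl, rfl⟩
  · exact Or.inl (nat_eq (Or.inl (by push_cast; ring)))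
  · exact Or.inr (Or.inl (nat_eq (Or.inl (by push_cast; ring))))
  · exact Or.inr (Or.inr (Or.inl (nat_eq (Or.inl (by push_cast; ring)))))
  · exact Or.inr (Or.inr (Or.inr (Or.inl (nat_eq (Or.inl (by push_cast; ring))))))
  · exact Or.inr (Or.inr (Or.inr (Or.inr (Or.inl (nat_eq (Or.inl (by push_cast; ring)))))))
  · exact Or.inr (Or.inr (Or.inr (Or.inr (Or.inr (Or.inl (nat_eq (Or.inl (by push_cast; ring))))))))
  · exact Or.inr (Or.inr (Or.inr (Or.inr (Or.inr (Or.inr (nat_eq (Or.inl (by push_cast; ring))))))))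

end Cfsg.Agent.N2.G2.A
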