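import Cfsg.Agent.N2.G2.ABr
import Cfsg.Agent.N2.G2.ACon
import Cfsg.Agent.SB.Low.Model

/-!
# N2, `G₂(q)` and `³D₄(q)`, box [A]: frames (helper52)

`Fr κ n D ι θ dY` : the model `Md` with the facts on the roots; `Fr.frame`, `Fr.frame1`, `Fr.t2`, `Fr.frame2`;
`tB D ι` : the finite torus.
-/

set_option autoImplicit false
set_option linter.unusedSectionVars false

namespace Cfsg.Agent.N2.G2.A

open Subgroup Cfsg CoxeterSystem Cfsg.Agent.H786.FC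
open Cfsg.Agent.ChevalleyStructure.CoxeterGeom Cfsg.Agent.Tits.Roots Cfsg.Agent.Nodes.Reps Cfsg.Agent.Nodes.BNOf
  Cfsg.Agent.Nodes.Coroot Cfsg.Agent.DL Cfsg.Agent.SB.Exc Cfsg.Agent.SB.Low

variable {p : ℕ} [Fact p.Prime] {k : Type} [Field k] [CharP k p] [IsAlgClosed k] {Y : Type} [Group Y] {N : Type}
  [Fintype N] [DecidableEq N] {ρ : Y →* GL N k} {F : MulAut Y} {K : Type} [Group K] [Finite K]

/-- a frame -/
structure Fr (κ n : ℕ) (D : Datum p ρ F ⊤) (ι : K →* Y) (θ : (D.I → ℤ) →+ (D.I → ℤ)) (dY : Y → ℕ) : Prop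
    extends Md n D ι θ where
  ty : ∀ w, Ty D.cs D.h κ (tw D.cs D.h w θ)
  nf : NF D
  dc : ∀ g y, dY (g * y * g⁻¹) = dY y
  dt : ∀ t ∈ D.T, dY t = κ + 1 + (D.Sz {t}).ncard

/-- the finite torus -/
abbrev tB (D : Datum p ρ F ⊤) (ι : K →* Y) : Subgroup K := D.T.comap ι

/-- the characters which are trivial on `x` -/
abbrev La (D : Datum p ρ F ⊤) (ι : K →* Y) (x : K) : AddSubgroup (D.I → ℤ) := D.Lam {ι x}

variable {κ n : ℕ} {D : Datum p ρ F ⊤} {ι : K →* Y} {θ : (D.I → ℤ) →+ (D.I → ℤ)} {dY : Y → ℕ} {E : Subgroup K} {r : ℕ}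
  {x y g : K} {a : D.I → ℤ}

theorem mem_La : a ∈ La D ι x ↔ D.χ a (ι x) = 1 := ⟨fun h => h _ rfl, fun h _ e => e ▸ h⟩

theorem χ_zpow (a : D.I → ℤ) {t : Y} (ht : t ∈ D.T) (m : ℤ) : D.χ a (t ^ m) = D.χ a t ^ m := by
  obtain ⟨c, rfl⟩ := (D.mem_T t).1 ht
  rw [← map_zpow, D.χ_τ, D.χ_τ, map_zpow, Units.val_zpow_eq_zpow_val]

theorem im_sub (h : E ≤ tB D ι) : im ι E ⊆ D.T := by
  rintro _ ⟨x, hx, rfl⟩
  exact h hx

theorem lam_zpowers (hx : x ∈ tB D ι) : D.Lam (im ι (zpowers x)) = La D ι x := by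
  refine AddSubgroup.ext fun a => ⟨fun h => mem_La.2 (h _ ⟨x, mem_zpowers x, rfl⟩), fun h => ?_⟩
  rintro _ ⟨_, ⟨j, rfl⟩, rfl⟩
  rw [map_zpow, χ_zpow a hx, mem_La.1 h, one_zpow]

theorem lam_le (hx : x ∈ E) : D.Lam (im ι E) ≤ La D ι x := fun _ h => mem_La.2 (h _ ⟨x, hx, rfl⟩)

namespace Fr

variable (H : Fr κ n D ι θ dY)

include H

theorem conj {y : Y} (hy : y ∈ (⊤ : Subgroup Y)) (hy' : y⁻¹ * F y ∈ D.NN) :
    Fr κ n (D.conj hy hy') ι (tw D.cs D.h (D.pr (y⁻¹ * F y)) θ) dY := by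
  refine ⟨H.toMd.conj hy hy', fun w => (tw_tw D.cs D.h w _ θ).symm ▸ H.ty _, H.nf.conj hy hy', H.dc, ?_⟩
  rintro _ ⟨t, ht, rfl⟩
  refine (H.dc y t).trans ((H.dt t ht).trans (congrArg (fun s : Set (D.I → ℤ) => κ + 1 + s.ncard) (Set.ext fun a => ?_)))
  exact and_congr_right fun _ => ⟨fun h _ e => e ▸ (D.conj_χ hy hy' a ht).trans (h t rfl),
    fun h _ e => e ▸ (D.conj_χ hy hy' a ht).symm.trans (h _ rfl)⟩

theorem ty0 : Ty D.cs D.h κ θ := by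
  have h := H.ty 1
  rwa [show tw D.cs D.h 1 θ = θ from AddMonoidHom.ext fun x => by rw [tw, map_one]; rfl] at h

theorem frame {Z : Set K} (ht : ∃ g : Y, ∀ x ∈ Z, g * ι x * g⁻¹ ∈ D.T) :
    ∃ (D' : Datum p ρ F ⊤) (θ' : (D'.I → ℤ) →+ (D'.I → ℤ)), Fr κ n D' ι θ' dY ∧ ∀ x ∈ Z, x ∈ tB D' ι := by
  obtain ⟨g, hg⟩ := ht
  obtain ⟨y, hy, hy', h1, -⟩ := Max.exists_conj_le_T D (Z := ι '' Z) (x := g⁻¹)
    (by rintro _ ⟨x, hx, rfl⟩; exact ⟨x, hx, (H.fix x).symm⟩) trivial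
    (by rintro _ ⟨x, hx, rfl⟩; rw [inv_inv]; exact hg x hx)
  exact ⟨_, _, H.conj hy hy', fun x hx => h1 ⟨x, hx, rfl⟩⟩

theorem nd (hx : (orderOf x).Coprime p) : ¬ p ∣ orderOf (ι x) := by
  rw [orderOf_injective ι H.inj]
  exact (Fact.out : p.Prime).coprime_iff_not_dvd.1 hx.symm

theorem frame1 (hx : (orderOf x).Coprime p) :
    ∃ (D' : Datum p ρ F ⊤) (θ' : (D'.I → ℤ) →+ (D'.I → ℤ)), Fr κ n D' ι θ' dY ∧ x ∈ tB D' ι := by
  obtain ⟨y, hy, hy', h1⟩ := TO.E6.exists_frame D (s := ι x) ⟨trivial, H.fix x⟩ (H.nd hx)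
  exact ⟨_, _, H.conj hy hy', h1⟩

/-- two commuting `p'`-elements lie in a common finite torus -/
theorem t2 (hx : (orderOf x).Coprime p) (hy : (orderOf y).Coprime p) (h : x * y = y * x) :
    ∃ (D' : Datum p ρ F ⊤) (θ' : (D'.I → ℤ) →+ (D'.I → ℤ)), Fr κ n D' ι θ' dY ∧ x ∈ tB D' ι ∧ y ∈ tB D' ι := by
  obtain ⟨g, h1, h2⟩ := H.nf.two ⟨trivial, H.fix x⟩ ⟨trivial, H.fix y⟩ (H.nd hx) (H.nd hy) (by rw [← map_mul, h, map_mul])
  obtain ⟨D', θ', h3, h4⟩ := H.frame (Z := {x, y}) ⟨g, by rintro _ (rfl | rfl); exacts [h1, h2]⟩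
  exact ⟨D', θ', h3, h4 x (Or.inl rfl), h4 y (Or.inr rfl)⟩

theorem frame2 (hE : EA r E) (hr : r ≠ p) (h : Nat.card E = r ^ 2) :
    ∃ (D' : Datum p ρ F ⊤) (θ' : (D'.I → ℤ) →+ (D'.I → ℤ)), Fr κ n D' ι θ' dY ∧ E ≤ tB D' ι := by
  have h0 : ∀ x ∈ E, (orderOf x).Coprime p := fun x hx =>
    ((Nat.coprime_primes hE.prime Fact.out).2 hr).coprime_dvd_left (orderOf_dvd_of_pow_eq_one (hE.pow x hx))
  have h2 := hE.prime.one_lt
  obtain ⟨x, hx, -, h1⟩ := hE.exists_ne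
  obtain ⟨y, hy, h3⟩ := SetLike.not_le_iff_exists.1 fun e : E ≤ zpowers x => by
    have := card_le_of_le e
    rw [h, Nat.card_zpowers, h1] at this
    nlinarith
  obtain ⟨D', θ', h4, h5, h6⟩ := H.t2 (h0 x hx) (h0 y hy) (hE.comm x hx y hy)
  refine ⟨D', θ', h4, inf_eq_left.1 (eq_of_le_of_card_ge inf_le_left ?_)⟩
  have h7 : zpowers x < E ⊓ tB D' ι := lt_of_le_of_ne (zpowers_le.2 ⟨hx, h5⟩) fun e => h3 (e ▸ ⟨hy, h6⟩)
  have h8 : r < Nat.card ↥(E ⊓ tB D' ι) := by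
    rw [← h1, ← Nat.card_zpowers]
    exact lt_of_not_ge fun e => h7.ne (eq_of_le_of_card_ge h7.le e)
  obtain ⟨i, hi, e⟩ := (Nat.dvd_prime_pow hE.prime).1 (h ▸ card_dvd_of_le (inf_le_left : E ⊓ tB D' ι ≤ E))
  rw [e] at h8 ⊢
  rw [h]
  interval_cases i <;> simp_all

theorem psi (a : D.I → ℤ) : D.ψ (θ a) = ((p ^ n : ℕ) : ℤ) • a :=
  hom_ext_sr (f := D.ψ.comp θ) (g := ((p ^ n : ℕ) : ℤ) • AddMonoidHom.id (D.I → ℤ)) (fun i => by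
    have h2 := D.ψ_g (isRoot_sr D.cs D.h i)
    rw [H.g, H.ex _ (isRoot_sr D.cs D.h i)] at h2
    exact h2.trans (by push_cast; rfl)) a

theorem st_iff (hx : x ∈ tB D ι) (a : D.I → ℤ) : θ a ∈ La D ι x ↔ a ∈ La D ι x := by
  rw [mem_La, mem_La, ← H.fix x, D.χ_ψ _ hx, H.psi, D.χ_zsmul, zpow_natCast, H.fix, ← mul_one (p ^ n),
    ExpChar.pow_prime_pow_mul_eq_one_iff, pow_one]

theorem st (hx : x ∈ tB D ι) : St θ (La D ι x) := fun a => (H.st_iff hx a).2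

theorem one_of (hx : x ∈ tB D ι) (h : ∀ a, a ∈ La D ι x) : x = 1 :=
  H.inj (by rw [map_one]; exact H.eq_one hx fun a => mem_La.1 (h a))

theorem proper (hx : x ∈ tB D ι) (h : x ≠ 1) : ∃ a, a ∉ La D ι x := not_forall.1 fun h1 => h (H.one_of hx h1)

omit H in
theorem smul_iff (hx : x ∈ tB D ι) (m : ℤ) : m • a ∈ La D ι x ↔ a ∈ La D ι (x ^ m) := by
  rw [mem_La, mem_La, map_zpow, χ_zpow a hx, D.χ_zsmul]

theorem zpow_one (hx : x ∈ tB D ι) {m : ℤ} (h : ∀ a, m • a ∈ La D ι x) : x ^ m = 1 :=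
  H.one_of (zpow_mem hx m) fun a => (smul_iff hx m).1 (h a)

theorem comm (hx : x ∈ tB D ι) (hy : y ∈ tB D ι) : x * y = y * x := H.inj (by rw [map_mul, map_mul]; exact D.T_comm hx hy)

theorem eq_of (hx : x ∈ tB D ι) (hy : y ∈ tB D ι) (h : ∀ a, D.χ a (ι x) = D.χ a (ι y)) : x = y :=
  mul_inv_eq_one.1 (H.one_of (mul_mem hx (inv_mem hy)) fun a => mem_La.2 (by
    rw [map_mul, map_inv, D.χ_mul a hx (inv_mem hy), D.χ_inv a hy, h, mul_inv_cancel₀ (D.χ_ne_zero _ _)]))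

theorem card_le (hE : E ≤ tB D ι) (hr : r ≠ 0) (h1 : ∀ e ∈ E, e ^ r = 1) {J : Type} [Fintype J] (f : J → D.I → ℤ)
    (h2 : ∀ e ∈ E, (∀ j, f j ∈ La D ι e) → e = 1) : Nat.card E ≤ r ^ Fintype.card J := by
  have : NeZero r := ⟨hr⟩
  have h3 : ∀ (e : E) j, chr (D.wt (f j)) (D.crd (ι e)) ∈ rootsOfUnity r k := fun e j => Units.ext (by
    have h4 := χ_zpow (f j) (hE e.2) r
    rw [← map_zpow, zpow_natCast, zpow_natCast, h1 e e.2, map_one, D.χ_one] at h4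
    exact h4.symm)
  refine le_trans (Nat.card_le_card_of_injective (β := J → rootsOfUnity r k) (fun e j => ⟨_, h3 e j⟩) fun v w e => ?_) ?_
  · refine Subtype.ext (mul_inv_eq_one.1 (h2 _ (mul_mem v.2 (inv_mem w.2)) fun j => mem_La.2 ?_))
    have h4 : D.χ (f j) (ι v) = D.χ (f j) (ι w) := congrArg (fun z : rootsOfUnity r k => ((z : kˣ) : k)) (congrFun e j)
    rw [map_mul, map_inv, D.χ_mul _ (hE v.2) (inv_mem (hE w.2)), D.χ_inv _ (hE w.2), h4, mul_inv_cancel₀ (D.χ_ne_zero _ _)]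
  · rw [Nat.card_fun, Nat.card_eq_fintype_card (α := J)]
    exact Nat.pow_le_pow_left (card_rootsOfUnity k r) _

theorem card_two (hE : E ≤ tB D ι) (hr : r ≠ 0) (h1 : ∀ e ∈ E, e ^ r = 1) : Nat.card E ≤ r ^ 2 := by
  obtain ⟨a, b, h⟩ := H.ty0.two
  exact H.card_le hE hr h1 ![a, b] fun e he h2 => H.one_of (hE he) (h _ (H.st (hE he)) (h2 0) (h2 1))

theorem empty (hE : EA r E) (h : Nat.card E = r ^ 2) (hZ : E ≤ tB D ι) : D.Sz (im ι E) = ∅ := by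
  by_contra h1
  obtain ⟨b, hb⟩ := H.ty0.one _ (fun _ => H.stab (im_sub hZ)) (Set.nonempty_iff_ne_empty.2 h1)
  have h2 := H.card_le hZ hE.prime.ne_zero hE.pow (fun _ : Unit => b) fun e he h2 =>
    H.one_of (hZ he) (hb _ (lam_le he) (H.st (hZ he)) (h2 ()))
  have := hE.prime.one_lt
  rw [h, Fintype.card_unit] at h2
  nlinarith

theorem card_B : Nat.card (tB D ι) = (LinearMap.det (D.ψ.toIntLinearMap - 1)).natAbs := by
  have h1 : Nat.card (tB D ι) = Nat.card ↥(D.T ⊓ GF F ⊤) := Nat.card_congr (Equiv.ofBijective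
    (fun g => ⟨ι g, g.2, trivial, H.fix _⟩) ⟨fun _ _ h => Subtype.ext (H.inj (congrArg Subtype.val h)), fun ⟨y, h1, h2⟩ => by
      obtain ⟨x, rfl⟩ := (H.range y).1 h2.2
      exact ⟨⟨x, h1⟩, rfl⟩⟩)
  rw [h1, D.card_TF]
  let e : (D.I → ℤ) ≃ₗ[ℤ] (D.R → ℤ) := (AddEquiv.ofBijective D.wt H.wt).toIntLinearEquiv
  have h3 : (e : (D.I → ℤ) →ₗ[ℤ] (D.R → ℤ)) ∘ₗ (D.ψ.toIntLinearMap - 1) ∘ₗ (e.symm : (D.R → ℤ) →ₗ[ℤ] (D.I → ℤ)) =
      Matrix.toLin' (D.Mx - 1).transpose := by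
    refine LinearMap.ext fun y => ?_
    obtain ⟨x, rfl⟩ := e.surjective y
    rw [LinearMap.comp_apply, LinearMap.comp_apply, LinearEquiv.coe_coe, LinearEquiv.coe_coe, e.symm_apply_apply,
      Matrix.toLin'_apply, Matrix.mulVec_transpose, Matrix.vecMul_sub, Matrix.vecMul_one]
    show D.wt (D.ψ x - x) = Matrix.vecMul (D.wt x) D.Mx - D.wt x
    rw [map_sub, D.wt_ψ]
  rw [← LinearMap.det_conj _ e, h3, LinearMap.det_toLin', Matrix.det_transpose]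

theorem tor_B : Tor κ (p ^ n) (Nat.card (tB D ι)) :=
  H.card_B ▸ H.ty0.tor _ _ (one_le_two.trans H.two_le) H.psi

theorem cop_B : (Nat.card (tB D ι)).Coprime p :=
  ((Fact.out : p.Prime).coprime_iff_not_dvd.2 (H.not_dvd fun _ h => h)).symm

theorem B_le_Cz (hZ : E ≤ tB D ι) : tB D ι ≤ Cz E := fun _ hx => mem_Cz.2 fun _ hy => H.comm (hZ hy) hx

omit H in
theorem conj_mem (hg : ι g ∈ D.NN) (hx : x ∈ tB D ι) : g * x * g⁻¹ ∈ tB D ι := by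
  rw [mem_comap, map_mul, map_mul, map_inv]
  exact D.conj_mem_T hg hx

omit H in
theorem mem_NN (hZ : E ≤ tB D ι) (h0 : D.Sz (im ι E) = ∅) (hg : g ∈ Nz E) : ι g ∈ D.NN :=
  TO.E6.mem_NN_of_empty D (im_sub hZ) h0 trivial (by
    rintro _ ⟨x, hx, rfl⟩
    have h1 := hZ (mem_Nz.1 (inv_mem hg) x hx)
    rwa [mem_comap, inv_inv, map_mul, map_mul, map_inv] at h1)

omit H in
theorem pow_mem (hg : ι g ∈ D.NN) {m : ℕ} (h : D.pr (ι g) ^ m = 1) : g ^ m ∈ tB D ι := by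
  have h1 := TO.X.Cn.rp_pow D (D.rp_pr hg) m
  rw [mem_comap, map_pow, ← D.pr_eq_one_iff ⟨_, h1⟩, Datum.Rp.pr_eq h1, h]

/-- the projection to the Weyl group -/
noncomputable def prj (P : Subgroup K) (h : ∀ g ∈ P, ι g ∈ D.NN) : P →* D.W :=
  MonoidHom.mk' (fun g => D.pr (ι g)) fun a b => by rw [coe_mul, map_mul, D.pr_mul (h a a.2) (h b b.2)]

omit H in
theorem relIndex_eq {P : Subgroup K} (h : ∀ g ∈ P, ι g ∈ D.NN) : (tB D ι).relIndex P = Nat.card (prj P h).range := by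
  rw [← index_ker]
  exact congrArg index (Subgroup.ext fun g => (D.pr_eq_one_iff (h g g.2)).symm)

omit H in
theorem relIndex_le {P : Subgroup K} (h : ∀ g ∈ P, ι g ∈ D.NN) {S : Set D.W} (h1 : ∀ g ∈ P, D.pr (ι g) ∈ S) :
    (tB D ι).relIndex P ≤ S.ncard := by
  rw [relIndex_eq h]
  exact Set.ncard_le_ncard (s := ((prj P h).range : Set D.W)) (by rintro _ ⟨g, rfl⟩; exact h1 g g.2)

theorem pr_comm (hg : ι g ∈ D.NN) (a : D.I → ℤ) : θ (D.act (D.pr (ι g)) a) = D.act (D.pr (ι g)) (θ a) := by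
  have h3 := D.Fw_eq_of_fix (D.rp_pr hg) (H.fix g)
  refine hom_ext_sr (f := θ.comp (rep D.cs D.h (D.pr (ι g))).toAddMonoidHom)
    (g := (rep D.cs D.h (D.pr (ι g))).toAddMonoidHom.comp θ) (fun i => ?_) a
  have h4 := D.g_act (D.pr (ι g)) (isRoot_sr D.cs D.h i)
  rwa [h3, H.g, H.g] at h4

theorem exists_rep {v : D.W} (h : ∀ a, θ (D.act v a) = D.act v (θ a)) : ∃ g : K, D.Rp v (ι g) := by
  obtain ⟨m, h1, h2⟩ := D.exists_rp_fix (w := v) (rep_injective D.cs D.h (LinearMap.ext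
    (hom_ext_sr (f := (rep D.cs D.h (D.Fw v)).toAddMonoidHom) (g := (rep D.cs D.h v).toAddMonoidHom) fun i => by
      obtain ⟨a, ha, e⟩ := D.g_surj (isRoot_sr D.cs D.h i)
      rw [← e]
      exact (D.g_act v ha).symm.trans (by rw [H.g, H.g, h]; rfl))))
  obtain ⟨g, rfl⟩ := (H.range m).1 h2
  exact ⟨g, h1⟩

theorem sub_mem_lam (hZ : E ≤ tB D ι) (hg : ι g ∈ D.NN) (h : g ∈ Cz E) (a : D.I → ℤ) :
    D.act (D.pr (ι g)) a - a ∈ D.Lam (im ι E) := fun z hz => by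
  rw [sub_eq_add_neg, D.χ_add, D.χ_neg, D.χ_act_of_comm (im_sub hZ) (D.rp_pr hg) (H.mem_cz.1 h) a hz,
    mul_inv_cancel₀ (D.χ_ne_zero _ _)]

end Fr

end Cfsg.Agent.N2.G2.A
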