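import Cfsg.Agent.N2.G2.Defs
import Cfsg.Agent.SB.Low.Gen
import Cfsg.Agent.SB.Low.TabA

/-!
# N2, `G₂(q)` and `³D₄(q)`, box [A]: facts on the root systems and their finite checks (helper52)
-/

set_option autoImplicit false
set_option linter.unusedSectionVars false

namespace Cfsg.Agent.N2.G2.A

open Subgroup Cfsg CoxeterSystem
open Cfsg.Agent.ChevalleyStructure.CoxeterGeom Cfsg.Agent.Tits.Roots Cfsg.Agent.Nodes.Reps Cfsg.Agent.Nodes.Coroot
  Cfsg.Agent.SB.Low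

/-- tables -/
structure Tb (V M : Type) where
  ap : M → V → V
  cp : V → V → ℤ
  RL : List V
  RP : List V
  BS : List V
  WL : List M
  TL : List M
  CL : List (List V)
  NG : List V

section Chk

variable {V M : Type} [AddCommGroup V] [DecidableEq V]

/-- membership up to sign -/
def ins (S : List V) (x : V) : Bool := S.contains x || S.contains (-x)

namespace Tb

variable (t : Tb V M)

/-- the sums of positive roots -/
def TR : List (V × V) := t.RP.flatMap fun a => (t.RP.filter fun b => t.RP.contains (a + b)).map fun b => (a, b)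

/-- closed sets -/
def cl (S : List V) : Bool := t.TR.all fun x =>
  if S.contains x.1 then S.contains x.2 == S.contains (x.1 + x.2) else true

/-- all simple roots -/
def full (S : List V) : Bool := t.BS.all S.contains

/-- stable sets -/
def stab (m : M) (S : List V) : Bool := S.all fun a => ins S (t.ap m a)

/-- the number of roots -/
def cnt (S : List V) : ℕ := (t.RL.filter (ins S)).length

/-- one reduction step -/
def rd (S : List V) (x : V) : V := S.foldl (fun y a => y - (t.cp y a).tdiv 2 • a) x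

/-- a test for membership in the span -/
def sp (S : List V) (x : V) : Bool := t.rd S (t.rd S (t.rd S x)) == 0

/-- the basic checks -/
def cBas : Bool := decide t.RL.Nodup && t.RL.all (ins t.RP) && t.RP.all t.RL.contains &&
  t.RP.sublists.all fun S => !t.cl S || t.CL.contains S

/-- classification -/
def cCls (k : ℕ) : Bool := t.CL.all fun S => t.full S || t.TL.all (fun m => !t.stab m S) ||
  ((t.cnt S == 0 || t.cnt S == 2 || (t.cnt S == 6 && (k != 1 || t.BS.all fun x => t.sp S ((3 : ℤ) • x))) ||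
    (t.cnt S == 2 * (k + 1) && t.BS.all fun x => t.sp S ((2 : ℤ) • x))) &&
  (t.cnt S == 2 * (k + 1) || t.RP.any fun a => t.RP.any fun b => !ins S a && !ins S b && t.RL.contains (a + b) &&
    !ins S (a + b)))

/-- the action on the quotient -/
def cPm : Bool := t.CL.all fun S => S.isEmpty || t.full S || (t.TL.filter (t.stab · S)).isEmpty ||
  (t.WL.filter (t.stab · S)).all fun v => (t.BS.all fun x => t.sp S (t.ap v x - x)) ||
    (t.BS.all fun x => t.sp S (t.ap v x + x)) || (t.TL.filter (t.stab · S)).all fun m => t.RL.any fun b =>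
      !ins S b && t.ap v b == -b && t.ap v (t.ap m b) == t.ap m b &&
        t.BS.all fun x => t.sp (b :: t.ap m b :: t.ap m (t.ap m b) :: S) ((2 : ℤ) • x)

/-- generators -/
def cGen : Bool := t.TL.all fun m =>
  (t.RP.any fun x => t.RP.any fun y => (t.CL.filter (t.stab m)).all fun S => !S.contains x || !S.contains y || t.full S) &&
  (t.CL.filter (t.stab m)).all fun S => S.isEmpty || t.RP.any fun y => (t.CL.filter (t.stab m)).all fun S' =>
    !S'.contains y || !S.all S'.contains || t.full S'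

/-- orders in the Weyl group -/
def cOrd (k : ℕ) : Bool := t.WL.all fun v =>
  ((t.BS.all fun x => t.ap v (t.ap v (t.ap v (t.ap v x))) == x) || t.RL.any fun x => t.RL.contains (t.ap v (t.ap v x) + x)) &&
  ((t.BS.all fun x => t.ap v (t.ap v (t.ap v (t.ap v (t.ap v (t.ap v x))))) == x) ||
    (k == 3 && t.BS.all fun x => t.ap v (t.ap v (t.ap v (t.ap v x))) == x))

/-- the element `-1` -/
def cNeg : Bool := t.NG.all t.RL.contains && t.BS.all fun x => t.NG.foldr (fun c y => y - t.cp y c • c) x == -x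

/-- rank two -/
def cG : Bool := (t.WL.all fun v => (t.BS.all fun x => t.ap v x == x) || (t.BS.all fun x => t.ap v x == -x) ||
    t.RL.any fun x => t.RL.contains (t.ap v x + x)) &&
  t.RP.any fun x => t.RP.any fun y => t.CL.all fun S => t.full S || ((!S.contains x || !S.contains y) &&
    (t.cnt S != 6 || S.contains y) &&
    (t.cnt S == 6 || !S.contains y || t.RL.any fun a => !ins S a && t.BS.any fun z => ins S (a + (3 : ℤ) • z)))

theorem rd_mem {Λ : AddSubgroup V} : ∀ {S : List V}, (∀ a ∈ S, a ∈ Λ) → ∀ x, t.rd S x ∈ Λ → x ∈ Λ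
  | [], _, _, h => h
  | a :: _, h, x, h1 => by
    have h2 := rd_mem (fun b hb => h b (List.mem_cons_of_mem a hb)) _ h1
    simpa using add_mem h2 (Λ.zsmul_mem (h a List.mem_cons_self) ((t.cp x a).tdiv 2))

theorem sp_mem {Λ : AddSubgroup V} {S : List V} (h : ∀ a ∈ S, a ∈ Λ) {x : V} (h1 : t.sp S x = true) : x ∈ Λ :=
  t.rd_mem h _ (t.rd_mem h _ (t.rd_mem h _ ((beq_iff_eq.1 h1).symm ▸ zero_mem _)))

open Classical in
/-- the positive roots in a subgroup -/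
noncomputable def sel (Λ : AddSubgroup V) : List V := t.RP.filter fun x => x ∈ Λ

variable {t} {Λ : AddSubgroup V}

theorem mem_sel {x : V} : x ∈ t.sel Λ ↔ x ∈ t.RP ∧ x ∈ Λ := by simp [sel]

theorem sel_sub : ∀ a ∈ t.sel Λ, a ∈ Λ := fun _ h => (mem_sel.1 h).2

theorem of_ins {x : V} (h : ins (t.sel Λ) x = true) : x ∈ Λ := by
  simp only [ins, Bool.or_eq_true, List.contains_iff_mem, mem_sel] at h
  exact h.elim And.right fun h => neg_mem_iff.1 h.2

variable (h : t.cBas = true)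
include h

theorem bas : t.RL.Nodup ∧ (∀ x ∈ t.RL, x ∈ t.RP ∨ -x ∈ t.RP) ∧ (∀ x ∈ t.RP, x ∈ t.RL) ∧
    ∀ S, S.Sublist t.RP → t.cl S = true → S ∈ t.CL := by
  simpa [cBas, ins, and_assoc, or_iff_not_imp_left] using h

theorem ins_sel {x : V} (hx : x ∈ t.RL) : ins (t.sel Λ) x = true ↔ x ∈ Λ :=
  ⟨of_ins, fun h1 => by
    simp only [ins, Bool.or_eq_true, List.contains_iff_mem, mem_sel]
    exact ((bas h).2.1 x hx).imp (⟨·, h1⟩) (⟨·, neg_mem h1⟩)⟩

variable (Λ) in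
theorem sel_mem : t.sel Λ ∈ t.CL := by
  refine (bas h).2.2.2 _ List.filter_sublist (List.all_eq_true.2 fun x hx => ?_)
  simp only [TR, List.mem_flatMap, List.mem_map, List.mem_filter, List.contains_iff_mem] at hx
  obtain ⟨a, -, b, ⟨hb, h1⟩, rfl⟩ := hx
  split_ifs with h2
  · rw [beq_iff_eq, Bool.eq_iff_iff, List.contains_iff_mem, List.contains_iff_mem, mem_sel, mem_sel, and_iff_right hb,
      and_iff_right h1, add_mem_cancel_left (sel_sub _ (List.contains_iff_mem.1 h2))]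
  · rfl

end Tb

end Chk

section Root

variable {I W : Type} [Fintype I] [DecidableEq I] [Group W] {M₀ : CoxeterMatrix I} (cs : CoxeterSystem M₀ W)
  {A : I → I → ℤ} (h : IsCartan M₀ A)

/-- `θ`-stable subgroups -/
def St (θ : (I → ℤ) →+ (I → ℤ)) (Λ : AddSubgroup (I → ℤ)) : Prop := ∀ x ∈ Λ, θ x ∈ Λ

/-- the facts which are checked on the tables -/
structure RB (k : ℕ) (θ : (I → ℤ) →+ (I → ℤ)) : Prop where
  cls : ∀ Λ, St θ Λ → (∃ x, x ∉ Λ) → (Ps cs h Λ).ncard = 0 ∨ (Ps cs h Λ).ncard = 2 ∨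
    ((Ps cs h Λ).ncard = 6 ∧ (k = 1 → ∀ x, (3 : ℤ) • x ∈ Λ)) ∨ ((Ps cs h Λ).ncard = 2 * (k + 1) ∧ ∀ x, (2 : ℤ) • x ∈ Λ)
  inv : ∀ Λ, St θ Λ → (∃ x, x ∉ Λ) → (∀ x y, x ∉ Λ → y ∉ Λ → x + y ∈ Λ) → (Ps cs h Λ).ncard = 2 * (k + 1)
  pm : ∀ (Λ : AddSubgroup (I → ℤ)) (v : W) (j : ℤ), (∀ x, θ x ∈ Λ ↔ x ∈ Λ) → (∀ x, rep cs h v x - j • x ∈ Λ) →
    (Ps cs h Λ).Nonempty → (∀ x, (j - 1) • x ∈ Λ) ∨ ∀ x, (j + 1) • x ∈ Λ
  two : ∃ x y, ∀ Λ, St θ Λ → x ∈ Λ → y ∈ Λ → ∀ z, z ∈ Λ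
  one : ∀ Λ, St θ Λ → (Ps cs h Λ).Nonempty → ∃ y, ∀ Λ', Λ ≤ Λ' → St θ Λ' → y ∈ Λ' → ∀ z, z ∈ Λ'
  four : ∀ v : W, v ^ 4 = 1 ∨ ∃ x, IsRoot cs h (rep cs h v (rep cs h v x) + x)
  six : ∀ v : W, v ^ 6 = 1 ∨ (k = 3 ∧ v ^ 4 = 1)
  neg : ∃ w : W, ∀ x, rep cs h w x = -x
  pm1 : k = 1 → ∀ v : W, (∀ x, rep cs h v x = x) ∨ (∀ x, rep cs h v x = -x) ∨ ∃ x, IsRoot cs h (rep cs h v x + x)
  g33 : k = 1 → ∃ x y, ∀ Λ : AddSubgroup (I → ℤ), (∃ z, z ∉ Λ) → (x ∈ Λ → y ∉ Λ) ∧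
    ((∀ z, (3 : ℤ) • z ∈ Λ) → ((Ps cs h Λ).ncard = 6 ↔ y ∈ Λ))

variable {V M : Type} [AddCommGroup V] [DecidableEq V]

/-- the bridge to the tables -/
structure Br (t : Tb V M) (θ : (I → ℤ) →+ (I → ℤ)) (e : (I → ℤ) ≃+ V) : Prop where
  root : ∀ x, IsRoot cs h x ↔ e x ∈ t.RL
  cp : ∀ x c, IsRoot cs h c → cpr cs h x c = t.cp (e x) (e c)
  bs : ∀ i, e (sr i) ∈ t.BS
  wl : ∀ w, ∃ m ∈ t.WL, ∀ x, e (rep cs h w x) = t.ap m (e x)
  tl : ∃ m ∈ t.TL, ∀ x, e (θ x) = t.ap m (e x)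
  rt : ∀ a, IsRoot cs h a → IsRoot cs h (θ a)
  bas : t.cBas = true

variable {cs h} {t : Tb V M} {θ : (I → ℤ) →+ (I → ℤ)} {e : (I → ℤ) ≃+ V} {Λ : AddSubgroup (I → ℤ)}

/-- the transported subgroup -/
def tr (e : (I → ℤ) ≃+ V) (Λ : AddSubgroup (I → ℤ)) : AddSubgroup V := Λ.comap e.symm.toAddMonoidHom

theorem mem_tr {x : I → ℤ} : e x ∈ tr e Λ ↔ x ∈ Λ := by simp [tr]

namespace Br

variable (B : Br cs h t θ e)
include B

theorem all_bs (f : (I → ℤ) →+ (I → ℤ)) (h1 : ∀ i, e (sr i) ∈ t.BS → f (sr i) ∈ Λ) (x : I → ℤ) : f x ∈ Λ :=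
  mem_of_sr (Λ := Λ.comap f) (fun i => h1 i (B.bs i)) x

theorem of_full (h1 : t.full (t.sel (tr e Λ)) = true) (x : I → ℤ) : x ∈ Λ :=
  mem_of_sr (fun i => mem_tr.1 (Tb.sel_sub _ (List.contains_iff_mem.1 (List.all_eq_true.1 h1 _ (B.bs i))))) x

theorem of_sp (f : (I → ℤ) →+ (I → ℤ)) {S : List V} (hS : ∀ a ∈ S, a ∈ tr e Λ) {g : V → V} (hg : ∀ x, e (f x) = g (e x))
    (h1 : (t.BS.all fun x => t.sp S (g x)) = true) (x : I → ℤ) : f x ∈ Λ :=
  B.all_bs f (fun _ hi => mem_tr.1 (hg _ ▸ t.sp_mem hS (List.all_eq_true.1 h1 _ hi))) x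

theorem of_eq (f f' : (I → ℤ) →+ (I → ℤ)) {g g' : V → V} (hg : ∀ x, e (f x) = g (e x)) (hg' : ∀ x, e (f' x) = g' (e x))
    (h1 : (t.BS.all fun x => g x == g' x) = true) (x : I → ℤ) : f x = f' x :=
  hom_ext_sr (fun i => e.injective (by rw [hg, hg']; exact beq_iff_eq.1 (List.all_eq_true.1 h1 _ (B.bs i)))) x

theorem stab {f : (I → ℤ) → (I → ℤ)} {m : M} (h1 : ∀ x, e (f x) = t.ap m (e x)) (h2 : ∀ a, IsRoot cs h a → IsRoot cs h (f a))
    (h3 : ∀ x ∈ Λ, f x ∈ Λ) : t.stab m (t.sel (tr e Λ)) = true := List.all_eq_true.2 fun a ha => by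
  obtain ⟨a, rfl⟩ := e.surjective a
  rw [← h1, Tb.ins_sel B.bas ((B.root _).1 (h2 a ((B.root a).2 ((Tb.bas B.bas).2.2.1 _ (Tb.mem_sel.1 ha).1)))), mem_tr]
  exact h3 a (mem_tr.1 (Tb.sel_sub _ ha))

theorem cnt (Λ : AddSubgroup (I → ℤ)) : (Ps cs h Λ).ncard = t.cnt (t.sel (tr e Λ)) := by
  rw [← Set.ncard_image_of_injective _ e.injective, Tb.cnt, ← List.toFinset_card_of_nodup ((Tb.bas B.bas).1.filter _),
    ← Set.ncard_coe_finset]
  congr 1
  ext x
  obtain ⟨x, rfl⟩ := e.surjective x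
  rw [e.injective.mem_set_image, List.coe_toFinset, Set.mem_ofPred_eq, List.mem_filter, ← B.root]
  exact and_congr_right fun hx => by rw [Tb.ins_sel B.bas ((B.root x).1 hx), mem_tr]

theorem nonempty (h1 : (Ps cs h Λ).Nonempty) : (t.sel (tr e Λ)).isEmpty = false := by
  obtain ⟨a, ha, h2⟩ := h1
  have h3 := (Tb.ins_sel B.bas ((B.root a).1 ha)).2 (mem_tr.2 h2)
  by_contra h4
  rw [List.isEmpty_iff.1 (Bool.of_not_eq_false h4)] at h3
  exact absurd h3 (by simp [ins])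

theorem exists_word [Finite W] : ∀ L : List V, (∀ c ∈ L, c ∈ t.RL) →
    ∃ w : W, ∀ x, e (rep cs h w x) = L.foldr (fun c y => y - t.cp y c • c) (e x)
  | [], _ => ⟨1, fun x => by rw [map_one]; rfl⟩
  | c :: L, h1 => by
    obtain ⟨w, hw⟩ := exists_word L fun d hd => h1 d (List.mem_cons_of_mem c hd)
    obtain ⟨c, rfl⟩ := e.surjective c
    have hc := (B.root c).2 (h1 _ List.mem_cons_self)
    obtain ⟨s, hs⟩ := Tab.exists_rf cs h hc
    exact ⟨s * w, fun x => by rw [rep_mul_apply, hs, map_sub, map_zsmul, B.cp _ _ hc, hw]; rfl⟩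

variable [Finite W] {k : ℕ}

theorem pm (c : t.cPm = true) (v : W) (j : ℤ) (h1 : ∀ x, θ x ∈ Λ ↔ x ∈ Λ) (h2 : ∀ x, rep cs h v x - j • x ∈ Λ)
    (h3 : (Ps cs h Λ).Nonempty) : (∀ x, (j - 1) • x ∈ Λ) ∨ ∀ x, (j + 1) • x ∈ Λ := by
  obtain ⟨m, hm, hθ⟩ := B.tl
  obtain ⟨u, hu, hv⟩ := B.wl v
  have h4 : m ∈ t.TL.filter (t.stab · (t.sel (tr e Λ))) := List.mem_filter.2 ⟨hm, B.stab hθ B.rt fun x => (h1 x).2⟩
  have h5 : u ∈ t.WL.filter (t.stab · (t.sel (tr e Λ))) := List.mem_filter.2 ⟨hu, B.stab hv (fun a ha => ha.act v) fun x hx => by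
    simpa using add_mem (h2 x) (Λ.zsmul_mem hx j)⟩
  have h6 := List.all_eq_true.1 c _ (Tb.sel_mem (tr e Λ) B.bas)
  simp only [Bool.or_eq_true, B.nonempty h3, Bool.false_eq_true, false_or] at h6
  rcases h6 with (h6 | h6) | h6
  · exact Or.inl fun x => B.of_full h6 _
  · rw [List.isEmpty_iff.1 h6] at h4
    exact absurd h4 List.not_mem_nil
  have h7 := List.all_eq_true.1 h6 _ h5
  simp only [Bool.or_eq_true] at h7
  rcases h7 with (h7 | h7) | h7
  · refine Or.inl fun x => ?_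
    have h8 := sub_mem (B.of_sp ((rep cs h v).toAddMonoidHom - AddMonoidHom.id _) Tb.sel_sub
      (fun x => by rw [← hv, ← map_sub]; rfl) h7 x) (h2 x)
    convert h8 using 1
    show _ = rep cs h v x - x - _
    module
  · refine Or.inr fun x => ?_
    have h8 := sub_mem (B.of_sp ((rep cs h v).toAddMonoidHom + AddMonoidHom.id _) Tb.sel_sub
      (fun x => by rw [← hv, ← map_add]; rfl) h7 x) (h2 x)
    convert h8 using 1
    show _ = rep cs h v x + x - _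
    module
  obtain ⟨b, hb, h8⟩ := List.any_eq_true.1 (List.all_eq_true.1 h7 _ h4)
  obtain ⟨b, rfl⟩ := e.surjective b
  simp only [Bool.and_eq_true, Bool.not_eq_true', beq_iff_eq, ← hθ, ← hv, ← map_neg, e.injective.eq_iff,
    ← Bool.not_eq_true, Tb.ins_sel B.bas hb, mem_tr] at h8
  obtain ⟨⟨⟨a1, a2⟩, a3⟩, a4⟩ := h8
  have a5 : (j + 1) • b ∈ Λ := by
    convert neg_mem (h2 b) using 1
    rw [a2]
    module
  have a6 : (j - 1) • b ∈ Λ := (h1 _).1 (by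
    convert neg_mem (h2 (θ b)) using 1
    rw [a3, map_zsmul]
    module)
  have a7 : (2 : ℤ) • b ∈ Λ := by
    convert sub_mem a5 a6 using 1
    module
  let d : (I → ℤ) →+ (I → ℤ) := (2 : ℤ) • AddMonoidHom.id _
  have a8 : ∀ x, (4 : ℤ) • x ∈ Λ := fun x => by
    have a9 := B.of_sp (Λ := Λ.comap d) d (fun a ha => ?_) (g := fun x => (2 : ℤ) • x) (fun x => map_zsmul e 2 x) a4 x
    · convert (show (2 : ℤ) • (2 : ℤ) • x ∈ Λ from a9) using 1
      module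
    simp only [List.mem_cons] at ha
    rcases ha with rfl | rfl | rfl | ha
    · exact mem_tr.2 a7
    · exact mem_tr.2 (show (2 : ℤ) • θ b ∈ Λ from map_zsmul θ 2 b ▸ (h1 _).2 a7)
    · exact mem_tr.2 (show (2 : ℤ) • θ (θ b) ∈ Λ from map_zsmul θ 2 _ ▸ map_zsmul θ 2 b ▸ (h1 _).2 ((h1 _).2 a7))
    · obtain ⟨a, rfl⟩ := e.surjective a
      exact mem_tr.2 (Λ.zsmul_mem (mem_tr.1 (Tb.sel_sub _ ha)) 2)
  obtain ⟨i, rfl | rfl | rfl | rfl⟩ : ∃ i, j = 4 * i ∨ j = 4 * i + 1 ∨ j = 4 * i + 2 ∨ j = 4 * i + 3 := ⟨j / 4, by omega⟩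
  · refine absurd ?_ a1
    convert sub_mem a5 (Λ.zsmul_mem a7 (2 * i)) using 1
    module
  · exact Or.inl fun x => by
      convert a8 (i • x) using 1
      module
  · refine absurd ?_ a1
    convert sub_mem a6 (Λ.zsmul_mem a7 (2 * i)) using 1
    module
  · exact Or.inr fun x => by
      convert a8 ((i + 1) • x) using 1
      module

theorem pow_eq (v : W) (n : ℕ) {g : V → V} (hg : ∀ x, e (rep cs h (v ^ n) x) = g (e x))
    (h1 : (t.BS.all fun x => g x == x) = true) : v ^ n = 1 :=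
  eq_one_of_fix cs h _ fun _ => B.of_eq (rep cs h (v ^ n)).toAddMonoidHom (AddMonoidHom.id _) hg (fun _ => rfl) h1 _

theorem rb (c1 : t.cCls k = true) (c2 : t.cPm = true) (c3 : t.cGen = true) (c4 : t.cOrd k = true) (c5 : t.cNeg = true)
    (c6 : k = 1 → t.cG = true) : RB cs h k θ := by
  obtain ⟨m, hm, hθ⟩ := B.tl
  have k1 : ∀ Λ, St θ Λ → t.sel (tr e Λ) ∈ t.CL.filter (t.stab m) := fun Λ h1 =>
    List.mem_filter.2 ⟨Tb.sel_mem _ B.bas, B.stab hθ B.rt h1⟩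
  have k2 := fun Λ (h1 : St θ Λ) (h2 : ∃ x, x ∉ Λ) => Bool.and_eq_true_iff.1 <|
    (Bool.or_eq_true_iff.1 (List.all_eq_true.1 c1 _ (Tb.sel_mem (tr e Λ) B.bas))).resolve_left fun h3 =>
      (Bool.or_eq_true_iff.1 h3).elim (fun h4 => h2.elim fun x hx => hx (B.of_full h4 x)) fun h4 => by
        simpa [B.stab hθ B.rt h1] using List.all_eq_true.1 h4 m hm
  have k3 := Bool.and_eq_true_iff.1 (List.all_eq_true.1 c3 m hm)
  have k4 : ∀ {x} {Λ}, e x ∈ t.RP → ((t.sel (tr e Λ)).contains (e x) = true ↔ x ∈ Λ) := fun hx => by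
    rw [List.contains_iff_mem, Tb.mem_sel, and_iff_right hx, mem_tr]
  refine ⟨fun Λ h1 h2 => ?_, fun Λ h1 h2 h3 => ?_, fun Λ => B.pm c2, ?_, fun Λ h1 h2 => ?_, fun v => ?_, fun v => ?_, ?_,
    fun hk v => ?_, fun hk => ?_⟩
  · have h3 := (k2 Λ h1 h2).1
    simp only [Bool.or_eq_true, Bool.and_eq_true, beq_iff_eq, bne_iff_ne, ← B.cnt, or_assoc] at h3
    exact h3.imp_right (Or.imp_right (Or.imp (And.imp_right fun h4 hk => B.of_sp ((3 : ℤ) • AddMonoidHom.id _) Tb.sel_sub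
      (fun x => map_zsmul e 3 x) (h4.resolve_left fun h5 => h5 hk))
      (And.imp_right (B.of_sp ((2 : ℤ) • AddMonoidHom.id _) Tb.sel_sub fun x => map_zsmul e 2 x))))
  · have h4 := (k2 Λ h1 h2).2
    simp only [Bool.or_eq_true, Bool.and_eq_true, beq_iff_eq, ← B.cnt, List.any_eq_true, Bool.not_eq_true',
      ← Bool.not_eq_true, List.contains_iff_mem] at h4
    refine h4.resolve_right ?_
    rintro ⟨a, ha, b, hb, ⟨⟨h5, h6⟩, h7⟩, h8⟩
    obtain ⟨a, rfl⟩ := e.surjective a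
    obtain ⟨b, rfl⟩ := e.surjective b
    rw [Tb.ins_sel B.bas ((Tb.bas B.bas).2.2.1 _ ha), mem_tr] at h5
    rw [Tb.ins_sel B.bas ((Tb.bas B.bas).2.2.1 _ hb), mem_tr] at h6
    rw [Tb.ins_sel B.bas h7, ← map_add, mem_tr] at h8
    exact h8 (h3 a b h5 h6)
  · obtain ⟨x, hx, h1⟩ := List.any_eq_true.1 k3.1
    obtain ⟨y, hy, h2⟩ := List.any_eq_true.1 h1
    obtain ⟨x, rfl⟩ := e.surjective x
    obtain ⟨y, rfl⟩ := e.surjective y
    refine ⟨x, y, fun Λ h3 h4 h5 => B.of_full ?_⟩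
    simpa only [(k4 hx).2 h4, (k4 hy).2 h5, Bool.not_true, Bool.false_or] using List.all_eq_true.1 h2 _ (k1 Λ h3)
  · have h3 := List.all_eq_true.1 k3.2 _ (k1 Λ h1)
    rw [B.nonempty h2, Bool.false_or] at h3
    obtain ⟨y, hy, h4⟩ := List.any_eq_true.1 h3
    obtain ⟨y, rfl⟩ := e.surjective y
    refine ⟨y, fun Λ' h5 h6 h7 => B.of_full ?_⟩
    have h8 : (t.sel (tr e Λ)).all (t.sel (tr e Λ')).contains = true := List.all_eq_true.2 fun a ha =>
      List.contains_iff_mem.2 (Tb.mem_sel.2 ⟨(Tb.mem_sel.1 ha).1, h5 (Tb.mem_sel.1 ha).2⟩)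
    simpa only [(k4 hy).2 h7, h8, Bool.not_true, Bool.false_or] using List.all_eq_true.1 h4 _ (k1 Λ' h6)
  · obtain ⟨u, hu, hv⟩ := B.wl v
    refine (Bool.or_eq_true_iff.1 (Bool.and_eq_true_iff.1 (List.all_eq_true.1 c4 u hu)).1).imp
      (B.pow_eq v 4 fun x => by simp only [pow_succ', pow_zero, mul_one, rep_mul_apply, hv]) fun h1 => ?_
    obtain ⟨x, -, h2⟩ := List.any_eq_true.1 h1
    obtain ⟨x, rfl⟩ := e.surjective x
    exact ⟨x, (B.root _).2 (by rw [map_add, hv, hv]; exact List.contains_iff_mem.1 h2)⟩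
  · obtain ⟨u, hu, hv⟩ := B.wl v
    exact (Bool.or_eq_true_iff.1 (Bool.and_eq_true_iff.1 (List.all_eq_true.1 c4 u hu)).2).imp
      (B.pow_eq v 6 fun x => by simp only [pow_succ', pow_zero, mul_one, rep_mul_apply, hv]) fun h1 =>
      (Bool.and_eq_true_iff.1 h1).imp beq_iff_eq.1
        (B.pow_eq v 4 fun x => by simp only [pow_succ', pow_zero, mul_one, rep_mul_apply, hv])
  · obtain ⟨h1, h2⟩ := Bool.and_eq_true_iff.1 c5
    obtain ⟨w, hw⟩ := B.exists_word t.NG fun c hc => List.contains_iff_mem.1 (List.all_eq_true.1 h1 c hc)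
    exact ⟨w, B.of_eq (rep cs h w).toAddMonoidHom (-AddMonoidHom.id _)
      (g := fun y => t.NG.foldr (fun c y => y - t.cp y c • c) y) hw (fun x => map_neg e x) h2⟩
  · obtain ⟨u, hu, hv⟩ := B.wl v
    have h1 := List.all_eq_true.1 (Bool.and_eq_true_iff.1 (c6 hk)).1 u hu
    simp only [Bool.or_eq_true, or_assoc] at h1
    refine h1.imp (B.of_eq (rep cs h v).toAddMonoidHom (AddMonoidHom.id _) hv fun _ => rfl)
      (Or.imp (B.of_eq (rep cs h v).toAddMonoidHom (-AddMonoidHom.id _) hv fun x => map_neg e x) fun h2 => ?_)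
    obtain ⟨x, -, h3⟩ := List.any_eq_true.1 h2
    obtain ⟨x, rfl⟩ := e.surjective x
    exact ⟨x, (B.root _).2 (by rw [map_add, hv]; exact List.contains_iff_mem.1 h3)⟩
  · obtain ⟨x, hx, h1⟩ := List.any_eq_true.1 (Bool.and_eq_true_iff.1 (c6 hk)).2
    obtain ⟨y, hy, h2⟩ := List.any_eq_true.1 h1
    obtain ⟨x, rfl⟩ := e.surjective x
    obtain ⟨y, rfl⟩ := e.surjective y
    refine ⟨x, y, fun Λ ⟨z, hz⟩ => ?_⟩
    have h3 := (Bool.or_eq_true_iff.1 (List.all_eq_true.1 h2 _ (Tb.sel_mem (tr e Λ) B.bas))).resolve_left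
      fun h4 => hz (B.of_full h4 z)
    simp only [Bool.or_eq_true, Bool.and_eq_true, beq_iff_eq, bne_iff_ne, ← B.cnt, Bool.not_eq_true', ← Bool.not_eq_true,
      k4 hx, k4 hy, List.any_eq_true] at h3
    obtain ⟨⟨h4, h5⟩, h6⟩ := h3
    refine ⟨fun a b => h4.elim (· a) (· b), fun h7 => ⟨fun a => h5.resolve_left (· a), fun a => ?_⟩⟩
    refine (h6.resolve_right ?_).resolve_right (· a)
    rintro ⟨b, hb, h8, c, -, h9⟩
    obtain ⟨b, rfl⟩ := e.surjective b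
    obtain ⟨c, rfl⟩ := e.surjective c
    have h10 := Tb.of_ins h9
    rw [← map_zsmul, ← map_add, mem_tr, add_mem_cancel_right (h7 c)] at h10
    exact h8 ((Tb.ins_sel B.bas hb).2 (mem_tr.2 h10))

end Br

end Root

end Cfsg.Agent.N2.G2.A
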