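import Cfsg.Agent.N2.G2.ATab
import Cfsg.Agent.SB.Low.TabG
import Cfsg.Agent.SB.Low.TabD

/-!
# N2, `G₂(q)` and `³D₄(q)`, box [A]: the tables (helper52)
-/

set_option autoImplicit false
set_option maxRecDepth 100000

namespace Cfsg.Agent.N2.G2.A

open Cfsg.Agent.SB.Low

/-- the table of `G₂` -/
def tG : Tb Tab.G.T2 Tab.G.M2 where
  ap := Tab.G.ap
  cp x c := 2 * Tab.G.bf x c / Tab.G.bf c c
  RL := Tab.G.RL
  RP := [(0, 1), (1, 0), (1, 1), (2, 1), (3, 1), (3, 2)]
  BS := [(1, 0), (0, 1)]
  WL := Tab.G.WL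
  TL := Tab.G.WL
  CL := [[], [(0, 1)], [(1, 0)], [(1, 1)], [(2, 1)], [(0, 1), (2, 1)], [(3, 1)], [(1, 1), (3, 1)], [(3, 2)], [(1, 0), (3, 2)],
    [(0, 1), (3, 1), (3, 2)], [(0, 1), (1, 0), (1, 1), (2, 1), (3, 1), (3, 2)]]
  NG := [(1, 0), (3, 2)]

open Tab.D in
/-- the table of `D₄` with the triality -/
def tD : Tb T4 M4 where
  ap := ap
  cp := ip
  RL := RL
  RP := [r12, r13, r14, r15, r16, r17, r18, r19, r20, r21, r22, r23]
  BS := [r18, r14, r13, r12]
  WL := WL
  TL := WL.map tm
  CL := [[], [r12], [r13], [r12, r13], [r14], [r15], [r12, r14, r15], [r16], [r13, r14, r16], [r15, r16], [r17], [r14, r17],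
    [r13, r15, r17], [r12, r16, r17], [r12, r13, r14, r15, r16, r17], [r18], [r12, r18], [r13, r18], [r12, r13, r18],
    [r19], [r15, r19], [r16, r19], [r15, r16, r19], [r14, r18, r19], [r20], [r14, r20], [r17, r20], [r14, r17, r20], [r15,
    r18, r20], [r12, r19, r20], [r12, r14, r15, r18, r19, r20], [r21], [r14, r21], [r17, r21], [r14, r17, r21], [r16, r18,
    r21], [r13, r19, r21], [r13, r14, r16, r18, r19, r21], [r20, r21], [r14, r20, r21], [r17, r20, r21], [r14, r17, r20,
    r21], [r22], [r15, r22], [r16, r22], [r15, r16, r22], [r17, r18, r22], [r19, r22], [r15, r19, r22], [r16, r19, r22],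
    [r15, r16, r19, r22], [r13, r20, r22], [r13, r15, r17, r18, r20, r22], [r12, r21, r22], [r12, r16, r17, r18, r21,
    r22], [r12, r13, r19, r20, r21, r22], [r23], [r12, r23], [r13, r23], [r12, r13, r23], [r18, r23], [r12, r18, r23],
    [r13, r18, r23], [r12, r13, r18, r23], [r17, r19, r23], [r16, r20, r23], [r12, r16, r17, r19, r20, r23], [r15, r21,
    r23], [r13, r15, r17, r19, r21, r23], [r15, r16, r18, r20, r21, r23], [r14, r22, r23], [r14, r17, r18, r19, r22, r23],
    [r13, r14, r16, r20, r22, r23], [r12, r14, r15, r21, r22, r23], [r12, r13, r14, r15, r16, r17, r18, r19, r20, r21,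
    r22, r23]]
  NG := [r12, r13, r18, r23]

theorem gBas : tG.cBas = true := by decide +kernel
theorem gCls : tG.cCls 1 = true := by decide +kernel
theorem gPm : tG.cPm = true := by decide +kernel
theorem gGen : tG.cGen = true := by decide +kernel
theorem gOrd : tG.cOrd 1 = true := by decide +kernel
theorem gNeg : tG.cNeg = true := by decide +kernel
theorem gG : tG.cG = true := by decide +kernel

theorem dBas : tD.cBas = true := by decide +kernel
theorem dCls : tD.cCls 3 = true := by decide +kernel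
theorem dPm : tD.cPm = true := by decide +kernel
theorem dGen : tD.cGen = true := by decide +kernel
theorem dOrd : tD.cOrd 3 = true := by decide +kernel
theorem dNeg : tD.cNeg = true := by decide +kernel

end Cfsg.Agent.N2.G2.A
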