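import Cfsg.Agent.N2.Ex.Cb.Ref
import Cfsg.Agent.SB.Low.Model
import Cfsg.Agent.SB.Low.TabA
import Cfsg.Agent.KM.Tor.Gen

/-!
# N2, `G₂(q)` and `³D₄(q)`, box B: the order of a connected centraliser from the mass formula (helper10)

* `mass` : `|W| |G^F|_p ^ 2 = |G^F| ∑ 1 / |T_w|`;
* `Ord`, `ord_of`, `card_cen`;
* `Cyc`, `exists_gen` : the cyclic centre.
-/

set_option autoImplicit false
set_option linter.unusedSectionVars false

namespace Cfsg.Agent.N2.G2.B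

open Subgroup Cfsg CoxeterSystem
open Cfsg.Agent.ChevalleyStructure.CoxeterGeom Cfsg.Agent.Tits.Roots Cfsg.Agent.Nodes.Reps Cfsg.Agent.Nodes.Coroot
  Cfsg.Agent.DL Cfsg.Agent.DL.Asm Cfsg.Agent.DL.Uni Cfsg.Agent.SB.Low Cfsg.Agent.SB.Exc

theorem sum_fib {X Z : Type} [Fintype X] [Fintype Z] (f : X → Z) (c : Z → ℕ) (h : ∀ z, Nat.card {x // f x = z} = c z)
    (u : Z → ℚ) : ∑ x, u (f x) = ∑ z, c z * u z := by
  classical
  rw [← Fintype.sum_fiberwise f]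
  refine Finset.sum_congr rfl fun z _ => ?_
  rw [Finset.sum_congr rfl fun (x : {x // f x = z}) _ => congrArg u x.2, Finset.sum_const, Finset.card_univ, nsmul_eq_mul,
    ← h, Nat.card_eq_fintype_card]

theorem card_of {p n j i B : ℕ} (hp : p.Prime) (hB : ¬ p ∣ B) (h0 : n ≠ 0)
    (h : (p ^ n.factorization p) ^ 2 * B = n * p ^ j) (hi : i = j) : n = p ^ i * B := by
  have h1 := Nat.ordProj_mul_ordCompl_eq_self n p
  have h2 := Nat.not_dvd_ordCompl hp h0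
  generalize n / p ^ n.factorization p = r at h1 h2
  generalize n.factorization p = a at h h1
  subst h1 hi
  have h3 : p ^ a * B = p ^ i * r := Nat.eq_of_mul_eq_mul_left (pow_pos hp.pos a) (by linarith)
  have h4 := (Nat.Coprime.pow_left a ((Nat.Prime.coprime_iff_not_dvd hp).2 h2)).dvd_of_dvd_mul_right ⟨B, h3.symm⟩
  have h5 := (Nat.Coprime.pow_left i ((Nat.Prime.coprime_iff_not_dvd hp).2 hB)).dvd_of_dvd_mul_right ⟨r, h3⟩
  rw [Nat.dvd_antisymm h4 h5] at h3 ⊢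
  rw [h3]

section Lat

variable {I W : Type} [Fintype I] [DecidableEq I] [Group W] {M : CoxeterMatrix I} (cs : CoxeterSystem M W)
  {A : I → I → ℤ} (h : IsCartan M A)

/-- the inverse of the order of the torus of type `u` -/
noncomputable def iv (q : ℕ) (u : (I → ℤ) →+ (I → ℤ)) : ℚ :=
  |((LinearMap.det u.toIntLinearMap : ℤ) : ℚ)| / |((LinearMap.det ((q : ℤ) • 1 - u.toIntLinearMap) : ℤ) : ℚ)|

/-- the order formula -/
def Ord (q : ℕ) (θ : (I → ℤ) →+ (I → ℤ)) (Λ : AddSubgroup (I → ℤ)) (j B : ℕ) : Prop :=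
  ∀ S : Finset W, (∀ w, w ∈ S ↔ w ∈ closure (Rfl cs h Λ)) → (∑ w ∈ S, iv q (tw cs h w θ)) * B = S.card * (q : ℚ) ^ j

/-- the cyclic centre -/
def Cyc (q : ℕ) (θ : (I → ℤ) →+ (I → ℤ)) (Λ : AddSubgroup (I → ℤ)) (m : ℕ) : Prop :=
  ∃ (l : (I → ℤ) →+ ℤ) (x : I → ℤ), l x = 1 ∧ (∀ a ∈ Ps cs h Λ, l a = 0) ∧ (∀ y, (m : ℤ) ∣ l (θ y) - q * l y) ∧
    (∀ y, y - l y • x ∈ Λ) ∧ (m : ℤ) • x ∈ Λ

variable {cs h} {q : ℕ} {θ : (I → ℤ) →+ (I → ℤ)} {Λ : AddSubgroup (I → ℤ)}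

theorem ord_of [Finite W] {T R : Type} (mt : W → T) (inj : Function.Injective mt) (vt : (I → ℤ) → R) (rm : R → T → T)
    (hm : ∀ c, IsRoot cs h c → ∀ s, (∀ b, rep cs h s b = b - cpr cs h b c • c) → ∀ v, mt (s * v) = rm (vt c) (mt v))
    (L : List T) (nd : L.Nodup) (h1 : mt 1 ∈ L) (h2 : ∀ c ∈ Ps cs h Λ, ∀ x ∈ L, rm (vt c) x ∈ L)
    (h3 : ∀ G : Set T, mt 1 ∈ G → (∀ c ∈ Ps cs h Λ, ∀ x ∈ G, rm (vt c) x ∈ G) → ∀ x ∈ L, x ∈ G)
    (f : T → ℚ) (hf : ∀ w, iv q (tw cs h w θ) = f (mt w)) {j B : ℕ} (e : (L.map f).sum * B = L.length * (q : ℚ) ^ j) :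
    Ord cs h q θ Λ j B := by
  classical
  intro S hS
  have h4 : S.map ⟨mt, inj⟩ = L.toFinset := by
    ext x
    rw [Finset.mem_map, List.mem_toFinset]
    constructor
    · rintro ⟨w, hw, rfl⟩
      rw [hS, ← mem_toSubmonoid, closure_toSubmonoid_of_finite] at hw
      induction hw using Submonoid.closure_induction_left with
      | one => exact h1
      | mul_left s hs v _ ih =>
        obtain ⟨c, hc, h5⟩ := hs
        show mt (s * v) ∈ L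
        rw [hm c hc.1 s h5 v]
        exact h2 c hc _ ih
    · refine h3 {x | ∃ w ∈ S, mt w = x} ⟨1, (hS _).2 (one_mem _), rfl⟩ ?_ x
      rintro c hc _ ⟨w, hw, rfl⟩
      obtain ⟨s, hs⟩ := Tab.exists_rf cs h hc.1
      exact ⟨s * w, (hS _).2 (mul_mem (subset_closure ⟨c, hc, hs⟩) ((hS _).1 hw)), hm c hc.1 s hs w⟩
  have h5 : ∑ w ∈ S, iv q (tw cs h w θ) = (L.map f).sum := by
    rw [← List.sum_toFinset f nd, ← h4, Finset.sum_map]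
    exact Finset.sum_congr rfl fun w _ => hf w
  rw [h5, ← Finset.card_map ⟨mt, inj⟩, h4, List.toFinset_card_of_nodup nd, e]

theorem stab (hΛ : ∀ y, θ y - (q : ℤ) • y ∈ Λ) {x : I → ℤ} (hx : x ∈ Λ) : θ x ∈ Λ := by
  simpa using add_mem (hΛ x) (zsmul_mem hx (q : ℤ))

theorem two (hr : ∀ a ∈ Ps cs h Λ, θ a ∈ Ps cs h Λ) (hpos : ∀ a ∈ Ps cs h Λ, 0 ≤ a → 0 ≤ θ a) (h2 : (Ps cs h Λ).ncard = 2) :
    ∃ a ∈ Ps cs h Λ, 0 ≤ a ∧ θ a = a ∧ ∀ c ∈ Ps cs h Λ, c = a ∨ c = -a := by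
  obtain ⟨a, ha⟩ := Set.nonempty_of_ncard_ne_zero (h2 ▸ two_ne_zero : (Ps cs h Λ).ncard ≠ 0)
  wlog a0 : 0 ≤ a generalizing a
  · exact this (-a) ⟨ha.1.neg, neg_mem ha.2⟩ (ha.1.not_nonneg_iff_neg.1 a0)
  have h3 : {a, -a} = Ps cs h Λ := Set.eq_of_subset_of_ncard_le (by
    rintro _ (rfl | rfl)
    exacts [ha, ⟨ha.1.neg, neg_mem ha.2⟩]) (by
    rw [h2, Set.ncard_pair fun e : a = -a => ha.1.not_pos_neg a0 (neg_nonneg.1 (a0.trans e.le))])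
    (Set.finite_of_ncard_ne_zero (h2 ▸ two_ne_zero))
  have h4 : ∀ c ∈ Ps cs h Λ, c = a ∨ c = -a := fun c hc => (h3.symm ▸ hc : c ∈ ({a, -a} : Set _))
  exact ⟨a, ha, a0, (h4 _ (hr a ha)).resolve_right fun e => ha.1.not_pos_neg a0 (neg_nonneg.1 (e ▸ hpos a ha a0)), h4⟩

theorem mem_of_ncard {α β : Type} {S : Set α} {f : α → β} (hf : Function.Injective f) {L : List β} (nd : L.Nodup)
    (h1 : ∀ x ∈ L, x ∈ f '' S) (h2 : S.ncard = L.length) (h0 : L ≠ []) : ∀ y ∈ S, f y ∈ L := by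
  classical
  have h3 : (L.toFinset : Set β) = f '' S := Set.eq_of_subset_of_ncard_le (fun x hx => h1 x (by simpa using hx)) (by
    rw [Set.ncard_image_of_injective _ hf, h2, Set.ncard_coe_finset, List.toFinset_card_of_nodup nd])
    ((Set.finite_of_ncard_ne_zero (h2 ▸ (List.length_pos_iff.2 h0).ne')).image f)
  intro y hy
  simpa using (h3.symm ▸ ⟨y, hy, rfl⟩ : f y ∈ (L.toFinset : Set β))

theorem zero_of (hr : ∀ a ∈ Ps cs h Λ, θ a ∈ Ps cs h Λ) {l : (I → ℤ) →+ ℤ} (hl : ∀ a ∈ Ps cs h Λ, l a = 0) {y : I → ℤ}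
    (hy : y ∈ AddSubgroup.closure (Ps cs h Λ)) : l (θ y) = 0 :=
  (AddSubgroup.closure_le (l.comp θ).ker).2 (fun a ha => hl _ (hr a ha)) hy

theorem cyc1 (hΛ : ∀ y, θ y - (q : ℤ) • y ∈ Λ) (hr : ∀ a ∈ Ps cs h Λ, θ a ∈ Ps cs h Λ) (l : (I → ℤ) →+ ℤ) (x : I → ℤ) {ε : ℤ}
    (h1 : l x = 1) (h2 : l (θ x) = ε) (h3 : ∀ a ∈ Ps cs h Λ, l a = 0)
    (h4 : ∀ y, y - l y • x ∈ AddSubgroup.closure (Ps cs h Λ)) {m : ℕ} (hm : (m : ℤ) = q - ε) : Cyc cs h q θ Λ m := by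
  have h5 : ∀ y, y - l y • x ∈ Λ := fun y => (AddSubgroup.closure_le Λ).2 (fun _ ha => ha.2) (h4 y)
  refine ⟨l, x, h1, h3, fun y => ⟨-l y, ?_⟩, h5, ?_⟩
  · have h6 := zero_of hr h3 (h4 y)
    rw [map_sub, map_zsmul, map_sub, map_zsmul, h2, smul_eq_mul] at h6
    rw [hm]
    linear_combination h6
  · have h6 := sub_mem (h5 (θ x)) (hΛ x)
    rw [h2] at h6
    convert h6 using 1
    rw [hm]
    module

theorem cyc2 (hΛ : ∀ y, θ y - (q : ℤ) • y ∈ Λ) (hr : ∀ a ∈ Ps cs h Λ, θ a ∈ Ps cs h Λ) (u v : (I → ℤ) →+ ℤ) (x : I → ℤ) {η : ℤ}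
    (u0 : u x = 1) (v0 : v x = 0) (u1 : u (θ x) = 0) (v1 : v (θ x) = 1) (u2 : u (θ (θ x)) = -1) (v2 : v (θ (θ x)) = -η)
    (hu : ∀ a ∈ Ps cs h Λ, u a = 0) (hv : ∀ a ∈ Ps cs h Λ, v a = 0)
    (h4 : ∀ y, y - u y • x - v y • θ x ∈ AddSubgroup.closure (Ps cs h Λ)) {m : ℕ} (hm : (m : ℤ) = q ^ 2 + η * q + 1) :
    Cyc cs h q θ Λ m := by
  have h5 : ∀ y, y - u y • x - v y • θ x ∈ Λ := fun y => (AddSubgroup.closure_le Λ).2 (fun _ ha => ha.2) (h4 y)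
  have h6 : ∀ y, (u + (q : ℤ) • v) y = u y + q * v y := fun _ => rfl
  refine ⟨u + (q : ℤ) • v, x, by rw [h6, u0, v0, mul_zero, add_zero], fun a ha => by rw [h6, hu a ha, hv a ha, mul_zero, add_zero],
    fun y => ⟨-v y, ?_⟩, fun y => ?_, ?_⟩
  · have h7 := zero_of hr hu (h4 y)
    have h8 := zero_of hr hv (h4 y)
    simp only [map_sub, map_zsmul, u1, u2, v1, v2, smul_eq_mul] at h7 h8
    rw [hm, h6, h6]
    linear_combination h7 + q * h8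
  · convert add_mem (h5 y) (zsmul_mem (hΛ x) (v y)) using 1
    rw [h6]
    module
  · have h7 := sub_mem (sub_mem (h5 (θ (θ x))) (hΛ (θ x))) (zsmul_mem (hΛ x) (q + η))
    rw [u2, v2] at h7
    convert h7 using 1
    rw [hm]
    module

end Lat

theorem div_mul_of {d P B Q : ℚ} (hd : d = 1 ∨ d = -1) (hP : 0 < P) (hB : B = P * Q) : |d| / |P| * B = Q := by
  rw [hB, abs_of_pos hP, show |d| = 1 by rcases hd with rfl | rfl <;> norm_num, one_div, inv_mul_cancel_left₀ hP.ne']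

variable {p : ℕ} [Fact p.Prime] {k : Type} [Field k] [CharP k p] [IsAlgClosed k] {Y : Type} [Group Y] {N : Type}
  [Fintype N] [DecidableEq N] {ρ : Y →* GL N k} {F : MulAut Y}

/-- **The mass formula.** -/
theorem mass {G : Subgroup Y} (D : Datum p ρ F G) [Fintype D.W] :
    (Fintype.card D.W : ℚ) * (pc p (GF F G) : ℚ) ^ 2 =
      Nat.card (GF F G) * ∑ w : D.W, (((D.Wm w * D.Mx - 1).det.natAbs : ℕ) : ℚ)⁻¹ := by
  have S := sys_of Mk.mackey subBox D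
  obtain ⟨s, hSt⟩ := St.stD D
  have h0 := hSt.card_tori S
  have := St.finite_Zf D
  have := Fintype.ofFinite (St.Zf D)
  have : Fintype (tori D) := (St.finite_tori D).fintype
  have hG := D.amb.finite_GF G
  have h1 := sum_fib (St.Zf.tor D) _ (St.card_fiber_tor D) fun T => (Nat.card ↥(T.1 ⊓ GF F G) : ℚ)⁻¹
  have h2 := sum_fib (fun y : St.Zf D => D.pr (y.1⁻¹ * F y.1)) (fun _ => Nat.card (GF F G)) (fun w => by
    obtain ⟨x, hx, e⟩ := D.lang_G (D.NN_le_G (St.rp_mem D w))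
    refine Eq.trans (Nat.card_congr ?_) (St.card_lang F.toMonoidHom hx e)
    refine ⟨fun y => ⟨y.1.1, y.1.2.1, ?_⟩, fun y => ⟨⟨y.1, y.2.1, w, y.2.2.symm⟩, ?_⟩, fun _ => rfl, fun _ => rfl⟩
    · obtain ⟨⟨y, h1, v, h2⟩, h3⟩ := y
      dsimp only at h3 ⊢
      rw [h2, St.pr_rp] at h3
      rw [← h3]
      exact h2.symm
    · have h : St.rp D w = y.1⁻¹ * F y.1 := y.2.2
      show D.pr (y.1⁻¹ * F y.1) = w
      rw [← h, St.pr_rp]) fun w => (((D.Wm w * D.Mx - 1).det.natAbs : ℕ) : ℚ)⁻¹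
  have h3 : ∀ T : tori D, ((Nat.card D.W * Nat.card ↥(T.1 ⊓ GF F G) : ℕ) : ℚ) * (Nat.card ↥(T.1 ⊓ GF F G) : ℚ)⁻¹ =
      Fintype.card D.W := fun T => by
    have : Finite ↥(T.1 ⊓ GF F G) := Finite.of_injective _ (Subgroup.inclusion_injective inf_le_right)
    rw [Nat.cast_mul, mul_inv_cancel_right₀ (Nat.cast_ne_zero.2 Nat.card_pos.ne'), Nat.card_eq_fintype_card]
  have h4 : Fintype.card (tori D) = S.tori.card := by
    rw [← Fintype.card_coe]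
    exact Fintype.card_congr (Equiv.subtypeEquivRight fun T => S.mem_tori.symm)
  rw [Finset.sum_congr rfl fun T _ => h3 T, Finset.sum_const, Finset.card_univ, h4, h0, nsmul_eq_mul] at h1
  rw [Finset.mul_sum, ← h2, mul_comm, ← Nat.cast_pow, ← h1]
  exact Finset.sum_congr rfl fun y _ => congrArg (fun n : ℕ => (n : ℚ)⁻¹)
    (D.card_cj_TF y.2.1 (D.rp_pr (St.Zf.mem D y)))

theorem sz_conj {G : Subgroup Y} (D : Datum p ρ F G) {y t : Y} (hy : y ∈ G) (hN : y⁻¹ * F y ∈ D.NN)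
    (h : t ∈ (D.conj hy hN).T) : (D.conj hy hN).Sz {t} = D.Sz {y⁻¹ * t * y} := by
  have h1 := fun a => D.conj_χ hy hN a (Nodes.Reps.mem_cj.1 h)
  rw [show y * (y⁻¹ * t * y) * y⁻¹ = t by group] at h1
  exact Set.ext fun a => and_congr_right fun _ => by simp only [Set.mem_singleton_iff, forall_eq, h1]

/-- rational elements of centralisers lie in the connected centraliser -/
def Cn (D : Datum p ρ F ⊤) : Prop := ∀ t ∈ D.T, F t = t → ∀ c, F c = c → c * t = t * c → c ∈ D.cen {t}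

variable {K : Type} [Group K] [Finite K] {n : ℕ} {D : Datum p ρ F ⊤} {ι : K →* Y} {θ : (D.I → ℤ) →+ (D.I → ℤ)}
  (hM : Md n D ι θ) {t : Y}

include hM

theorem psi (x : D.I → ℤ) : D.ψ (θ x) = ((p ^ n : ℕ) : ℤ) • x :=
  hom_ext_sr (f := D.ψ.comp θ) (g := ((p ^ n : ℕ) : ℤ) • AddMonoidHom.id (D.I → ℤ)) (fun i => by
    have h2 := D.ψ_g (isRoot_sr D.cs D.h i)
    rw [hM.g, hM.ex _ (isRoot_sr D.cs D.h i)] at h2
    exact h2.trans (by push_cast; rfl)) x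

theorem iv_one : (((D.Mx - 1).det.natAbs : ℕ) : ℚ)⁻¹ = iv (p ^ n) θ := by
  let e : (D.I → ℤ) ≃ₗ[ℤ] (D.R → ℤ) := (AddEquiv.ofBijective D.wt hM.wt).toIntLinearEquiv
  have h3 : (e : (D.I → ℤ) →ₗ[ℤ] (D.R → ℤ)) ∘ₗ (D.ψ.toIntLinearMap - 1) ∘ₗ (e.symm : (D.R → ℤ) →ₗ[ℤ] (D.I → ℤ)) =
      Matrix.toLin' (D.Mx - 1).transpose := by
    refine LinearMap.ext fun y => ?_
    obtain ⟨x, rfl⟩ := e.surjective y
    rw [LinearMap.comp_apply, LinearMap.comp_apply, LinearEquiv.coe_coe, LinearEquiv.coe_coe, e.symm_apply_apply,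
      Matrix.toLin'_apply, Matrix.mulVec_transpose, Matrix.vecMul_sub, Matrix.vecMul_one]
    show D.wt (D.ψ x - x) = Matrix.vecMul (D.wt x) D.Mx - D.wt x
    rw [map_sub, D.wt_ψ]
  have h4 := congrArg LinearMap.det h3
  rw [LinearMap.det_conj _ e, LinearMap.det_toLin', Matrix.det_transpose] at h4
  have h5 : (D.ψ.toIntLinearMap - 1) * θ.toIntLinearMap = ((p ^ n : ℕ) : ℤ) • 1 - θ.toIntLinearMap :=
    LinearMap.ext fun x => congrArg (· - θ x) (psi hM x)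
  have h6 : D.ψ.toIntLinearMap * θ.toIntLinearMap = ((p ^ n : ℕ) : ℤ) • 1 := LinearMap.ext (psi hM)
  have h7 : LinearMap.det θ.toIntLinearMap ≠ 0 := fun h0 => by
    have h8 := congrArg LinearMap.det h6
    rw [map_mul, h0, mul_zero, LinearMap.det_smul, map_one, mul_one] at h8
    exact pow_ne_zero _ (Nat.cast_ne_zero.2 (pow_pos (Fact.out : p.Prime).pos n).ne') h8.symm
  rw [iv, ← h5, map_mul, h4, Int.cast_mul, abs_mul, div_mul_cancel_right₀ (abs_ne_zero.2 (Int.cast_ne_zero.2 h7)),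
    Nat.cast_natAbs, Int.cast_abs]

theorem iv_eq (w : D.W) : (((D.Wm w * D.Mx - 1).det.natAbs : ℕ) : ℚ)⁻¹ = iv (p ^ n) (tw D.cs D.h w θ) := by
  obtain ⟨y, hy, hw⟩ := D.exists_type w
  have h := iv_one (hM.conj hy ⟨w, hw⟩)
  rwa [D.conj_Mx, hw.pr_eq] at h

theorem theta (ht : t ∈ D.T) (hF : F t = t) (x : D.I → ℤ) : θ x - ((p ^ n : ℕ) : ℤ) • x ∈ D.Lam {t} := by
  rintro _ rfl
  have h1 := D.χ_ψ (θ x) ht
  rw [hF, psi hM] at h1
  rw [sub_eq_add_neg, D.χ_add, D.χ_neg, h1, mul_inv_cancel₀ (D.χ_ne_zero _ _)]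

theorem ext_T {s : Y} (hs : s ∈ D.T) (ht : t ∈ D.T) (h : ∀ a, D.Rt a → D.χ a s = D.χ a t) : s = t :=
  mul_inv_eq_one.1 (hM.eq_one (mul_mem hs (inv_mem ht)) fun a => mem_of_sr (Λ := D.Lam {s * t⁻¹}) (fun i z hz => by
    rw [hz, D.χ_mul _ hs (inv_mem ht), D.χ_inv _ ht, h _ (isRoot_sr D.cs D.h i), mul_inv_cancel₀ (D.χ_ne_zero _ _)]) a _ rfl)

/-- **The order of the connected centraliser.** -/
theorem card_cen (ht : t ∈ D.T) (hF : F t = t) {j B : ℕ} (hB : ¬ p ∣ B) (h : Ord D.cs D.h (p ^ n) θ (D.Lam {t}) j B) :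
    Nat.card (GF F (D.cen {t})) = (p ^ n) ^ j * B := by
  have hZ := Set.singleton_subset_iff.2 ht
  have hF' : ∀ a ∈ D.Sz {t}, D.g a ∈ D.Sz {t} := fun _ => D.g_mem_Sz hZ fun _ e => e ▸ hF
  have : Fintype (D.sub hZ hF' rfl).W := @Fintype.ofFinite _ (D.sub hZ hF' rfl).fW
  have h1 := mass (D.sub hZ hF' rfl)
  have h2 : Rfl D.cs D.h (D.Lam {t}) = D.rf '' D.Sz {t} := Set.ext fun w =>
    ⟨fun ⟨a, ha, e⟩ => ⟨a, ha, (D.eq_rf ha.1 e).symm⟩, fun ⟨a, ha, e⟩ => ⟨a, ha, e ▸ D.act_rf ha.1⟩⟩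
  have h3 := h ((Finset.univ : Finset (D.sub hZ hF' rfl).W).map ⟨D.subW {t}, D.subW_injective _⟩) fun w => by
    rw [h2, ← D.range_subW, Finset.mem_map]
    exact ⟨fun ⟨v, _, e⟩ => ⟨v, e⟩, fun ⟨v, e⟩ => ⟨v, Finset.mem_univ _, e⟩⟩
  rw [Finset.sum_map, Finset.card_map, Finset.card_univ] at h3
  have h4 : ∑ w : (D.sub hZ hF' rfl).W, ((((D.sub hZ hF' rfl).Wm w * (D.sub hZ hF' rfl).Mx - 1).det.natAbs : ℕ) : ℚ)⁻¹ =
      ∑ w : (D.sub hZ hF' rfl).W, iv (p ^ n) (tw D.cs D.h (D.subW {t} w) θ) := Finset.sum_congr rfl fun w _ => by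
    rw [Ex.Cb.Wm_sub]
    exact iv_eq hM _
  have h5 := congrArg (· * (B : ℚ)) h1
  simp only [h4] at h5
  rw [mul_assoc (Nat.card _ : ℚ)] at h5
  erw [h3] at h5
  have := D.amb.finite_GF (D.cen {t})
  rw [← pow_mul]
  refine card_of (Fact.out : p.Prime) hB Nat.card_pos.ne' ?_ rfl
  have h6 : (0 : ℚ) < Fintype.card (D.sub hZ hF' rfl).W := Nat.cast_pos.2 Fintype.card_pos
  rw [mul_assoc, mul_left_comm (Nat.card _ : ℚ), mul_right_inj' h6.ne'] at h5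
  rw [pow_mul]
  exact_mod_cast h5

/-- **The generator of the centre.** -/
theorem exists_gen (ht : t ∈ D.T) {m : ℕ} (hm : ¬ p ∣ m) (h : Cyc D.cs D.h (p ^ n) θ (D.Lam {t}) m) :
    ∃ z ∈ D.T, F z = z ∧ orderOf z = m ∧ t ∈ zpowers z ∧ D.Sz {z} = D.Sz {t} := by
  obtain ⟨l, x, h1, h2, h3, h4, h5⟩ := h
  obtain ⟨ζ, hζ⟩ := KM.Tor.exists_prim p k hm
  let e : (D.I → ℤ) ≃+ (D.R → ℤ) := AddEquiv.ofBijective D.wt hM.wt
  obtain ⟨z, hz, h6⟩ : ∃ z ∈ D.T, ∀ a, D.χ a z = ((ζ ^ l a : kˣ) : k) := by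
    refine ⟨D.τ (coch (fun j => l (e.symm (sr j))) ζ), D.τ_mem _, fun a => ?_⟩
    rw [D.χ_τ, chr_coch]
    congr 2
    conv_rhs => rw [← e.symm_apply_apply a, Nodes.SimplyLaced.eq_sum_sr (e a), map_sum, map_sum]
    exact Finset.sum_congr rfl fun j _ => by rw [map_zsmul, map_zsmul]; rfl
  have h7 : ∀ (i : ℕ) a, D.χ a (z ^ i) = ((ζ ^ (l a * i) : kˣ) : k) := fun i a => by
    rw [TO.X.Cn.χ_pow D a hz, h6, zpow_mul, zpow_natCast, Units.val_pow_eq_pow_val]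
  have h0 : m ≠ 0 := fun e => hm (e ▸ dvd_zero p)
  obtain ⟨i, hi⟩ : ∃ i : ℕ, (ζ : k) ^ i = D.χ x t := by
    have : NeZero m := ⟨h0⟩
    have h8 : D.χ x t ^ m = 1 := by rw [← zpow_natCast, ← D.χ_zsmul]; exact h5 t rfl
    have h9 : IsPrimitiveRoot (ζ : k) m := IsPrimitiveRoot.coe_units_iff.2 (hζ ▸ IsPrimitiveRoot.orderOf ζ)
    obtain ⟨i, -, hi⟩ := h9.eq_pow_of_pow_eq_one h8
    exact ⟨i, hi⟩
  have h8 : z ^ i = t := ext_T hM (pow_mem hz i) ht fun a _ => by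
    have h9 := h4 a t rfl
    rw [sub_eq_add_neg, D.χ_add, D.χ_neg, D.χ_zsmul, mul_inv_eq_one₀ (zpow_ne_zero _ (D.χ_ne_zero _ _))] at h9
    rw [h7, h9, ← hi, mul_comm, zpow_mul, zpow_natCast, Units.val_zpow_eq_zpow_val, Units.val_pow_eq_pow_val]
  refine ⟨z, hz, ext_T hM (D.F_mem_T hz) hz fun b hb => ?_, ?_, ⟨i, (zpow_natCast z i).trans h8⟩, Set.ext fun a =>
    ⟨fun ha => ⟨ha.1, fun s hs => ?_⟩, fun ha => ⟨ha.1, fun s hs => by rw [hs, h6, h2 a ha, zpow_zero, Units.val_one]⟩⟩⟩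
  · obtain ⟨a, -, rfl⟩ := D.g_surj hb
    rw [D.χ_ψ _ hz, hM.g, psi hM, h6, h6, map_zsmul, smul_eq_mul, Units.val_inj, eq_comm, ← mul_inv_eq_one, ← zpow_sub,
      ← orderOf_dvd_iff_zpow_eq_one, hζ]
    exact h3 a
  · refine orderOf_eq_of_pow_and_pow_div_prime (Nat.pos_of_ne_zero h0) ?_ ?_ |>.trans rfl
    · refine hM.eq_one (pow_mem hz m) fun a => ?_
      rw [h7, Units.val_eq_one, ← orderOf_dvd_iff_zpow_eq_one, hζ]
      exact Dvd.intro_left _ rfl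
    · intro r hr hd e
      have h9 := h7 (m / r) x
      rw [e, D.χ_one, h1, one_mul, eq_comm, Units.val_eq_one, zpow_natCast, ← orderOf_dvd_iff_pow_eq_one, hζ] at h9
      exact absurd (Nat.le_of_dvd (Nat.div_pos (Nat.le_of_dvd (Nat.pos_of_ne_zero h0) hd) hr.pos) h9)
        (not_le.2 (Nat.div_lt_self (Nat.pos_of_ne_zero h0) hr.one_lt))
  · rw [hs, ← h8, TO.X.Cn.χ_pow D a hz, ha.2 z rfl, one_pow]

theorem cn_eq (hc : Cn D) {x : K} (hx : ι x ∈ D.T) : cn x = Nat.card (GF F (D.cen {ι x})) := by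
  refine Nat.card_eq_of_bijective (fun g : centralizer {x} => (⟨ι g, hc _ hx (hM.fix x) _ (hM.fix _) (by
    rw [← map_mul, ← map_mul, mem_centralizer_singleton_iff.1 g.2]), hM.fix _⟩ : GF F (D.cen {ι x})))
    ⟨fun a b h => Subtype.ext (hM.inj (congrArg Subtype.val h)), fun y => ?_⟩
  obtain ⟨g, hg⟩ := (hM.range y).1 y.2.2
  refine ⟨⟨g, mem_centralizer_singleton_iff.2 (hM.inj ?_)⟩, Subtype.ext hg⟩
  rw [map_mul, map_mul, hg]
  exact mem_centralizer_singleton_iff.1 (D.cen_le_centralizer (Set.singleton_subset_iff.2 hx) y.2.1)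

/-- **The reduction to the root lattice.** -/
theorem red (hc : ∀ y hy hF z hz hz', Cn ((D.conj (y := y) hy hF).conj (y := z) hz hz')) {d : K → ℕ} {l : ℕ}
    (hd : ∀ x g, g⁻¹ * ι x * g ∈ D.T → d x = l + (D.Sz {g⁻¹ * ι x * g}).ncard) {x : K} (hx : (orderOf x).Coprime p) :
    ∃ (w : D.W) (Λ : AddSubgroup (D.I → ℤ)), (∀ y, tw D.cs D.h w θ y - ((p ^ n : ℕ) : ℤ) • y ∈ Λ) ∧
      (∀ a ∈ Ps D.cs D.h Λ, 0 ≤ a → 0 ≤ tw D.cs D.h w θ a) ∧ d x = l + (Ps D.cs D.h Λ).ncard ∧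
      (∀ j B, ¬ p ∣ B → Ord D.cs D.h (p ^ n) (tw D.cs D.h w θ) Λ j B → cn x = (p ^ n) ^ j * B) ∧
      (∀ m : ℕ, (∀ y, (m : ℤ) • y ∈ Λ) → x ^ m = 1) ∧
      ∀ m, ¬ p ∣ m → Cyc D.cs D.h (p ^ n) (tw D.cs D.h w θ) Λ m →
        ∃ z, orderOf z = m ∧ x ∈ zpowers z ∧ d z = d x ∧ cn z = cn x := by
  obtain ⟨y, hy, hy', h1⟩ := TO.E6.exists_frame D (s := ι x) ⟨trivial, hM.fix x⟩ (by
    rw [orderOf_injective ι hM.inj, ← (Fact.out : p.Prime).coprime_iff_not_dvd]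
    exact hx.symm)
  have hZ := Set.singleton_subset_iff.2 h1
  obtain ⟨z, hz, hz', h2, -, h3⟩ := Max.exists_reframe (D.conj hy hy') hZ fun _ =>
    (D.conj hy hy').g_mem_Sz hZ fun _ e => e ▸ hM.fix x
  have h4 : z⁻¹ * ι x * z = ι x := by
    rw [mul_assoc, ← mem_centralizer_singleton_iff.1 ((D.conj hy hy').cen_le_centralizer hZ h2), inv_mul_cancel_left]
  have h5 : ι x ∈ ((D.conj hy hy').conj hz hz').T := Nodes.Reps.mem_cj.2 (h4.symm ▸ h1)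
  have hN := (hM.conj hy hy').conj hz hz'
  have h6 : ∀ u, ι u ∈ ((D.conj hy hy').conj hz hz').T → d u = l + (((D.conj hy hy').conj hz hz').Sz {ι u}).ncard := by
    intro u hu
    have e : y⁻¹ * (z⁻¹ * ι u * z) * y = (z * y)⁻¹ * ι u * (z * y) := by group
    rw [sz_conj _ hz hz' hu, sz_conj D hy hy' (Nodes.Reps.mem_cj.1 hu), e]
    exact hd u _ (e ▸ Nodes.Reps.mem_cj.1 (Nodes.Reps.mem_cj.1 hu))
  have h7 := hc y hy hy' z hz hz'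
  have h8 : ∀ a ∈ ((D.conj hy hy').conj hz hz').Sz {ι x}, 0 ≤ a → 0 ≤ ((D.conj hy hy').conj hz hz').g a := by
    rw [sz_conj _ hz hz' h5, h4]
    exact h3
  refine ⟨(D.conj hy hy').pr (z⁻¹ * F z) * D.pr (y⁻¹ * F y), ((D.conj hy hy').conj hz hz').Lam {ι x}, ?_⟩
  rw [← tw_tw]
  refine ⟨theta hN h5 (hM.fix x), fun a ha h => hN.g a ▸ h8 a ha h, h6 x h5, fun j B hB h =>
    (cn_eq hN h7 h5).trans (card_cen hN h5 (hM.fix x) hB h), fun m h => hM.inj ?_, fun m hm h => ?_⟩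
  · rw [map_pow, map_one]
    refine hN.eq_one (pow_mem h5 m) fun a => ?_
    rw [TO.X.Cn.χ_pow _ a h5, ← zpow_natCast, ← Datum.χ_zsmul]
    exact h a _ rfl
  · obtain ⟨s, a1, a2, a3, ⟨i, a4⟩, a5⟩ := exists_gen hN h5 hm h
    obtain ⟨u, rfl⟩ := (hM.range s).1 a2
    refine ⟨u, (orderOf_injective ι hM.inj u).symm.trans a3, ⟨i, hM.inj ((map_zpow ι u i).trans a4)⟩, ?_, ?_⟩
    · rw [h6 u a1, h6 x h5, a5]
    · rw [cn_eq hN h7 a1, cn_eq hN h7 h5, KM.Tor.cen_congr a5]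

end Cfsg.Agent.N2.G2.B
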