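import Cfsg.Agent.N2.G2.BA
import Cfsg.Agent.SB.Low.TabG

/-!
# N2, box B: the lattice facts for `G₂` (helper10)
-/

set_option autoImplicit false
set_option linter.unusedSectionVars false

namespace Cfsg.Agent.N2.G2.B.G

open Subgroup Cfsg Cfsg.Lie CoxeterSystem
open Cfsg.Agent.ChevalleyStructure.CoxeterGeom Cfsg.Agent.Tits.Roots Cfsg.Agent.Nodes.Reps Cfsg.Agent.Nodes.Coroot
  Cfsg.Agent.SB.Low Cfsg.Agent.SB.Low.Tab Cfsg.Agent.SB.Low.Tab.G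

/-- the identity -/
def id2 : M2 := ((1, 0), (0, 1))

/-- trace and determinant of the product -/
def co (t x : M2) : ℤ × ℤ := ((ap x t.1).1 + (ap x t.2).2, dt (ap x t.1) (ap x t.2))

/-- the inverse of the order of the torus -/
def fv (q : ℕ) (c : ℤ × ℤ) : ℚ := |(c.2 : ℚ)| / |(q : ℚ) ^ 2 - c.1 * q + c.2|

/-- the Weyl group of type `A₁` -/
def L1 (a : T2) : List M2 := [id2, rm a id2]

/-- the long roots -/
def LL : List T2 := [(0, 1), (3, 1), (3, 2), (0, -1), (-3, -1), (-3, -2)]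

/-- the Weyl group of the long roots -/
def L2 : List M2 :=
  [id2, rm (0, 1) id2, rm (3, 1) id2, rm (3, 2) id2, rm (0, 1) (rm (3, 1) id2), rm (3, 1) (rm (0, 1) id2)]

theorem chk1 : ∀ a ∈ RL, (L1 a).Nodup ∧ (∀ c ∈ [a, -a], ∀ x ∈ L1 a, rm c x ∈ L1 a) ∧ ∀ t ∈ WL, ap t a = a →
    ∃ ε ∈ [(1 : ℤ), -1], (L1 a).map (co t) = [(1 + ε, ε), (ε - 1, -ε)] ∧
      ∀ i : Fin 2, ap t (vt (sr i)) - ε • vt (sr i) = ((1 - ε) * bf (vt (sr i)) a / bf a a) • a := by decide +kernel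

theorem chk2 : L2.Nodup ∧ LL.Nodup ∧ (∀ c ∈ LL, c ∈ RL ∧ ∀ x ∈ L2, rm c x ∈ L2) ∧ ∀ t ∈ WL, ∃ η ∈ [(1 : ℤ), -1],
    (L2.map (co t)).Perm [(2 * η, 1), (0, -1), (0, -1), (0, -1), (-η, 1), (-η, 1)] ∧
      (ap t (1, 0) - η • (1, 0) = 0 ∨ ap t (1, 0) - η • (1, 0) ∈ LL) := by decide +kernel

theorem chk3 : RL.Nodup ∧ ∀ s ∈ RL, s ∈ LL ∨ ((RL.filter fun b => dt s b * dt s b != 1).length ≤ 4) := by decide +kernel

theorem det_two (f : (Fin 2 → ℤ) →ₗ[ℤ] (Fin 2 → ℤ)) : LinearMap.det f = dt (vt (f (sr 0))) (vt (f (sr 1))) := by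
  rw [← LinearMap.det_toMatrix', Matrix.det_fin_two, dt, mul_comm (vt (f (sr 0))).2]
  rfl

variable {W : Type} [Group W] [Finite W] (cs : CoxeterSystem CoxeterMatrix.G₂ W) {q : ℕ} {w : W}
  {θ : (Fin 2 → ℤ) →+ (Fin 2 → ℤ)} (hθ : ∀ y, θ y = rep cs hpG2.isCartan w y) {Λ : AddSubgroup (Fin 2 → ℤ)}
  (hΛ : ∀ y, θ y - (q : ℤ) • y ∈ Λ)

include hθ

theorem iv_tw (v : W) : iv q (tw cs hpG2.isCartan v θ) = fv q (co (mat cs w) (mat cs v)) := by
  have h : ∀ y, vt (tw cs hpG2.isCartan v θ y) = ap (mat cs v) (vt (rep cs hpG2.isCartan w y)) := fun y =>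
    hθ y ▸ ap_mat cs v (θ y)
  have h0 : ap (mat cs v) (mat cs w).1 = _ := (h (sr 0)).symm
  have h1 : ap (mat cs v) (mat cs w).2 = _ := (h (sr 1)).symm
  rw [iv, det_two, det_two, fv, co, h0, h1]
  generalize tw cs hpG2.isCartan v θ = u
  congr 2
  simp [dt, vt, sr]
  ring

include hΛ

theorem ps (a : Fin 2 → ℤ) (ha : a ∈ Ps cs hpG2.isCartan Λ) : θ a ∈ Ps cs hpG2.isCartan Λ :=
  ⟨hθ a ▸ ha.1.act w, stab hΛ ha.2⟩

theorem mild (hq : 2 ≤ q) (hpos : ∀ a ∈ Ps cs hpG2.isCartan Λ, 0 ≤ a → 0 ≤ θ a) (h2 : (Ps cs hpG2.isCartan Λ).ncard = 2) :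
    ∃ m : ℕ, (m = q - 1 ∨ m = q + 1) ∧ Ord cs hpG2.isCartan q θ Λ 1 ((q ^ 2 - 1) * m) ∧ ∀ y, (m : ℤ) • y ∈ Λ := by
  obtain ⟨a, ha, -, h3, h4⟩ := two (ps cs hθ hΛ) hpos h2
  obtain ⟨c1, c2, c3⟩ := chk1 _ ((root_iff cs a).1 ha.1)
  obtain ⟨ε, hε, c4, c5⟩ := c3 _ (mat_mem cs w) (by rw [← ap_mat, ← hθ, h3])
  obtain ⟨y, rfl⟩ : ∃ y, q = y + 2 := ⟨q - 2, by omega⟩
  obtain ⟨m, h5, hm⟩ : ∃ m : ℕ, (m = y + 2 - 1 ∨ m = y + 2 + 1) ∧ (m : ℤ) = (y + 2 : ℕ) - ε := by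
    simp only [List.mem_cons, List.not_mem_nil, or_false] at hε
    rcases hε with rfl | rfl
    exacts [⟨y + 1, Or.inl rfl, by push_cast; ring⟩, ⟨y + 3, Or.inr rfl, by push_cast; ring⟩]
  refine ⟨m, h5, ord_of (mat cs) (mat_inj cs) vt rm (fun c hc s hs => mat_mul cs hc hs) (L1 (vt a)) c1 ?_ ?_ ?_
    (fv (y + 2) ∘ co (mat cs w)) (iv_tw cs hθ) ?_, mem_of_sr (Λ := Λ.comap ((m : ℤ) • AddMonoidHom.id _)) fun i => ?_⟩
  · rw [mat_one]
    exact List.mem_cons_self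
  · intro c hc
    refine c2 _ ?_
    rcases h4 c hc with rfl | rfl <;> simp [vt_neg]
  · rw [mat_one]
    intro G g1 g2
    simp only [L1, List.forall_mem_cons]
    exact ⟨g1, g2 a ha _ g1, by simp⟩
  · have h6 : (m : ℚ) = y + 2 - ε := by exact_mod_cast hm
    rw [← List.map_map, c4, Nat.cast_mul, h6, Nat.cast_pred (by positivity)]
    simp only [List.mem_cons, List.not_mem_nil, or_false] at hε
    simp only [List.map, List.sum_cons, List.sum_nil, add_zero, add_mul, fv]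
    rw [div_mul_of (Q := y + 3), div_mul_of (Q := y + 1)]
    · simp only [L1, List.length_cons, List.length_nil]
      push_cast
      ring
    all_goals rcases hε with rfl | rfl <;> push_cast <;> first | (ring_nf; positivity) | ring1 | norm_num
  · have h6 : θ (sr i) - ε • sr i ∈ Λ := by
      have h7 := c5 i
      rw [← ap_mat, ← hθ, ← vt_smul, ← vt_smul, ← vt_sub] at h7
      exact vt_inj h7 ▸ zsmul_mem ha.2 _
    show (m : ℤ) • sr i ∈ Λ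
    convert sub_mem h6 (hΛ (sr i)) using 1
    rw [hm]
    module

theorem bad (hq : 2 ≤ q) (h6 : (Ps cs hpG2.isCartan Λ).ncard = 6) :
    ∃ m : ℕ, (m = q ^ 3 - 1 ∧ 3 ∣ q - 1 ∨ m = q ^ 3 + 1 ∧ 3 ∣ q + 1) ∧ Ord cs hpG2.isCartan q θ Λ 3 ((q ^ 2 - 1) * m) := by
  have h1 : ¬ ∀ x, x ∈ Λ := fun h => by
    have h2 : vt '' Ps cs hpG2.isCartan Λ = (RL.toFinset : Set T2) := Set.ext fun x => by
      rw [Finset.mem_coe, List.mem_toFinset]
      exact ⟨fun ⟨a, ha, e⟩ => e ▸ (root_iff cs a).1 ha.1, fun hx => ⟨tv x, ⟨(root_iff cs _).2 hx, h _⟩, rfl⟩⟩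
    have h3 := congrArg Set.ncard h2
    rw [Set.ncard_image_of_injective _ vt_inj, h6, Set.ncard_coe_finset, List.toFinset_card_of_nodup chk3.1] at h3
    exact absurd h3 (by decide)
  have h2 : ∀ s ∈ Ps cs hpG2.isCartan Λ, vt s ∈ LL := fun s hs => (chk3.2 _ ((root_iff cs s).1 hs.1)).resolve_right fun h => by
    obtain ⟨b, hb, h3⟩ := exists_out (S := Ps cs hpG2.isCartan Λ) vt_inj _ (h.trans_lt (by omega))
    refine h1 fun x => mem_of_sq (by_contra fun h4 => h3 (List.mem_filter.2 ⟨(root_iff cs b).1 hb.1, ?_⟩))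
      (cramer_mem hs.2 hb.2 x)
    exact bne_iff_ne.2 h4
  obtain ⟨c1, c2, c3, c4⟩ := chk2
  have h3 : ∀ c ∈ LL, tv c ∈ Ps cs hpG2.isCartan Λ := fun c hc => by
    by_contra h
    have h4 := ncard_le (S := Ps cs hpG2.isCartan Λ) vt_inj (LL.erase c) (n := 5) (by rw [List.length_erase_of_mem hc]; rfl)
      fun s hs => (List.mem_erase_of_ne fun e => h (by rw [← e, tv_vt]; exact hs)).2 (h2 s hs)
    omega
  obtain ⟨η, hη, c5, c6⟩ := c4 _ (mat_mem cs w)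
  have h4 : (3 : ℤ) ∣ q - η := by
    have h4 : θ (sr 0) - η • sr 0 ∈ Λ := by
      have e : vt (θ (sr 0) - η • sr 0) = ap (mat cs w) (1, 0) - η • (1, 0) := by
        rw [vt_sub, vt_smul, hθ, ap_mat]
        rfl
      rw [← tv_vt (θ (sr 0) - η • sr 0), e]
      rcases c6 with h | h
      · rw [h, show tv 0 = 0 from tv_vt 0]
        exact zero_mem _
      · exact (h3 _ h).2
    have h5 : ((q : ℤ) - η) • (sr 0 : Fin 2 → ℤ) ∈ Λ := by
      convert sub_mem h4 (hΛ (sr 0)) using 1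
      module
    have h7 : (sr 1 : Fin 2 → ℤ) ∈ Λ := by
      have := (h3 (0, 1) (by decide)).2
      rwa [show ((0, 1) : T2) = vt (sr 1) from rfl, tv_vt] at this
    have h8 : (3 : ℤ) • (sr 0 : Fin 2 → ℤ) ∈ Λ := by
      have := sub_mem (h3 (3, 1) (by decide)).2 h7
      rwa [show ((3, 1) : T2) = vt ((3 : ℤ) • sr 0 + sr 1) from rfl, tv_vt, add_sub_cancel_right] at this
    by_contra h9
    obtain ⟨a, b, hab⟩ := (Int.prime_three.coprime_iff_not_dvd).2 h9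
    have h10 := add_mem (zsmul_mem h8 a) (zsmul_mem h5 b)
    rw [smul_smul, smul_smul, ← add_smul, hab, one_smul] at h10
    exact h1 (mem_of_sr (Fin.forall_fin_two.2 ⟨h10, h7⟩))
  simp only [List.mem_cons, List.not_mem_nil, or_false] at hη
  obtain ⟨y, rfl⟩ : ∃ y, q = y + 2 := ⟨q - 2, by omega⟩
  obtain ⟨m, h5, hm⟩ : ∃ m : ℕ, (m = (y + 2) ^ 3 - 1 ∧ 3 ∣ y + 2 - 1 ∨ m = (y + 2) ^ 3 + 1 ∧ 3 ∣ y + 2 + 1) ∧
      (m : ℚ) = (y + 2) ^ 3 - η := by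
    rcases hη with rfl | rfl
    exacts [⟨_, Or.inl ⟨rfl, by omega⟩, by rw [Nat.cast_pred (by positivity)]; push_cast; ring⟩,
      ⟨_, Or.inr ⟨rfl, by omega⟩, by push_cast; ring⟩]
  refine ⟨m, h5, ord_of (mat cs) (mat_inj cs) vt rm (fun c hc s hs => mat_mul cs hc hs) L2 c1 ?_
    (fun c hc => (c3 _ (h2 c hc)).2) ?_ (fv (y + 2) ∘ co (mat cs w)) (iv_tw cs hθ) ?_⟩
  · rw [mat_one]
    exact List.mem_cons_self
  · rw [mat_one]
    intro G g1 g2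
    have g3 := g2 _ (h3 (0, 1) (by decide))
    have g4 := g2 _ (h3 (3, 1) (by decide))
    simp only [L2, List.forall_mem_cons]
    exact ⟨g1, g3 _ g1, g4 _ g1, g2 _ (h3 (3, 2) (by decide)) _ g1, g3 _ (g4 _ g1), g4 _ (g3 _ g1), by simp⟩
  · rw [← List.map_map, (c5.map _).sum_eq, Nat.cast_mul, hm, Nat.cast_pred (by positivity)]
    simp only [List.map, List.sum_cons, List.sum_nil, add_zero, add_mul, fv]
    rw [div_mul_of (Q := (y + 2 + η) * ((y + 2) ^ 2 + η * (y + 2) + 1)), div_mul_of (Q := (y + 2) ^ 3 - η),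
      div_mul_of (Q := ((y + 2) ^ 2 - 1) * (y + 2 - η))]
    · simp only [L2, List.length_cons, List.length_nil]
      rcases hη with rfl | rfl <;> push_cast <;> ring
    all_goals rcases hη with rfl | rfl <;> push_cast <;> first | (ring_nf; positivity) | ring1 | norm_num

end Cfsg.Agent.N2.G2.B.G
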