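import Cfsg.Agent.N2.G2.EvC
import Cfsg.Agent.N2.Cl.RAlt.Tri
import Cfsg.Agent.H824.ProdLem
import Cfsg.Agent.H365.NseAlt

/-!
# N2, `³D₄(q)`, `q` even: the box `BoxEv` (helper9)
-/

set_option autoImplicit false
set_option linter.unusedSectionVars false

namespace Cfsg.Agent.N2.G2

open Subgroup Cfsg Cfsg.Agent.FP3 Cfsg.Agent.N2C.N4
open Cfsg.Agent.SB.Low (EA Nz Cz)

namespace Ev

variable {q : ℕ} {T : Type} [Group T] [Finite T] [IsSimpleGroup T] {d : T → ℕ} {A S : Subgroup T}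
  {Γ : Subgroup (MulAut T)}

/-- `3 × 3` meets the centre of a Sylow subgroup -/
theorem exists_cen (h : Sh 2 3 q T d) {E : Subgroup T} (hE : EA 3 E) (h9 : Nat.card E = 3 ^ 2) (h81 : 3 ^ 4 ∣ Nat.card T) :
    ∃ t ∈ E, orderOf t = 3 ∧ 3 ^ 4 ∣ cn t := by
  have := Fact.mk Nat.prime_three
  obtain ⟨Q, hQ⟩ := (ea_pgroup hE).exists_le_sylow
  have h1 := Q.pow_dvd_card_of_pow_dvd_card h81
  obtain ⟨n, hn⟩ := IsPGroup.iff_card.1 Q.isPGroup'
  obtain ⟨j, j0, hj⟩ := IsPGroup.card_center_eq_prime_pow hn (Nat.pos_of_ne_zero fun e => by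
    rw [hn, e] at h1
    omega)
  obtain ⟨t, ht⟩ := exists_prime_orderOf_dvd_card' (G := center Q) 3 (hj ▸ dvd_pow_self 3 j0.ne')
  have h2 : ∀ g ∈ (Q : Subgroup T), g * t.1.1 = t.1.1 * g := fun g hg => congrArg Subtype.val (mem_center_iff.1 t.2 ⟨g, hg⟩)
  have h3 : orderOf t.1.1 = 3 := by rw [orderOf_coe, orderOf_coe, ht]
  obtain ⟨B, b1, -, b2, -, -, -, -, -, b3, -⟩ := h.tor 3 E hE (by decide) h9
  let W : Subgroup T := ⟨⟨⟨{g | g ∈ B ∧ g ^ 3 = 1}, fun ha hb => ⟨mul_mem ha.1 hb.1, by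
      rw [(show Commute _ _ from b2 _ ha.1 _ hb.1).mul_pow, ha.2, hb.2, one_mul]⟩⟩, one_mem _, one_pow 3⟩,
    fun ha => ⟨inv_mem ha.1, by rw [inv_pow, ha.2, inv_one]⟩⟩
  have h4 : E = W := eq_of_le_of_card_ge (fun g hg => ⟨b1 hg, hE.pow g hg⟩)
    (h9 ▸ h.rk 3 Nat.prime_three (by decide) (by decide) W ⟨⟨fun a b => Subtype.ext (b2 _ a.2.1 _ b.2.1)⟩⟩ fun a ha => ha.2)
  exact ⟨t.1.1, h4.ge ⟨b3 (by decide) fun g hg => h2 g (hQ hg), orderOf_dvd_iff_pow_eq_one.1 h3.dvd⟩, h3,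
    h1.trans (card_dvd_of_le fun g hg => mem_centralizer_singleton_iff.2 (h2 g hg))⟩

theorem a6 (h : Sh 2 3 q T d) (C : Cx 2 A Γ) (hS : Sim A Γ S) (e : S ≃* alternatingGroup (Fin 6)) : Good A := by
  by_contra hG
  have h1 : Nat.card S = 360 := by
    have := two_mul_nat_card_alternatingGroup (α := Fin 6)
    rw [Nat.card_perm, Nat.card_fin, ← Nat.card_congr e.toEquiv] at this
    norm_num [Nat.factorial] at this
    omega
  have h2 : Nat.card (MulAut S) = 4 * Nat.card S := by rw [Nat.card_congr (MulAut.congr e).toEquiv, H824.ProdLem.card_aut_a6, h1]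
  have h3 : 3 ≤ q := (q_two h).lt_of_ne fun k => by
    have := S.card_subgroup_dvd_card
    rw [h1, h.card, ← k, ord3] at this
    norm_num at this
  have h4 : ∀ x ∈ S, Odd (orderOf x) → x ≠ 1 → d x = 10 := fun x hx k k' => (d_cases h k k').resolve_left fun k1 =>
    hG (good_of_cn (hS.le hx) k1 (h.card ▸ (Nat.mul_le_mul_left _ ((hS.card_le C).trans
      (le_trans (by rw [h2, h1]; decide) (Nat.pow_le_pow_left h3 10)))).trans (num_c3 (q_two h))))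
  have h5 : ∀ x ∈ S, orderOf x ≤ 5 := fun x hx => by
    have := H365.NseAlt.or6 (e ⟨x, hx⟩)
    rw [e.orderOf_eq, orderOf_mk] at this
    simp only [List.mem_cons, List.not_mem_nil, or_false] at this
    omega
  obtain ⟨x, y, x1, y1, o5, hxy⟩ := N2C.RAlt.tri_6_2_4_5.congr e.symm
  have h6 : 30 < d x + d y + d (x * y) := by
    have k1 := h.unip x 1 (congrArg Subtype.val x1)
    have k2 := h.unip y 2 (congrArg Subtype.val y1)
    have k3 : orderOf ((x : T) * y) = 5 := (orderOf_coe (x * y)).trans o5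
    have k4 := h4 _ (mul_mem x.2 y.2) (k3 ▸ by decide) fun k => by rw [k, orderOf_one] at k3; omega
    omega
  have h7 : ∀ t ∈ S, orderOf t = 3 → q = 4 ∧ ¬ 3 ^ 4 ∣ cn t := fun t ht k => by
    have k0 : t ≠ 1 := fun k' => by rw [k', orderOf_one] at k; omega
    have k1 : Odd (orderOf t) := k ▸ by decide
    obtain ⟨m, n, z, z1, z2, z3, z4, z5⟩ := zed h C hS.inv (Sim.closure hxy) h6 ht k0 k1 (h4 t ht k1 k0)
    obtain ⟨f, hf, hq⟩ := h.pw
    have k2 := bd_odd (q_two h) (hq ▸ dvd_pow_self 2 hf.ne') z1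
    have k3 := h5 z (mem_of_cop hS.le (hS.norm C).ge (fun t _ => hS.cent t) h2.dvd (k2.coprime_two_right.pow_right 2) z5
      (z3 ▸ pow_orderOf_eq_one z))
    have k4 := orderOf_dvd_of_mem_zpowers z4
    have k5 := orderOf_pos z
    rw [k, z3] at k4
    rw [z3] at k3 k5
    rw [Nat.odd_iff] at k2
    have k6 : q * 3 ≤ q ^ 2 := pow_two q ▸ Nat.mul_le_mul_left _ h3
    rcases z1 with ⟨k7 | k7, k8⟩ | ⟨k7, -⟩ | ⟨k7, -⟩
    · obtain rfl : q = 4 := by omega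
      rw [z2, k7, k8]
      exact ⟨rfl, by norm_num⟩
    all_goals omega
  obtain ⟨E, e1, e2⟩ := LocO.exists_sub S (n := 2) Nat.prime_three (by rw [h1]; decide)
  have := Fact.mk Nat.prime_three
  have h8 : ∀ g ∈ E, g ^ 3 = 1 := fun g hg => by
    obtain ⟨i, hi, k⟩ := (Nat.dvd_prime_pow Nat.prime_three).1 (e2 ▸ LocO.ord_dvd hg)
    have := h5 g (e1 hg)
    refine orderOf_dvd_iff_pow_eq_one.1 ?_
    rw [k] at this ⊢
    interval_cases i <;> omega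
  have h9 : EA 3 E := ⟨Nat.prime_three, fun k => by rw [k, card_bot] at e2; omega, h8, fun a ha b hb =>
    congrArg Subtype.val ((IsPGroup.isMulCommutative_of_card_eq_prime_sq e2).is_comm.comm ⟨a, ha⟩ ⟨b, hb⟩)⟩
  obtain ⟨t, t1, t2⟩ := LocO.exists_ord S Nat.prime_three (by rw [h1]; decide)
  obtain ⟨rfl, -⟩ := h7 t t1 t2
  obtain ⟨t, t1, t2, t3⟩ := exists_cen h h9 e2 (by rw [h.card, ord3]; norm_num)
  exact (h7 t (e1 t1) t2).2 t3

theorem l2 (h : Sh 2 3 q T d) (C : Cx 2 A Γ) (hS : Sim A Γ S) {F : Type} [Field F] [Fintype F] (h2 : 2 ∣ Fintype.card F)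
    (h4 : 4 ≤ Fintype.card F) (e : S ≃* PSL 2 F) : Good A := by
  obtain ⟨r, hr⟩ := CharP.exists F
  obtain ⟨a, h1, ha⟩ := FiniteField.card F r
  obtain rfl : 2 = r := (Nat.prime_dvd_prime_iff_eq Nat.prime_two h1).1 (Nat.prime_two.dvd_of_dvd_pow (ha ▸ h2))
  obtain ⟨y, hy⟩ := evT (a := a) ((Nat.pow_le_pow_iff_right one_lt_two).1 (ha ▸ h4)) ha e
  exact hy.good h C hS

end Ev

/-- **[Ev]** -/
theorem boxEv : BoxEv := by
  rintro p k q T _ _ _ d A Γ h C ⟨rfl, rfl⟩ S hS ((⟨⟨e⟩⟩ | ⟨⟨e⟩⟩ | ⟨F, _, _, h1, ⟨e⟩⟩ | ⟨h1, -⟩) | ⟨F, _, _, ⟨h1, h2⟩, ⟨e⟩⟩)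
  · have := Fintype.ofFinite (GaloisField 2 2)
    have h1 : Fintype.card (GaloisField 2 2) = 4 := Nat.card_eq_fintype_card.symm.trans (GaloisField.card 2 2 two_ne_zero)
    obtain ⟨f⟩ := S0252.result h1
    exact Ev.l2 h C hS (h1 ▸ by decide) h1.ge (e.trans f.symm)
  · exact Ev.a6 h C hS e
  · exact Ev.l2 h C hS (by omega) (by omega) e
  · omega
  · exact Ev.l2 h C hS h1 (by omega) e

end Cfsg.Agent.N2.G2
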