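import Cfsg.Agent.N2.G2.L2T

/-!
# N2, `³D₄(q)`, `q` even, socles `L₂(2 ^ a)` and `A₆`: the abstract part (helper9)
-/

set_option autoImplicit false
set_option linter.unusedSectionVars false

namespace Cfsg.Agent.N2.G2.Ev

open Subgroup Cfsg Cfsg.Agent.FP3 Cfsg.Agent.N2C.N4
open Cfsg.Agent.SB.Low (EA Nz Cz)

/-- the conjugates of a subgroup which is not self-normalising cover at most half of the group -/
theorem half {G : Type} [Group G] [Finite G] {H : Subgroup G} {t : G} (ht : t ∈ normalizer (H : Set G)) (h1 : t ∉ H)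
    (X : Set G) (hX : ∀ g ∈ X, ∃ s, s⁻¹ * g * s ∈ H) : 2 * Nat.card X ≤ Nat.card G := by
  have h2 := LocO.two_le (le_normalizer (H := H)) ht h1
  have h3 : ∀ g : X, ∃ c : G ⧸ normalizer (H : Set G), c.out⁻¹ * g * c.out ∈ H := fun g => by
    obtain ⟨s, hs⟩ := hX g g.2
    obtain ⟨n, hn⟩ := QuotientGroup.mk_out_eq_mul (normalizer (H : Set G)) s
    refine ⟨s, ?_⟩
    rw [hn, show (s * n)⁻¹ * g * (s * n) = (n : G)⁻¹ * (s⁻¹ * g * s) * (n : G)⁻¹⁻¹ by group]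
    exact (mem_normalizer_iff.1 (inv_mem n.2) _).1 hs
  choose c hc using h3
  have h4 := Nat.card_le_card_of_injective (fun g : X => (c g, (⟨_, hc g⟩ : H))) fun g g' e => by
    have h5 := Subtype.mk.inj (Prod.mk.inj e).2
    rw [(Prod.mk.inj e).1] at h5
    exact Subtype.ext (mul_left_cancel (mul_right_cancel h5))
  rw [Nat.card_prod, ← index_eq_card] at h4
  rw [← (normalizer (H : Set G)).index_mul_card]
  nlinarith [Nat.zero_le (normalizer (H : Set G)).index]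

theorem cm_lt {q m n : ℕ} (h : 2 ≤ q) (B : Bd q m n) : cm 3 q < m * n := by
  obtain ⟨a, rfl⟩ := Nat.exists_eq_add_of_le' h
  have h1 : (a + 2) ^ 2 - (a + 2) = a ^ 2 + 3 * a + 2 := Nat.sub_eq_of_eq_add (by ring)
  rcases B with ⟨rfl | rfl, rfl⟩ | ⟨rfl, rfl⟩ | ⟨rfl, rfl⟩ <;> (try simp only [h1, show a + 2 - 1 = a + 1 from rfl]) <;> zify <;>
    rw [cmZ3 (by omega), ← sub_pos] <;> simp only [castP (show 0 < a + 2 by omega)] <;> push_cast <;> ring_nf <;> positivity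

theorem bd_odd {q m n : ℕ} (h : 2 ≤ q) (h2 : 2 ∣ q) (B : Bd q m n) : Odd m := by
  have h1 : 2 ∣ q ^ 2 := h2.trans (dvd_pow_self q two_ne_zero)
  have h3 : q ≤ q ^ 2 := Nat.le_self_pow two_ne_zero q
  rw [Nat.odd_iff]
  rcases B with ⟨rfl | rfl, -⟩ | ⟨rfl, -⟩ | ⟨rfl, -⟩ <;> omega

theorem aux_mod {Q e m : ℕ} (he : 0 < e) (h1 : e + 1 < Q) (hm : m = (Q + 1) * e) : ¬ Q ∣ m + 1 ∧ (m % Q = 1 → e = 1) := by
  refine ⟨fun k => ?_, fun k => ?_⟩
  · rw [hm, add_mul, one_mul, add_assoc] at k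
    exact (Nat.le_of_dvd (by omega) ((Nat.dvd_add_right (dvd_mul_right _ _)).1 k)).not_gt h1
  · rwa [hm, add_mul, one_mul, Nat.mul_add_mod, Nat.mod_eq_of_lt (by omega)] at k

/-- the order of the centre of the centraliser -/
theorem bd_eq {f a e m n : ℕ} (hf : 0 < f) (ha : 2 ≤ a) (he : e ∣ a) (hm : m = (2 ^ a + 1) * e) (B : Bd (2 ^ f) m n) : a = f := by
  have h0 : 0 < e := Nat.pos_of_dvd_of_pos he (by omega)
  have h1 : a + 1 < 2 ^ a := by
    obtain ⟨b, rfl⟩ := Nat.exists_eq_add_of_le' ha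
    have := @Nat.lt_two_pow_self b
    rw [pow_add]
    omega
  have h2 := Nat.le_of_dvd (by omega) he
  obtain ⟨h3, h4⟩ := aux_mod h0 (show e + 1 < 2 ^ a by omega) hm
  have h5 : 2 ≤ 2 ^ f := Nat.le_self_pow hf.ne' 2
  have h6 : 2 ^ a + 1 ≤ m := hm ▸ Nat.le_mul_of_pos_right _ h0
  have h7 : ∀ c, Odd c → c ∣ 2 ^ a → c = 1 := fun c k k' => (k.coprime_two_right.pow_right a).eq_one_of_dvd k'
  have h8 : 2 ∣ 2 ^ f := dvd_pow_self 2 hf.ne'
  generalize hq : 2 ^ f = q at *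
  have h9 : (q ^ 2 - q) = q * (q - 1) := by rw [Nat.mul_sub_one, pow_two]
  rcases le_or_gt a f with k | k
  · obtain ⟨c, hc⟩ : 2 ^ a ∣ q := hq ▸ pow_dvd_pow 2 k
    have h10 : ∀ b, (q * b + 1) % 2 ^ a = 1 := fun b => by
      rw [hc, mul_assoc, Nat.mul_add_mod, Nat.mod_eq_of_lt (by omega)]
    have h11 : 2 ^ a ≤ q := Nat.le_of_dvd (by omega) ⟨c, hc⟩
    rcases B with ⟨k1 | k1, -⟩ | ⟨k1, -⟩ | ⟨k1, -⟩
    · exact absurd ⟨c, by omega⟩ h3
    · rw [h4 (by rw [k1]; simpa only [mul_one] using h10 1), mul_one] at hm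
      exact Nat.pow_right_injective le_rfl (show 2 ^ a = 2 ^ f by omega)
    · rw [h4 (by rw [k1, show q ^ 2 + q + 1 = q * (q + 1) + 1 by ring, h10]), mul_one] at hm
      nlinarith
    · rw [h4 (by rw [k1, h9, h10]), mul_one, k1, h9] at hm
      have : q * 2 ≤ q * (q - 1) := Nat.mul_le_mul_left _ (by omega)
      omega
  · exfalso
    obtain ⟨c, hc⟩ : q * 2 ∣ 2 ^ a := by rw [← hq, ← pow_succ]; exact pow_dvd_pow 2 k
    have h11 : q * 2 ≤ 2 ^ a := Nat.le_of_dvd (by omega) ⟨c, hc⟩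
    have h10 : ∀ b, b ≤ q + 1 → m = q * b + 1 → 2 ^ a = q * b := fun b hb k1 => by
      have k2 : e % q = 1 := by
        have k3 : m % q = e % q := by rw [hm, hc, add_mul, one_mul, mul_assoc, mul_assoc, Nat.mul_add_mod]
        rw [← k3, k1, Nat.mul_add_mod, Nat.mod_eq_of_lt (by omega)]
      by_cases k3 : e = 1
      · rw [k3, mul_one] at hm
        omega
      · have k4 : q + 1 ≤ e := by
          by_contra k5
          rcases (show e < q ∨ e = q by omega) with k6 | k6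
          · rw [Nat.mod_eq_of_lt k6] at k2; omega
          · rw [k6, Nat.mod_self] at k2; omega
        have k5 : (q * 2 + 1) * (q + 1) ≤ m := hm ▸ Nat.mul_le_mul (by omega) k4
        have k6 : q * b ≤ q * (q + 1) := Nat.mul_le_mul_left _ hb
        nlinarith
    rcases B with ⟨k1 | k1, -⟩ | ⟨k1, -⟩ | ⟨k1, -⟩
    · omega
    · omega
    · have := h7 (q + 1) (Nat.odd_iff.2 (by omega)) (h10 (q + 1) le_rfl (by rw [k1]; ring) ▸ dvd_mul_left _ _)
      omega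
    · have k2 := h10 (q - 1) (by omega) (by rw [k1, h9])
      have k3 := h7 (q - 1) (Nat.odd_iff.2 (by omega)) (k2 ▸ dvd_mul_left _ _)
      rw [k3] at k2
      omega

section sheet

variable {q : ℕ} {T : Type} [Group T] [Finite T] [IsSimpleGroup T] {d : T → ℕ} {A S : Subgroup T}
  {Γ : Subgroup (MulAut T)}

theorem q_two (h : Sh 2 3 q T d) : 2 ≤ q := by have := h.par; omega

/-- elements of odd order -/
theorem d_cases (h : Sh 2 3 q T d) {x : T} (ho : Odd (orderOf x)) (h1 : x ≠ 1) : cn x ≤ cm 3 q ∨ d x = 10 := by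
  rcases h.cls x ho.coprime_two_right h1 with e | e | ⟨e, -⟩ | ⟨-, e⟩
  · exact Or.inl (h.cn_le_cm ho.coprime_two_right h1 (by omega))
  · exact Or.inl (h.cn_le_cm ho.coprime_two_right h1 (by omega))
  · exact Or.inr e
  · exact absurd (orderOf_eq_one_iff.1 (ho.coprime_two_right.eq_one_of_dvd (orderOf_dvd_of_pow_eq_one e))) h1

/-- **the centres of the large centralisers lie in `A`** -/
theorem zed (h : Sh 2 3 q T d) (C : Cx 2 A Γ) (hS : Inv Γ S) {x y : T} (hxy : Subgroup.closure {x, y} = S)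
    (hd : 30 < d x + d y + d (x * y)) {s : T} (hs : s ∈ S) (h1 : s ≠ 1) (ho : Odd (orderOf s)) (h10 : d s = 10) :
    ∃ m n z, Bd q m n ∧ cn s = m * n ∧ orderOf z = m ∧ s ∈ zpowers z ∧ z ∈ A := by
  let X : Set T := {z | Odd (orderOf z) ∧ ∃ s ∈ S, s ≠ 1 ∧ s ∈ zpowers z ∧ cn z = cn s ∧ cm 3 q < cn s}
  have h2 : Subgroup.closure X ≤ Zd d S := Subgroup.closure_mono fun z ⟨k1, s, k2, k3, k4, k5, k6⟩ =>
    ⟨s, k2, k4, ((d_cases h k1 fun e => k3 (by rwa [e, zpowers_one_eq_bot, mem_bot] at k4)).resolve_left (by omega)).trans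
      ((d_cases h (k1.of_dvd_nat (orderOf_dvd_of_mem_zpowers k4)) k3).resolve_left k6.not_ge).symm⟩
  have h3 : Inv Γ (Subgroup.closure X) := inv_closure fun σ hσ z ⟨k1, s, k2, k3, ⟨i, k4⟩, k5, k6⟩ =>
    ⟨by rwa [σ.orderOf_eq], σ s, hS σ hσ s k2, fun e => k3 (σ.injective (e.trans (map_one σ).symm)),
      ⟨i, (map_zpow σ z i).symm.trans (congrArg σ k4)⟩, by rwa [cn_congr, cn_congr], by rwa [cn_congr]⟩
  have h4 := h.zed rfl rfl x y hd
  rw [hxy] at h4
  have h5 := mi_le C.mi (inv_sup hS h3) fun e => h4 (top_le_iff.1 (e.ge.trans (sup_le_sup_left h2 S)))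
  obtain ⟨m, n, z, k1, k2, k3, k4, -, k5⟩ := h.bad3 rfl s ho.coprime_two_right h10
  obtain ⟨f, hf, hq⟩ := h.pw
  exact ⟨m, n, z, k1, k2, k3, k4, h5 (mem_sup_right (Subgroup.subset_closure
    ⟨k3 ▸ bd_odd (q_two h) (hq ▸ dvd_pow_self 2 hf.ne') k1, s, hs, h1, k4, k5, k2 ▸ cm_lt (q_two h) k1⟩))⟩

theorem mc_map (σ : MulAut T) (s : T) : (Mc s).map σ.toMonoidHom = Mc (σ s) := by
  have h1 : (centralizer {s}).map σ.toMonoidHom = centralizer {σ s} := by
    ext g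
    obtain ⟨g, rfl⟩ := σ.surjective g
    refine (mem_map_iff_mem (f := σ.toMonoidHom) σ.injective).trans ?_
    rw [mem_centralizer_singleton_iff, mem_centralizer_singleton_iff, ← map_mul, ← map_mul, σ.injective.eq_iff]
  rw [Mc, map_commutator, h1, Mc]

theorem cz_mc (σ : MulAut T) {s g : T} (h : g ∈ Cz (Mc s)) : σ g ∈ Cz (Mc (σ s)) := by
  rw [← mc_map]
  rintro _ ⟨v, hv, rfl⟩
  exact (map_mul σ v g).symm.trans ((congrArg σ (h v hv)).trans (map_mul σ g v))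

theorem mc_eq {s t : T} (h : zpowers s = zpowers t) : Mc s = Mc t := by
  have h1 : ∀ s t : T, zpowers s = zpowers t → centralizer {s} ≤ centralizer {t} := fun s t h g hg => by
    obtain ⟨i, rfl⟩ : t ∈ zpowers s := h ▸ mem_zpowers t
    exact mem_centralizer_singleton_iff.2 ((show Commute g s from mem_centralizer_singleton_iff.1 hg).zpow_right i)
  rw [Mc, Mc, le_antisymm (h1 s t h) (h1 t s h.symm)]

theorem mc_le (s : T) : Mc s ≤ centralizer {s} := commutator_le_self _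

/-- a subgroup which normalises `⟨y⟩` and centralises `C(y)'` is solvable -/
theorem solv {y : T} {K : Subgroup T} (h1 : ∀ k ∈ K, k * y * k⁻¹ ∈ zpowers y) (h2 : K ≤ Cz (Mc y)) : Group.IsSolvable K := by
  have h3 : derivedSeries K 1 ≤ (centralizer {y}).subgroupOf K := commutator_le.2 fun a _ b _ => by
    obtain ⟨i, hi⟩ := h1 _ (inv_mem a.2)
    obtain ⟨j, hj⟩ := h1 _ (inv_mem b.2)
    beta_reduce at hi hj
    refine mem_centralizer_singleton_iff.2 ?_
    show (a : T) * b * (a : T)⁻¹ * (b : T)⁻¹ * y = y * (a * b * (a : T)⁻¹ * (b : T)⁻¹)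
    calc _ = (a : T) * b * ((a : T)⁻¹ * ((b : T)⁻¹ * y * (b : T)⁻¹⁻¹) * (a : T)⁻¹⁻¹) * (a : T)⁻¹ * (b : T)⁻¹ := by group
      _ = a * b * ((b : T)⁻¹ * ((a : T)⁻¹ * y * (a : T)⁻¹⁻¹) * (b : T)⁻¹⁻¹) * (a : T)⁻¹ * (b : T)⁻¹ := by
        rw [← hj, ← conj_zpow, ← hi, ← conj_zpow, ← hj, ← zpow_mul, ← zpow_mul, mul_comm i]
      _ = _ := by group
  have h4 : derivedSeries K 2 ≤ (Mc y).subgroupOf K := commutator_le.2 fun a ha b hb =>
    commutator_mem_commutator (h3 ha) (h3 hb)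
  exact ⟨⟨3, commutator_eq_bot_iff_le_centralizer.2 fun a _ b hb => Subtype.ext (h2 a.2 b (h4 hb))⟩⟩

end sheet

end Cfsg.Agent.N2.G2.Ev
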