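import Cfsg.Agent.N2.G2.EvA

/-!
# N2, `³D₄(q)`, `q` even, socle `L₂(2 ^ a)` (helper9)
-/

set_option autoImplicit false
set_option linter.unusedSectionVars false

namespace Cfsg.Agent.N2.G2.Ev

open Subgroup Cfsg Cfsg.Agent.FP3 Cfsg.Agent.N2C.N4
open Cfsg.Agent.SB.Low (EA Nz Cz)

variable {q : ℕ} {T : Type} [Group T] [Finite T] [IsSimpleGroup T] {d : T → ℕ} {A S : Subgroup T}
  {Γ : Subgroup (MulAut T)}

/-- the facts on `S = L₂(2 ^ a)` and a generator `y` of the non-split torus -/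
structure EvT (S : Subgroup T) (a : ℕ) (y : T) : Prop where
  two : 2 ≤ a
  mem : y ∈ S
  oy : orderOf y = 2 ^ a + 1
  tri : ∃ u, u ^ 2 = 1 ∧ orderOf (u * y) = 2 ^ a + 1 ∧ Subgroup.closure {u, y} = S
  cy : ∀ w ∈ S, w ≠ 1 → orderOf w ∣ 2 ^ a + 1 → ∃ g ∈ S, g⁻¹ * w * g ∈ zpowers y
  nz : ∀ w ∈ S, Odd (orderOf w) → w * y * w⁻¹ ∈ zpowers y → w ∈ zpowers y
  inv : ∃ t ∈ S, t * y * t⁻¹ = y⁻¹
  max : ∀ M ≤ S, y ∈ M → M = S ∨ ∀ g ∈ M, g * y * g⁻¹ ∈ zpowers y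
  aut : Nat.card (MulAut S) ∣ a * Nat.card S
  card : Nat.card S ≤ (2 ^ a) ^ 3

variable {a : ℕ} {y : T}

theorem EvT.odd (D : EvT S a y) : Odd (orderOf y) := by
  rw [D.oy]
  exact ((even_two.pow_of_ne_zero (by have := D.two; omega))).add_one

theorem EvT.lt (D : EvT S a y) : a < orderOf y := by
  have := @Nat.lt_two_pow_self a
  rw [D.oy]
  omega

theorem pow_mem' (C : Cx 2 A Γ) (hS : Sim A Γ S) {g : T} (hg : g ∈ A) : g ^ S.relIndex A ∈ S := by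
  have : (S.subgroupOf A).Normal := ⟨fun b hb n => (mem_normalizer_iff.1 ((hS.norm C).ge n.2) b).1 hb⟩
  exact pow_index_mem (H := S.subgroupOf A) ⟨g, hg⟩

/-- the torus is not bad -/
theorem EvT.small (D : EvT S a y) (h : Sh 2 3 q T d) (C : Cx 2 A Γ) (hS : Sim A Γ S) (hc : cn y ≤ cm 3 q) : Good A := by
  have h1 := hS.relIndex_dvd C D.aut
  have h2 := D.two
  have h3 : y ^ S.relIndex A ≠ 1 := fun e =>
    (Nat.le_of_dvd (by omega) ((orderOf_dvd_of_pow_eq_one e).trans h1)).not_gt D.lt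
  obtain ⟨t, t1, t2⟩ := D.inv
  have h4 := fun g : A => pow_mem' C hS g.2
  generalize S.relIndex A = e at h1 h3 h4
  have h5 : t * y ^ e * t⁻¹ = (y ^ e)⁻¹ := by rw [← conj_pow, t2, inv_pow]
  have h6 := half (H := (centralizer {y ^ e}).subgroupOf A) (t := ⟨t, hS.le t1⟩) (mem_normalizer_fintype fun g hg => by
      have k : Commute (g : T) (y ^ e)⁻¹ := (show Commute (g : T) (y ^ e) from mem_centralizer_singleton_iff.1 hg).inv_right
      refine mem_centralizer_singleton_iff.2 ?_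
      show t * g * t⁻¹ * y ^ e = y ^ e * (t * g * t⁻¹)
      have k' : y ^ e = t * (y ^ e)⁻¹ * t⁻¹ := by rw [← conj_inv, h5, inv_inv]
      rw [k', conj_mul, conj_mul, k.eq])
    (fun k => h3 (orderOf_eq_one_iff.1 ((D.odd.of_dvd_nat (orderOf_pow_dvd e)).coprime_two_right.eq_one_of_dvd
      (orderOf_dvd_of_pow_eq_one (by
        rw [show t * y ^ e = y ^ e * t from mem_centralizer_singleton_iff.1 k, mul_inv_cancel_right] at h5
        rw [pow_two]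
        exact mul_eq_one_iff_eq_inv.2 h5)))))
    {g | IsConj y (g : T)} fun g hg => by
      obtain ⟨c, hc⟩ := isConj_iff.1 hg
      have k1 : orderOf ((g : T) ^ e) = orderOf (y ^ e) := by rw [← hc, conj_pow, ← inv_inv c, inv_inv c⁻¹, orderOf_cj]
      obtain ⟨s, s1, s2⟩ := D.cy _ (h4 g) (fun k => h3 (orderOf_eq_one_iff.1 (k1 ▸ k ▸ orderOf_one)))
        (k1 ▸ D.oy ▸ orderOf_pow_dvd e)
      obtain ⟨i, hi⟩ := mem_zpowers_of_cyc inferInstance s2 (pow_mem (mem_zpowers y) e)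
        (by rw [orderOf_cj, k1, pow_orderOf_eq_one])
      refine ⟨⟨s, hS.le s1⟩, mem_centralizer_singleton_iff.2 ?_⟩
      show Commute (s⁻¹ * g * s) (y ^ e)
      rw [← hi, ← inv_inv s, inv_inv s⁻¹, ← conj_pow]
      exact ((Commute.refl _).pow_right e).zpow_right i
  have h7 : cc A y ≤ Nat.card {g : A | IsConj y (g : T)} :=
    Nat.card_le_card_of_injective (fun g => ⟨⟨g.1, g.2.2⟩, g.2.1⟩) fun g g' e => Subtype.ext (Subtype.mk.inj (Subtype.mk.inj e))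
  have h8 : 2 ^ a ≤ q ^ 3 := h.cube (g := 1) (by decide) (by omega) ((mul_one _).trans D.oy)
  have h9 : Nat.card A ≤ 8 * q ^ 10 := by
    obtain ⟨f, -, hf⟩ := h.pw
    have k1 : a ≤ f * 3 := (Nat.pow_le_pow_iff_right one_lt_two).1 (by rwa [pow_mul, ← hf])
    have k2 : f < q := hf ▸ Nat.lt_two_pow_self
    calc Nat.card A ≤ a * Nat.card S := Nat.le_of_dvd (Nat.mul_pos (by omega) Nat.card_pos) ((hS.card_dvd C).trans D.aut)
      _ ≤ 8 * q * (q ^ 3) ^ 3 := Nat.mul_le_mul (by omega) (D.card.trans (Nat.pow_le_pow_left h8 3))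
      _ = _ := by ring
  refine good_of_cc (hS.le D.mem) hc le_rfl (Nat.le_of_mul_le_mul_left ?_ (show 0 < 8 by decide))
  calc 8 * (cm 3 q * cc A y) ^ 3 = cm 3 q ^ 3 * (2 * cc A y) ^ 3 := by ring
    _ ≤ cm 3 q ^ 3 * Nat.card A ^ 3 := Nat.mul_le_mul_left _ (Nat.pow_le_pow_left (by omega) 3)
    _ = cm 3 q ^ 3 * Nat.card A * Nat.card A ^ 2 := by ring
    _ ≤ cm 3 q ^ 3 * (8 * q ^ 10) * Nat.card A ^ 2 := by gcongr
    _ = 8 * (cm 3 q ^ 3 * q ^ 10 * Nat.card A ^ 2) := by ring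
    _ ≤ _ := by
      rw [h.card]
      exact Nat.mul_le_mul_left _ (Nat.mul_le_mul_right _ (num_c3 (q_two h)))

/-- the torus is bad -/
theorem EvT.big (D : EvT S a y) (h : Sh 2 3 q T d) (C : Cx 2 A Γ) (hS : Sim A Γ S) (h10 : d y = 10) : False := by
  obtain ⟨u, u1, u2, u3⟩ := D.tri
  have h0 := D.two
  have h1 : ∀ w : T, orderOf w = 2 ^ a + 1 → w ≠ 1 := fun w e k => by
    rw [k, orderOf_one] at e
    have := Nat.two_pow_pos a
    omega
  have h2 : ∀ w ∈ S, orderOf w = 2 ^ a + 1 → ∃ g ∈ S, zpowers (g⁻¹ * w * g) = zpowers y := fun w hw e => by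
    obtain ⟨g, g1, g2⟩ := D.cy w hw (h1 w e) e.dvd
    exact ⟨g, g1, zpowers_eq_of_order g2 (by rw [orderOf_cj, e, D.oy])⟩
  have h3 : 32 < d u + d y + d (u * y) := by
    obtain ⟨g, -, g2⟩ := h2 _ (mul_mem (u3 ▸ Subgroup.subset_closure (Set.mem_insert _ _)) D.mem) u2
    have k1 := h.d_le (g2.ge (mem_zpowers y))
    have k2 := h.d_le (g2.le (mem_zpowers _))
    have k3 := h.conj (u * y) g⁻¹
    have k4 := h.unip u 1 u1
    rw [inv_inv] at k3
    omega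
  obtain ⟨m, n, z, z1, -, z2, ⟨i, z3⟩, z4⟩ := zed h C hS.inv u3 (by omega) D.mem (h1 y D.oy) D.odd h10
  obtain ⟨f, hf, hq⟩ := h.pw
  have h4 : a = f := by
    have k1 := D.nz _ (pow_mem' C hS z4) ((z2 ▸ bd_odd (q_two h) (hq ▸ dvd_pow_self 2 hf.ne') z1).of_dvd_nat
      (orderOf_pow_dvd _)) (by
        rw [← z3, (((Commute.refl z).pow_left _).zpow_right i).eq, mul_inv_cancel_right]
        exact mem_zpowers _)
    have k2 : m ∣ (2 ^ a + 1) * S.relIndex A := by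
      rw [← z2, ← D.oy, mul_comm]
      exact orderOf_dvd_of_pow_eq_one ((pow_mul _ _ _).trans (orderOf_dvd_iff_pow_eq_one.1 (orderOf_dvd_of_mem_zpowers k1)))
    obtain ⟨e, he⟩ : 2 ^ a + 1 ∣ m := z2 ▸ D.oy ▸ orderOf_dvd_of_mem_zpowers ⟨i, z3⟩
    exact bd_eq hf h0 ((Nat.dvd_of_mul_dvd_mul_left (Nat.succ_pos _) (he ▸ k2)).trans (hS.relIndex_dvd C D.aut)) he (hq ▸ z1)
  subst h4
  obtain ⟨w1, w2, w3⟩ := h.why rfl rfl (hq ▸ Nat.pow_le_pow_right (n := 2) (i := 2) two_pos h0) y (hq ▸ D.oy) h10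
  have w4 := w3 u y (u3 ▸ D.mem) h3
  rw [u3] at w4
  have h5 : Cz (Mc y) ≤ A := le_sup_right.trans (mi_le C.mi (fun σ hσ => sup_le (c := (S ⊔ Cz (Mc y)).comap σ.toMonoidHom)
    (fun x hx => mem_sup_left (hS.inv σ hσ x hx)) fun x hx => by
      obtain ⟨g, g1, g2⟩ := h2 _ (hS.inv σ hσ y D.mem) ((σ.orderOf_eq y).trans D.oy)
      have k := cz_mc (MulAut.conj g⁻¹) (cz_mc σ hx)
      rw [MulAut.conj_apply, MulAut.conj_apply, inv_inv, mc_eq g2] at k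
      show σ x ∈ S ⊔ Cz (Mc y)
      rw [show σ x = g * (g⁻¹ * σ x * g) * g⁻¹ by group]
      exact mul_mem (mul_mem (mem_sup_left g1) (mem_sup_right k)) (mem_sup_left (inv_mem g1))) w4)
  have h6 : y ∈ Cz (Mc y) := fun v hv => mem_centralizer_singleton_iff.1 (mc_le y hv)
  rcases D.max (Cz (Mc y) ⊓ S) inf_le_right ⟨h6, D.mem⟩ with k | k
  · have k1 : Mc y = ⊥ := eq_bot_iff.2 fun v hv => hS.cent v fun x hx => (k.ge hx).1 v hv
    have k2 : 2 ^ 3 ≤ q ^ 3 := Nat.pow_le_pow_left (q_two h) 3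
    rw [k1, card_bot] at w1
    have := Nat.eq_one_of_mul_eq_one_right w1.symm
    omega
  · refine w2 (solv (fun g hg => D.nz _ ((mem_normalizer_iff.1 ((hS.norm C).ge (h5 hg)) y).1 D.mem) ?_
      (k _ ⟨(Cz (Mc y)).mul_mem (mul_mem hg h6) (inv_mem hg), (mem_normalizer_iff.1 ((hS.norm C).ge (h5 hg)) y).1 D.mem⟩)) le_rfl)
    rw [← inv_inv g, inv_inv g⁻¹, orderOf_cj]
    exact D.odd

theorem EvT.good (D : EvT S a y) (h : Sh 2 3 q T d) (C : Cx 2 A Γ) (hS : Sim A Γ S) : Good A :=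
  (d_cases h D.odd fun e => by have := D.lt; have := D.two; rw [e, orderOf_one] at *; omega).elim (D.small h C hS)
    fun e => (D.big h C hS e).elim

end Cfsg.Agent.N2.G2.Ev
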