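import Cfsg.Agent.N2.G2.EvB
import Cfsg.Agent.N2.L2.Mat
import Cfsg.Agent.H648.DG.Psl2Inv
import Cfsg.Agent.H426.SL2Unrec
import Cfsg.Agent.ClassicalGeometry.PSL2Basic
import Cfsg.Agent.S0813
import Cfsg.Agent.S2331

/-!
# N2, `³D₄(q)`, `q` even: the facts on `L₂(2 ^ a)` (helper9)
-/

set_option autoImplicit false
set_option linter.unusedSectionVars false

namespace Cfsg.Agent.N2.G2.Ev

open Subgroup Cfsg Cfsg.Agent.FP3 Cfsg.Agent.N2C.N4 Cfsg.Agent.N2.L2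
open Cfsg.Agent.SB.Low (EA Nz Cz)

variable {F : Type} [Field F] [Fintype F] [CharP F 2]

/-- an involution `u` with `u y` conjugate to `y ^ 2` -/
theorem exists_u {Y : SL2 F} (h : Y ^ 2 ≠ 1) : ∃ U : SL2 F, U ^ 2 = 1 ∧ IsConj (U * Y) (Y ^ 2) := by
  have h2 : (2 : F) = 0 := CharTwo.two_eq_zero
  obtain ⟨t, ht⟩ : ∃ t, t = Y.1.trace := ⟨_, rfl⟩
  let Z : SL2 F := ⟨!![0, 1; 1, t], by rw [Matrix.det_fin_two_of]; linear_combination -h2⟩
  let U : SL2 F := ⟨!![1, t ^ 2 + t; 0, 1], by rw [Matrix.det_fin_two_of]; ring⟩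
  have h3 : IsConj Z Y := S2331.isConj_of_trace (fun e => by simpa [Z] using congrArg (fun X : SL2 F => X.1 0 0) e)
    (fun e => h (by rw [e, one_pow])) (by simp [Z, Matrix.trace_fin_two, ht])
  have h6 : (U * Z).1 = !![t ^ 2 + t, 1 + (t ^ 2 + t) * t; 1, t] := by
    show !![1, t ^ 2 + t; 0, 1] * !![0, 1; 1, t] = _
    simp
  have h4 : IsConj (U * Z) (Y ^ 2) := S2331.isConj_of_trace
    (fun e => by simpa [h6] using congrArg (fun X : SL2 F => X.1 1 0) e) h (by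
      have h5 := Y.2
      rw [Matrix.det_fin_two] at h5
      rw [Matrix.trace_fin_two] at ht
      rw [h6, Matrix.trace_fin_two_of, pow_two Y]
      show _ = (Y.1 * Y.1).trace
      simp only [Matrix.trace_fin_two, Matrix.mul_apply, Fin.sum_univ_two]
      rw [ht]
      linear_combination (Y.1 0 0 + Y.1 1 1 + Y.1 0 0 * Y.1 1 1 - Y.1 0 1 * Y.1 1 0) * h2)
  have h5 : U ^ 2 = 1 := by
    rw [pow_two]
    refine Subtype.ext ?_
    show !![1, t ^ 2 + t; 0, 1] * !![1, t ^ 2 + t; 0, 1] = 1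
    rw [Matrix.mul_fin_two, Matrix.one_fin_two]
    simp [CharTwo.add_self_eq_zero]
  obtain ⟨g, hg⟩ := isConj_iff.1 h3
  refine ⟨g * U * g⁻¹, by rw [conj_pow, h5, mul_one, mul_inv_cancel], IsConj.trans (IsConj.symm ?_) h4⟩
  exact isConj_iff.2 ⟨g, by rw [← hg, conj_mul]⟩

theorem evT {a : ℕ} (ha : 2 ≤ a) (hF : Fintype.card F = 2 ^ a) {T : Type} [Group T] [Finite T] [IsSimpleGroup T]
    {S : Subgroup T} (e : S ≃* PSL 2 F) : ∃ y, EvT S a y := by
  obtain ⟨C, H, c1, c2, c3, c4, -, c5⟩ := ClassicalGeometry.PSLTorus.exists_psl_torus F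
  have h4 : 4 ≤ 2 ^ a := Nat.pow_le_pow_right (n := 2) (i := 2) two_pos ha
  have h2 : 2 ∣ 2 ^ a := dvd_pow_self 2 (by omega)
  have hg : Nat.gcd 2 (Fintype.card F - 1) = 1 := by
    rw [← Nat.coprime_iff_gcd_eq_one, Nat.coprime_two_left, Nat.odd_iff]
    omega
  obtain ⟨y, rfl⟩ := C.isCyclic_iff_exists_zpowers_eq_top.1 c3
  rw [Nat.card_zpowers] at c4
  have oy : orderOf y = 2 ^ a + 1 := by rw [c4, hg, hF, Nat.div_one]
  have hodd : Odd (orderOf y) := Nat.odd_iff.2 (by omega)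
  have hS : Nat.card (PL F) = 2 ^ a * ((2 ^ a) ^ 2 - 1) :=
    hF ▸ ClassicalGeometry.PSL2Basic.card_PSL2_even F (hF ▸ even_iff_two_dvd.2 h2)
  have hp : ∀ j, 0 < j → j ≤ 4 → y ^ j ≠ 1 := fun j k k' e => by
    have := orderOf_le_of_pow_eq_one k e
    omega
  have hsq : y * y ≠ 1 := pow_two y ▸ hp 2 two_pos (by decide)
  have hN : ((zpowers y).subgroupOf H).Normal := normal_of_index_eq_two c2
  have n1 : ∀ w ∈ H, Odd (orderOf w) → w ∈ zpowers y := fun w hw ho => by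
    have k : w ^ 2 ∈ zpowers y := by
      have k := pow_index_mem ((zpowers y).subgroupOf H) ⟨w, hw⟩
      rwa [show ((zpowers y).subgroupOf H).index = 2 from c2] at k
    exact zpowers_le.2 k (mem_zpowers_pow_iff.2 ho.coprime_two_left)
  have n2 : ∀ w x, x ∈ zpowers y → x ≠ 1 → w * x * w⁻¹ ∈ zpowers y → w ∈ H := fun w x k k' k'' => by
    by_contra k3
    exact k' (c5 w⁻¹ (fun k4 => k3 (inv_mem_iff.1 k4)) x k (by rwa [inv_inv]))
  have y1 : y ≠ 1 := pow_one y ▸ hp 1 one_pos (by decide)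
  have nz : ∀ w, Odd (orderOf w) → w * y * w⁻¹ ∈ zpowers y → w ∈ zpowers y := fun w k k' =>
    n1 w (n2 w y (mem_zpowers y) y1 k') k
  have mx : ∀ M : Subgroup (PL F), y ∈ M → M = ⊤ ∨ ∀ g ∈ M, g * y * g⁻¹ ∈ zpowers y := fun M hM =>
    (H648.DG.Psl2.torus_case c4 (by omega) M hM).imp id fun k g hg => (mem_normalizer_iff.1 (k hg) y).1 (mem_zpowers y)
  have tri : ∃ u, u ^ 2 = 1 ∧ orderOf (u * y) = 2 ^ a + 1 ∧ Subgroup.closure {u, y} = ⊤ := by
    let f := H426.psl2EvenEquiv F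
    obtain ⟨U, u1, u2⟩ := exists_u (Y := f y) fun k => hp 2 two_pos (by decide) (f.injective (by rwa [map_pow, map_one]))
    obtain ⟨u, rfl⟩ := f.surjective U
    have u3 : u ^ 2 = 1 := f.injective (by rwa [map_pow, map_one])
    have u4 : IsConj (u * y) (y ^ 2) := by simpa using f.symm.toMonoidHom.map_isConj u2
    have u5 : orderOf (u * y) = orderOf y := by
      obtain ⟨g, k⟩ := isConj_iff.1 u4.symm
      rw [← k, ← inv_inv g, inv_inv g⁻¹, orderOf_cj, hodd.coprime_two_right.orderOf_pow]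
    refine ⟨u, u3, u5.trans oy, (mx _ (Subgroup.subset_closure (by simp))).resolve_right fun k => ?_⟩
    have u6 := (mul_mem_cancel_right (mem_zpowers y)).1 (nz (u * y) (u5 ▸ hodd)
      (k _ (mul_mem (Subgroup.subset_closure (by simp)) (Subgroup.subset_closure (by simp)))))
    rw [orderOf_eq_one_iff.1 ((hodd.of_dvd_nat (orderOf_dvd_of_mem_zpowers u6)).coprime_two_right.eq_one_of_dvd
      (orderOf_dvd_of_pow_eq_one u3)), one_mul] at u4
    rcases eq_or_inv 2 hsq (hp 2 two_pos (by decide)) u4 ((Commute.refl y).pow_right 2) with k' | k'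
    · exact y1 (mul_eq_left.1 ((pow_two y).symm.trans k'))
    · exact hp 3 (by decide) (by decide) (by rw [pow_succ, k', inv_mul_cancel])
  have cy : ∀ w : PL F, w ≠ 1 → orderOf w ∣ 2 ^ a + 1 → ∃ g, g⁻¹ * w * g ∈ zpowers y := fun w w1 w2 => by
    obtain ⟨r, hr, r1⟩ := Nat.exists_prime_and_dvd (orderOf_eq_one_iff.not.2 w1)
    have r2 := r1.trans w2
    obtain ⟨x, x1, x2, -⟩ := cy1_of_cyc (M := 0) c3 hr (by rwa [Nat.card_zpowers, oy]) (fun k => by
      have k1 := (zpowers y).index_mul_card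
      rw [Nat.card_zpowers, oy, hS, ← one_pow 2, Nat.sq_sub_sq, mul_comm (_ + _), ← mul_assoc] at k1
      rw [Nat.eq_of_mul_eq_mul_right (Nat.succ_pos _) k1] at k
      have k2 : ¬ r ∣ 2 ^ a := fun k2 => hr.one_lt.ne' (Nat.dvd_one.1 ((Nat.dvd_add_right k2).1 r2))
      have k3 := Nat.dvd_sub r2 (((Nat.Prime.dvd_mul hr).1 k).resolve_left k2)
      rw [show 2 ^ a + 1 - (2 ^ a - 1) = 2 by omega] at k3
      exact k2 (k3.trans h2)) (Nat.zero_le _)
    have := Fact.mk hr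
    obtain ⟨x', x3⟩ := exists_prime_orderOf_dvd_card' (G := zpowers y) r (by rwa [Nat.card_zpowers, oy])
    obtain ⟨g', g1⟩ := x2 x' (by rwa [orderOf_coe])
    have w3 := orderOf_pow_orderOf_div (orderOf_pos w).ne' r1
    obtain ⟨g, i, g2⟩ := x2 _ w3
    obtain ⟨j, g3⟩ : x ∈ zpowers (g'⁻¹ * x' * g') := zpowers_eq_of_order g1 (by rw [orderOf_cj, orderOf_coe, x3, x1]) ▸ mem_zpowers x
    have g4 : (g * g'⁻¹)⁻¹ * w ^ (orderOf w / r) * (g * g'⁻¹) ∈ zpowers y := by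
      rw [show (g * g'⁻¹)⁻¹ * w ^ (orderOf w / r) * (g * g'⁻¹) = g' * (g⁻¹ * w ^ (orderOf w / r) * g) * g'⁻¹ by group, ← g2, ← g3]
      beta_reduce
      rw [← conj_zpow, ← conj_zpow, show g' * (g'⁻¹ * x' * g') * g'⁻¹ = x' by group]
      exact zpow_mem (zpow_mem x'.2 j) i
    generalize g * g'⁻¹ = s at g4
    refine ⟨s, n1 _ (n2 _ _ g4 (fun k => ?_) ?_) (by rw [orderOf_cj]; exact (oy ▸ hodd).of_dvd_nat w2)⟩
    · have k1 := congrArg orderOf k
      rw [orderOf_cj, w3, orderOf_one] at k1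
      exact hr.one_lt.ne' k1
    · rwa [show s⁻¹ * w * s * (s⁻¹ * w ^ (orderOf w / r) * s) * (s⁻¹ * w * s)⁻¹ = s⁻¹ * w ^ (orderOf w / r) * s by group]
  have inv : ∃ t, t * y * t⁻¹ = y⁻¹ := by
    obtain ⟨t, t1, t2⟩ := SetLike.not_le_iff_exists.1 fun k : H ≤ zpowers y => by
      rw [relIndex_eq_one.2 k] at c2
      omega
    obtain ⟨i, hi⟩ : t * y * t⁻¹ ∈ zpowers y := hN.conj_mem ⟨y, c1 (mem_zpowers y)⟩ (mem_zpowers y) ⟨t, t1⟩
    refine ⟨t, (eq_or_inv 2 hsq (hp 2 two_pos (by decide)) (isConj_iff.2 ⟨t, rfl⟩)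
      (hi ▸ (Commute.refl y).zpow_right i)).resolve_left fun k => ?_⟩
    have k1 := LocO.two_le (zpowers_le.2 (mem_centralizer_singleton_iff.2 rfl) : zpowers y ≤ centralizer {y})
      (mem_centralizer_singleton_iff.2 (mul_inv_eq_iff_eq_mul.1 k)) t2
    have k2 := cn_le 2 hsq (hp 2 two_pos (by decide))
    rw [hg, mul_one, hF, cn] at k2
    rw [Nat.card_zpowers, oy] at k1
    have := k1.trans k2
    omega
  let φ : PL F →* T := S.subtype.comp e.symm.toMonoidHom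
  have hφ : Function.Injective φ := S.subtype_injective.comp e.symm.injective
  have hm : ∀ x, φ x ∈ S := fun x => (e.symm x).2
  have hr : ∀ x ∈ S, ∃ w, φ w = x := fun x hx => ⟨e ⟨x, hx⟩, congrArg Subtype.val (e.symm_apply_apply _)⟩
  have hz : ∀ w, φ w ∈ zpowers (φ y) ↔ w ∈ zpowers y := fun w => by rw [← MonoidHom.map_zpowers, mem_map_iff_mem hφ]
  have hR : φ.range = S := le_antisymm (by rintro _ ⟨x, rfl⟩; exact hm x) hr
  refine ⟨φ y, ha, hm y, (orderOf_injective φ hφ y).trans oy, ?_, fun w hw k k' => ?_, fun w hw k k' => ?_, ?_,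
    fun M hM k => ?_, ?_, ?_⟩
  · obtain ⟨u, u1, u2, u3⟩ := tri
    refine ⟨φ u, by rw [← map_pow, u1, map_one], by rw [← map_mul, orderOf_injective φ hφ, u2], ?_⟩
    rw [← Set.image_pair, ← MonoidHom.map_closure, u3, ← MonoidHom.range_eq_map, hR]
  · obtain ⟨w, rfl⟩ := hr w hw
    obtain ⟨g, hg⟩ := cy w (fun k1 => k (by rw [k1, map_one])) (by rwa [orderOf_injective φ hφ] at k')
    exact ⟨φ g, hm g, by rwa [← map_inv, ← map_mul, ← map_mul, hz]⟩
  · obtain ⟨w, rfl⟩ := hr w hw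
    rw [← map_inv, ← map_mul, ← map_mul, hz] at k'
    exact (hz w).2 (nz w (by rwa [orderOf_injective φ hφ] at k) k')
  · obtain ⟨t, ht⟩ := inv
    exact ⟨φ t, hm t, by rw [← map_inv, ← map_mul, ← map_mul, ht, map_inv]⟩
  · refine (mx (M.comap φ) k).imp (fun k1 => le_antisymm hM fun x hx => ?_) fun k1 g hg => ?_
    · obtain ⟨w, rfl⟩ := hr x hx
      exact k1.ge (mem_top w)
    · obtain ⟨w, rfl⟩ := hr g (hM hg)
      rw [← map_inv, ← map_mul, ← map_mul, hz]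
      exact k1 w hg
  · rw [Nat.card_congr (MulAut.congr e).toEquiv, Nat.card_congr e.toEquiv, hS,
      S0813.result 2 a (by omega) hF 2 le_rfl (fun _ => h4), if_pos rfl, one_mul, ClassicalGeometry.PSL2Basic.card_PGL2, hF]
  · rw [Nat.card_congr e.toEquiv, hS, pow_succ' _ 2]
    exact Nat.mul_le_mul_left _ (Nat.sub_le _ _)

end Cfsg.Agent.N2.G2.Ev
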