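import Cfsg.Agent.N2.G2.Crit
import Cfsg.Agent.N2.Cl.RSp.Data
import Cfsg.Agent.N2.Cl.RX.El
import Cfsg.Agent.N2.Cl.RAlt.Dat
import Cfsg.Agent.H149.Sp.Base
import Cfsg.Agent.H934.OutB
import Cfsg.Agent.H382.JM.L52Gens
import Cfsg.Agent.TwoGenCore.IsoMEleven
import Cfsg.Agent.Omega.Quasithin.Row.AltTwelve
import Cfsg.Agent.Omega.Quasithin.Row.Psl
import Cfsg.Agent.Omega.Quasithin.Row.Psu
import Cfsg.Agent.EvenQT.Main
import Cfsg.Agent.CpQuot.Congr
import Cfsg.Agent.S0256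

/-!
# N2 (S3519), `G₂(q)` and `³D₄(q)` : finitely many socles (helper87)
-/

set_option autoImplicit false
set_option linter.unusedSectionVars false

namespace Cfsg.Agent.N2.G2

open Subgroup Cfsg Cfsg.Agent.FP3 Cfsg.Agent.N2C.N4 Cfsg.Agent.N2.Tg Cfsg.Agent.OrdDiv
open Cfsg.Agent.N2C

namespace Fn

theorem cy1_of_nz {N : Type} [Group N] [Finite N] {r M : ℕ} (hr : r.Prime) (hN : ¬ r ^ 2 ∣ Nat.card N) (h : Tg.Nz N r M) :
    Cy1 N r M := by
  obtain ⟨g, hg, h1⟩ := h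
  refine ⟨g, hg, fun y hy => ?_, h1⟩
  obtain ⟨x, hx⟩ := RX.syl_conj hr hN hg hy
  exact ⟨x⁻¹, by rw [inv_inv, ← hx]; exact mem_zpowers _⟩

theorem fu_of_cj {N : Type} [Group N] {r j : ℕ} (h : Cj N r j) (h1 : j % r ≠ 1 % r) (h2 : (j + 1) % r ≠ 0) : Fu N r :=
  h.elim fun _ k => fu_of_pow k.1 k.2 h1 h2

variable {p k q : ℕ} {T : Type} [Group T] [Finite T] [IsSimpleGroup T] {d : T → ℕ} {A S : Subgroup T}
  {Γ : Subgroup (MulAut T)} (h : Sh p k q T d)

include h

theorem no_cj {r j : ℕ} (hc : Cj S r j) (hr : r.Prime) (hp : p ≠ r) (h6 : j ^ 6 % r ≠ 1 % r) (h4 : j ^ 4 % r ≠ 1 % r) :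
    False := by
  obtain ⟨x, h1, h2⟩ := hc.map S.subtype S.subtype_injective
  exact h.no_aut h1 ((Nat.coprime_primes hr h.prime).2 hp.symm) h2 h6 fun _ => h4

theorem no_loc {g : Grp} (hg : OrdDiv.Real g S) (x : ℕ × ℕ × ℕ × ℕ) (hp : p ≠ x.1)
    (hx : x ∈ RSp.tL g ∧ x.2.2.2 ^ 6 % x.1 ≠ 1 % x.1 ∧ x.2.2.2 ^ 4 % x.1 ≠ 1 % x.1) : False :=
  no_cj h (RSp.locs hg x hx.1).cj (RSp.locs hg x hx.1).prime hp hx.2.1 hx.2.2

theorem no_rank {X : Type} [Group X] (e : Nonempty (S ≃* X)) (hp : p = 2) (hX : ¬ PRankLE 3 2 X) : False :=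
  hX (CpQuot.Congr.prankLE_of e.some (prank_sub (h.rk 3 Nat.prime_three (by decide) (by omega)) S))

theorem le_q : p ≤ q := by
  obtain ⟨f, h1, rfl⟩ := h.pw
  exact Nat.le_self_pow h1.ne' p

theorem le_pow {n a : ℕ} (ha : a ≤ q) (hn : n ≤ a ^ 8) : n ≤ q ^ (4 * (k + 1)) := by
  have h1 := h.par
  exact hn.trans ((Nat.pow_le_pow_left ha 8).trans (Nat.pow_le_pow_right (by omega) (by omega)))

theorem le_pow' {n a : ℕ} (ha : k = 1 → a ≤ q) (hn : n ≤ a ^ 8) (hn' : n ≤ 2 ^ 16) : n ≤ q ^ (4 * (k + 1)) := by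
  rcases h.par with ⟨h1, -⟩ | ⟨rfl, h1⟩
  · exact le_pow h (ha h1) hn
  · exact hn'.trans (Nat.pow_le_pow_left h1 16)

theorem two_cases (hp : p = 2) : q = 2 ∨ q = 4 ∨ 8 ≤ q := by
  obtain ⟨f, h1, rfl⟩ := h.pw
  subst hp
  obtain rfl | rfl | h2 : f = 1 ∨ f = 2 ∨ 3 ≤ f := by omega
  exacts [.inl rfl, .inr (.inl rfl), .inr (.inr (Nat.pow_le_pow_right two_pos h2))]

variable (C : Cx p A Γ) (hS : Sim A Γ S)

include C hS

theorem good_loc {g : Grp} (hg : OrdDiv.Real g S) (hs : IsSporadicGroup S) (x : ℕ × ℕ × ℕ × ℕ) (hp : p ≠ x.1)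
    (hx : x ∈ RSp.tL g ∧ x.1 ≠ 2 ∧ x.2.2.2 % x.1 ≠ 1 % x.1 ∧ (x.2.2.2 + 1) % x.1 ≠ 0 ∧ 20 ≤ x.2.1 * x.2.2.1)
    (hi : Nat.card S ≤ q ^ (4 * (k + 1)) ∨ (6 * tau k q) ^ 3 * Nat.card S ≤ (x.2.1 * x.2.2.1) ^ 3 * ord k q) : Good A := by
  have L := RSp.locs hg x hx.1
  have := hS.simple
  have hA : Nat.card (MulAut S) ∣ 2 * Nat.card S := by
    rw [← H934.OutB.card_out_mul _ hS.nonab]
    exact Nat.mul_dvd_mul_right (H149.Sp.card_out_dvd_two hs) _
  have h1 := (Nat.coprime_primes L.prime Nat.prime_two).2 hx.2.1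
  have h2 := cy1_of_nz L.prime L.sq L.nz
  have h3 := fu_of_cj L.cj hx.2.2.1 hx.2.2.2.1
  exact hi.elim (crit_cy' h C hS hA L.prime hx.2.1 hp.symm h1 h2 h3 hx.2.2.2.2)
    (crit_cy h C hS hA L.prime hx.2.1 hp.symm h1 h2 h3 (by have := hx.2.2.2.2; omega))

theorem good_alt {c r : ℕ} (e : Nonempty (S ≃* alternatingGroup (Fin c))) (hr : r.Prime) (hp : p ≠ r)
    (hx : 7 ≤ c ∧ 5 ≤ r ∧ r ≤ c ∧ c < 2 * r ∧ RAlt.okJ c r 2 = true ∧ 2 * 20 ≤ r * (r - 1) * (c - r).factorial)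
    (hi : c.factorial / 2 ≤ q ^ (4 * (k + 1))) : Good A := by
  obtain ⟨e⟩ := e
  obtain ⟨h1, h2, h3, h4, h5, h6⟩ := hx
  have h7 := RAlt.two_mul_card (c := c) (by omega)
  have h8 := Nat.card_congr e.toEquiv
  refine crit_cy' h C hS (o := 2) (M := 20) ?_ hr (by omega) hp.symm ((Nat.coprime_primes hr Nat.prime_two).2 (by omega))
    ((cy1_of_nz hr (fun k => RAlt.not_sq_dvd_factorial hr h4 (h7 ▸ k.mul_left 2)) (RAlt.nz hr (by omega) h3 h6)).congr e)
    (fu_of_cj ((RAlt.cj hr (by omega) h3 h5).congr e.symm) ?_ ?_) le_rfl (by rwa [h8, RAlt.card_alt (by omega)])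
  · rw [Nat.card_congr (MulAut.congr e).toEquiv, RAlt.card_aut (by omega), if_neg (by omega), h8, h7]
  · rw [Nat.mod_eq_of_lt (by omega), Nat.mod_eq_of_lt (by omega)]
    omega
  · rw [Nat.mod_eq_of_lt (by omega)]
    omega

theorem a8 (hp : p = 2) (e : Nonempty (S ≃* alternatingGroup (Fin 8))) : Good A :=
  good_alt h C hS e Nat.prime_seven (by omega) (by decide) (le_pow' h (a := 4)
    (fun h1 => by have := two_cases h hp; have := h.par; omega) (by decide) (by decide))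

theorem m11 (e : Spor.IsoM11 S) : Good A := by
  by_cases hp : p = 11
  · exact good_loc h C hS (g := .m11) e (.inl e) (5, 5, 4, 2) (by omega) (by decide) (.inl (le_pow h (hp ▸ le_q h) (by
      rw [table_spor _ (.m11, 7920) (by decide) e]; decide)))
  · exact (no_loc h (g := .m11) e (11, 11, 5, 3) hp (by decide)).elim

end Fn

open Fn in
/-- **[Fin]** -/
theorem boxFin : BoxSim pFin := by
  intro p k q T _ _ _ d A Γ h C S hS hP
  rcases hP with e | e | e | e | e | ⟨hp, ⟨F, _, _, hF, e | e | e⟩ | e | e | ⟨F, _, _, hF, e⟩ | ⟨F, _, _, hF, e⟩ | e | e | e |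
    e | e | e | e | e | e | e⟩
  · have h1 : Nat.factorial 7 / 2 ≤ q ^ (4 * (k + 1)) :=
      le_pow' h (a := 3) (fun h1 => by have := h.par; omega) (by decide) (by decide)
    by_cases hp : p = 7
    · exact good_alt h C hS e Nat.prime_five (by omega) (by decide) h1
    · exact good_alt h C hS e Nat.prime_seven hp (by decide) h1
  · exact m11 h C hS (TwoGenCore.IsoMEleven.isoM11 e)
  · by_cases hp : p = 11
    · exact good_loc h C hS (g := .j1) e (.inr <| .inr <| .inr <| .inr <| .inr <| .inl e) (7, 7, 6, 3) (by omega) (by decide)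
        (.inl (le_pow h (hp ▸ le_q h) (by rw [table_spor _ (.j1, 175560) (by decide) e]; decide)))
    · exact (no_loc h (g := .j1) e (11, 11, 10, 2) hp (by decide)).elim
  · by_cases hp : p = 11
    · exact good_loc h C hS (g := .m12) e (.inr <| .inl e) (5, 10, 4, 2) (by omega) (by decide)
        (.inl (le_pow h (hp ▸ le_q h) (by rw [table_spor _ (.m12, 95040) (by decide) e]; decide)))
    · exact (no_loc h (g := .m12) e (11, 11, 5, 3) hp (by decide)).elim
  · by_cases hp : p = 11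
    · exact (no_loc h (g := .on) e (31, 31, 15, 7) (by omega) (by decide)).elim
    · exact (no_loc h (g := .on) e (11, 11, 10, 2) hp (by decide)).elim
  · exact a8 h C hS hp ⟨e.some.trans (S0256.result hF).some⟩
  · obtain ⟨a, b, -, h1, h2, -, -, h3, -⟩ := H382.JM.L52Gens.exists_gens hF e.some
    have h4 : Nat.Prime 31 := by norm_num
    have := Fact.mk h4
    exact (no_cj h (j := 2) ⟨a, orderOf_eq_prime h1 h2, isConj_iff.2 ⟨b⁻¹, by rw [mul_assoc, inv_inv, h3]; group⟩⟩ h4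
      (by omega) (by decide) (by decide)).elim
  · exact (no_rank h e hp (Omega.SQK.Cls.psp le_rfl)).elim
  · exact a8 h C hS hp e
  · exact (no_rank h e hp Omega.Quasithin.Row.AltTwelve.not_rank_A9).elim
  · have := Fact.mk Nat.prime_three
    have : CharP F 3 := charP_of_card_eq_prime hF
    exact (no_rank h e hp (Omega.Quasithin.PslRow.not_prankLE (m := 3) (by rw [hF]; decide))).elim
  · have := Fact.mk Nat.prime_three
    have : CharP F 3 := charP_of_card_eq_prime_pow (f := 2) hF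
    exact (no_rank h e hp (Omega.Quasithin.PsuRow.not_prankLE (m := 2) hF
      (Ring.two_ne_zero (by rw [ringChar.eq F 3]; decide)) (by decide))).elim
  · exact m11 h C hS e
  · exact (no_loc h (g := .m22) e (11, 11, 5, 3) (by omega) (by decide)).elim
  · exact (no_loc h (g := .m23) e (11, 11, 5, 3) (by omega) (by decide)).elim
  · exact (no_loc h (g := .m24) e (11, 11, 10, 2) (by omega) (by decide)).elim
  · have h1 := table_spor _ (.j2, 604800) (by decide) e
    refine good_loc h C hS (g := .j2) e (.inr <| .inr <| .inr <| .inr <| .inr <| .inr <| .inl e) (7, 7, 6, 3) (by omega)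
      (by decide) ?_
    rw [h1]
    rcases two_cases h hp with rfl | rfl | h2
    · rcases h.par with ⟨-, h2⟩ | ⟨rfl, -⟩
      · omega
      · exact .inr (by decide +kernel)
    · rcases h.par with ⟨rfl, -⟩ | ⟨rfl, -⟩
      · exact .inr (by decide +kernel)
      · exact .inl (by decide +kernel)
    · exact .inl (le_pow h h2 (by decide))
  · exact (no_loc h (g := .j3) e (17, 17, 8, 2) (by omega) (by decide)).elim
  · exact (no_loc h (g := .j4) e (23, 23, 22, 5) (by omega) (by decide)).elim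
  · exact (no_loc h (g := .hs) e (11, 11, 5, 3) (by omega) (by decide)).elim
  · exact (no_loc h (g := .he) e (17, 17, 8, 2) (by omega) (by decide)).elim
  · exact (no_loc h (g := .ru) e (29, 29, 14, 4) (by omega) (by decide)).elim

end Cfsg.Agent.N2.G2
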