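import Cfsg.Agent.N2.G2.Defs

/-!
# N2-G2, odd local subgroups: numbers (helper55)
-/

set_option autoImplicit false

namespace Cfsg.Agent.N2.G2.LocO

theorem s2 (t : ℕ) : (t + 1) ^ 2 - 1 = t * (t + 2) := Nat.sub_eq_of_eq_add (by ring)

theorem s3 (t : ℕ) : (t + 1) ^ 3 - 1 = t * (t ^ 2 + 3 * t + 3) := Nat.sub_eq_of_eq_add (by ring)

theorem s6 (t : ℕ) : (t + 1) ^ 6 - 1 = t * (t + 2) * (t ^ 2 + 3 * t + 3) * (t ^ 2 + t + 1) := Nat.sub_eq_of_eq_add (by ring)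

theorem sm (t : ℕ) : (t + 1) ^ 2 - (t + 1) + 1 = t ^ 2 + t + 1 := by
  rw [show (t + 1) ^ 2 - (t + 1) = t ^ 2 + t from Nat.sub_eq_of_eq_add (by ring)]

theorem s4 (t : ℕ) : (t + 1) ^ 4 - (t + 1) ^ 2 + 1 = t ^ 4 + 4 * t ^ 3 + 5 * t ^ 2 + 2 * t + 1 := by
  rw [show (t + 1) ^ 4 - (t + 1) ^ 2 = t ^ 4 + 4 * t ^ 3 + 5 * t ^ 2 + 2 * t from Nat.sub_eq_of_eq_add (by ring)]

theorem sp (t : ℕ) : (t + 1) ^ 2 + (t + 1) + 1 = t ^ 2 + 3 * t + 3 := by ring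

theorem sc (t : ℕ) : (t + 1) ^ 3 + 1 = (t + 2) * (t ^ 2 + t + 1) := by ring

theorem tor1 {t n : ℕ} (h : Tor 1 (t + 1) n) :
    n = t ^ 2 ∨ n = (t + 2) ^ 2 ∨ n = t * (t + 2) ∨ n = t ^ 2 + 3 * t + 3 ∨ n = t ^ 2 + t + 1 := by
  simpa only [Tor, true_and, show (1 : ℕ) ≠ 3 by decide, false_and, or_false, s2, sm, sp, Nat.add_sub_cancel] using h

theorem tor3 {t n : ℕ} (h : Tor 3 (t + 1) n) :
    n = t * (t ^ 2 + 3 * t + 3) * t ∨ n = t * (t ^ 2 + 3 * t + 3) * (t + 2) ∨ n = (t + 2) * (t ^ 2 + t + 1) * t ∨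
      n = (t + 2) * (t ^ 2 + t + 1) * (t + 2) ∨ n = (t ^ 2 + 3 * t + 3) ^ 2 ∨ n = (t ^ 2 + t + 1) ^ 2 ∨
      n = t ^ 4 + 4 * t ^ 3 + 5 * t ^ 2 + 2 * t + 1 := by
  simpa only [Tor, true_and, show (3 : ℕ) ≠ 1 by decide, false_and, false_or, s3, s4, sc, sm, sp, Nat.add_sub_cancel] using h

theorem bd {t m n : ℕ} (h : Bd (t + 1) m n) :
    ((m = t ∨ m = t + 2) ∧ n = (t + 1) ^ 3 * (t * (t + 2) * (t ^ 2 + 3 * t + 3) * (t ^ 2 + t + 1))) ∨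
      (m = t ^ 2 + 3 * t + 3 ∧ n = (t + 1) ^ 3 * (t * (t + 2)) * (t * (t ^ 2 + 3 * t + 3))) ∨
      (m = t ^ 2 + t + 1 ∧ n = (t + 1) ^ 3 * (t * (t + 2)) * ((t + 2) * (t ^ 2 + t + 1))) := by
  simpa only [Bd, s2, s3, s6, sc, sm, sp, Nat.add_sub_cancel] using h

theorem tor_le {k t n : ℕ} (h : Tor k (t + 1) n) : n ≤ tau k (t + 1) := by
  obtain rfl | rfl : k = 1 ∨ k = 3 := h.imp And.left And.left
  · rcases tor1 h with rfl | rfl | rfl | rfl | rfl <;> simp only [tau, if_true] <;> ring_nf <;> omega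
  · rcases tor3 h with rfl | rfl | rfl | rfl | rfl | rfl | rfl <;> simp only [tau, show (3 : ℕ) ≠ 1 by decide, if_false] <;>
      ring_nf <;> omega

theorem tau_cm (u : ℕ) : tau 3 (u + 1 + 1) ≤ cm 3 (u + 1 + 1) := by
  simp only [tau, cm, s2, show (3 : ℕ) ≠ 1 by decide, if_false]; ring_nf; omega

theorem reg1 (u : ℕ) : tau 1 (u + 2 + 1) ^ 3 * (ww 1 * tau 1 (u + 2 + 1)) ≤ ord 1 (u + 2 + 1) := by
  simp only [tau, ww, ord, s2, s6, if_true]; ring_nf; omega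

theorem reg3 (u : ℕ) : tau 3 (u + 1 + 1) ^ 3 * (ww 3 * tau 3 (u + 1 + 1)) ≤ ord 3 (u + 1 + 1) := by
  simp only [tau, ww, ord, s2, s6, show (3 : ℕ) ≠ 1 by decide, if_false]; ring_nf; omega

theorem mild1 (u : ℕ) : tau 1 (u + 2 + 1) ^ 3 * (2 * cm 1 (u + 2 + 1)) ≤ ord 1 (u + 2 + 1) := by
  simp only [tau, cm, ord, s2, s6, if_true]; ring_nf; omega

theorem mild3 (u : ℕ) : cm 3 (u + 1 + 1) ^ 3 * (2 * cm 3 (u + 1 + 1)) ≤ ord 3 (u + 1 + 1) := by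
  simp only [cm, ord, s2, s6, show (3 : ℕ) ≠ 1 by decide, if_false]; ring_nf; omega

theorem sq1 (u : ℕ) : cm 1 (u + 2 + 1) ^ 3 * tau 1 (u + 2 + 1) ≤ 4 * ord 1 (u + 2 + 1) := by
  simp only [tau, cm, ord, s2, s6, if_true]; ring_nf; omega

theorem sq3 (u : ℕ) : cm 3 (u + 1 + 1) ^ 3 * (ww 3 * tau 3 (u + 1 + 1)) ≤ ord 3 (u + 1 + 1) := by
  simp only [tau, cm, ww, ord, s2, s6, show (3 : ℕ) ≠ 1 by decide, if_false]; ring_nf; omega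

theorem bad3 {u m n : ℕ} (h : Bd (u + 1 + 1) m n) : cm 3 (u + 1 + 1) ^ 3 * (m * n) ≤ 4 * ord 3 (u + 1 + 1) := by
  have h1 : m * n ≤ (u + 3) * ((u + 2) ^ 3 * ((u + 1 + 1) ^ 6 - 1)) := by
    rw [s6]
    rcases bd h with ⟨rfl | rfl, rfl⟩ | ⟨rfl, rfl⟩ | ⟨rfl, rfl⟩ <;> ring_nf <;> omega
  refine (Nat.mul_le_mul_left _ h1).trans ?_
  simp only [cm, ord, s2, s6, show (3 : ℕ) ≠ 1 by decide, if_false]; ring_nf; omega

theorem cm_lt (u : ℕ) : tau 1 (u + 2 + 1) ≤ cm 1 (u + 2 + 1) ∧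
    cm 1 (u + 2 + 1) < (u + 2 + 1) ^ 3 * ((u + 2 + 1) ^ 2 - 1) * ((u + 2 + 1) ^ 3 - 1) := by
  simp only [tau, cm, s2, s3, if_true]; ring_nf; omega

/-- the two cyclotomic values -/
def Hi (t h : ℕ) : Prop := h = t ^ 2 + 3 * t + 3 ∨ h = t ^ 2 + t + 1

theorem lin {l a b : ℕ} (c : ℕ) (u v : ℤ) (ha : l ∣ a) (hb : l ∣ b) (h : (c : ℤ) = u * a + v * b) : l ∣ c := by
  rw [← Int.natCast_dvd_natCast] at *
  exact h ▸ (ha.mul_left u).add (hb.mul_left v)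

variable {t h l : ℕ}

theorem Hi.lo (H : Hi t h) (h1 : l ∣ h) (h2 : l ∣ t) : l ∣ 3 := by
  rcases H with rfl | rfl
  · exact lin 3 1 (-(t + 3)) h1 h2 (by push_cast; ring)
  · exact lin 3 3 (-3 * (t + 1)) h1 h2 (by push_cast; ring)

theorem Hi.mid (H : Hi t h) (h1 : l ∣ h) (h2 : l ∣ t + 1) : l ∣ 1 := by
  rcases H with rfl | rfl
  · exact lin 1 1 (-(t + 2)) h1 h2 (by push_cast; ring)
  · exact lin 1 1 (-t) h1 h2 (by push_cast; ring)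

theorem Hi.up (H : Hi t h) (h1 : l ∣ h) (h2 : l ∣ t + 2) : l ∣ 3 := by
  rcases H with rfl | rfl
  · exact lin 3 3 (-3 * (t + 1)) h1 h2 (by push_cast; ring)
  · exact lin 3 1 (-(t - 1)) h1 h2 (by push_cast; ring)

theorem Hi.odd (H : Hi t h) : ¬ 2 ∣ h := by
  obtain ⟨a, rfl | rfl⟩ := Nat.even_or_odd' t <;> rcases H with rfl | rfl <;> ring_nf <;> omega

theorem Hi.nine (H : Hi t h) : ¬ 9 ∣ h := by
  obtain ⟨a, b, hb, rfl⟩ : ∃ a b, b < 9 ∧ t = 9 * a + b := ⟨t / 9, t % 9, by omega, by omega⟩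
  rcases H with rfl | rfl <;> interval_cases b <;> ring_nf <;> omega

theorem both (h1 : l ∣ t ^ 2 + 3 * t + 3) (h2 : l ∣ t ^ 2 + t + 1) : l = 1 := by
  have h3 : l ∣ 2 * (t + 1) := lin _ 1 (-1) h1 h2 (by push_cast; ring)
  have h4 : l ∣ 2 := lin 2 2 (-t) h2 h3 (by push_cast; ring)
  rcases (Nat.dvd_prime Nat.prime_two).1 h4 with h | rfl
  · exact h
  · exact (Hi.odd (.inr rfl) h2).elim

theorem Hi.big (H : Hi t h) (ht : 1 ≤ t) (h3 : h ≠ 3) : ∃ l, l.Prime ∧ 5 ≤ l ∧ l ∣ h := by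
  have h1 : h ≠ 1 := by rcases H with rfl | rfl <;> omega
  have k : ∀ c, c ≠ 1 → c ∣ h → ¬ 3 ∣ c → ∃ l, l.Prime ∧ 5 ≤ l ∧ l ∣ h := fun c c1 c2 c3 =>
    ⟨c.minFac, Nat.minFac_prime c1, (Nat.minFac_prime c1).five_le_of_ne_two_of_ne_three
      (fun e => H.odd (e ▸ c.minFac_dvd.trans c2)) (fun e => c3 (e ▸ c.minFac_dvd)), c.minFac_dvd.trans c2⟩
  by_cases h4 : 3 ∣ h
  · obtain ⟨c, rfl⟩ := h4
    have := H.nine
    exact k c (by omega) (Dvd.intro_left _ rfl) (by omega)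
  · exact k h h1 dvd_rfl h4

theorem not_dvd3 (hl : 5 ≤ l) : ¬ l ∣ 3 := fun h => by have := Nat.le_of_dvd (by decide) h; omega

theorem Hi.bd (H : Hi t h) (hl : 5 ≤ l) (h1 : l ∣ h) {m n : ℕ} (B : Bd (t + 1) m n) (h2 : l ∣ m) :
    m = h ∧ ∀ m' n', Bd (t + 1) m' n' → l ∣ m' → m' * n' = m * n := by
  have k : ∀ {m n : ℕ}, Bd (t + 1) m n → l ∣ m →
      (h = t ^ 2 + 3 * t + 3 ∧ m = h ∧ n = (t + 1) ^ 3 * (t * (t + 2)) * (t * (t ^ 2 + 3 * t + 3))) ∨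
      (h = t ^ 2 + t + 1 ∧ m = h ∧ n = (t + 1) ^ 3 * (t * (t + 2)) * ((t + 2) * (t ^ 2 + t + 1))) := fun B h2 => by
    rcases LocO.bd B with ⟨rfl | rfl, -⟩ | ⟨rfl, rfl⟩ | ⟨rfl, rfl⟩
    · exact (not_dvd3 hl (H.lo h1 h2)).elim
    · exact (not_dvd3 hl (H.up h1 h2)).elim
    · rcases H with rfl | rfl
      · exact .inl ⟨rfl, rfl, rfl⟩
      · have := both h2 h1; omega
    · rcases H with rfl | rfl
      · have := both h1 h2; omega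
      · exact .inr ⟨rfl, rfl, rfl⟩
  refine ⟨by rcases k B h2 with h | h <;> exact h.2.1, fun m' n' B' h3 => ?_⟩
  rcases k B h2 with ⟨a1, a2, a3⟩ | ⟨a1, a2, a3⟩ <;> rcases k B' h3 with ⟨b1, b2, b3⟩ | ⟨b1, b2, b3⟩
  · rw [a2, a3, b2, b3]
  · omega
  · omega
  · rw [a2, a3, b2, b3]

theorem bd_dvd {m n : ℕ} (B : Bd (t + 1) m n) : t + 1 ∣ n := by
  rcases bd B with ⟨-, rfl⟩ | ⟨-, rfl⟩ | ⟨-, rfl⟩
  · exact (dvd_pow_self _ (by decide)).mul_right _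
  · exact ((dvd_pow_self _ (by decide)).mul_right _).mul_right _
  · exact ((dvd_pow_self _ (by decide)).mul_right _).mul_right _

end Cfsg.Agent.N2.G2.LocO
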