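import Cfsg.Agent.N2.G2.L2D
import Cfsg.Agent.N2.G2.LocOA
import Cfsg.Agent.N2.G2.LocON
import Cfsg.Agent.N2.D4m.Dat
import Cfsg.Agent.N2.L2.Main
import Cfsg.Agent.S0812
import Cfsg.Agent.S2602
import Cfsg.Agent.ClassicalGeometry.PSLTorus
import Cfsg.Agent.Lib.Zsigmondy

/-!
# N2-G2, `G₂(q)` with the socle `L₂(n)` in the defining characteristic (helper55)
-/

set_option autoImplicit false
set_option linter.unusedSectionVars false

namespace Cfsg.Agent.N2.G2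

open Subgroup Cfsg Cfsg.Agent.FP3 Cfsg.Agent.N2C.N4
open Cfsg.Agent.SB.Low (EA Nz Cz)

namespace K1o

theorem cy1_dih {X : Type} [Group X] [Finite X] {H : Subgroup X} {m c l j : ℕ} (e : H ≃* DihedralGroup m) (hl : l.Prime)
    (h1 : l ^ j ∣ m) (h2 : Nat.card X = m * c) (h3 : ¬ l ∣ c) : Cy1 X (l ^ j) (2 * m) := by
  have := Fact.mk hl
  have h0 : m ≠ 0 := fun h => (Nat.card_pos (α := X)).ne' (by rw [h2, h, zero_mul])
  let v : X := e.symm (.r 1)
  have hv : orderOf v = m := by rw [orderOf_coe, MulEquiv.orderOf_eq, DihedralGroup.orderOf_r_one]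
  have hH : H ≤ Nz (zpowers v) := fun g hg => LocO.mem_nz (by
    have h4 : ∀ s : DihedralGroup m, s * .r 1 * s⁻¹ ∈ zpowers (.r 1 : DihedralGroup m) := by
      rintro (i | i)
      · simp
      · simpa using inv_mem (mem_zpowers (.r 1 : DihedralGroup m))
    obtain ⟨z, hz⟩ := h4 (e ⟨g, hg⟩)
    have h5 := congrArg (fun s => (e.symm s : X)) hz
    simp only [map_zpow, map_mul, map_inv, MulEquiv.symm_apply_apply, coe_zpow, coe_mul, coe_inv] at h5
    exact ⟨z, h5⟩)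
  have hV : IsCyclic (zpowers v) := inferInstance
  have hx : orderOf (v ^ (m / l ^ j)) = l ^ j := hv ▸ orderOf_pow_orderOf_div (hv ▸ h0) (hv ▸ h1)
  have hx' : v ^ (m / l ^ j) ∈ zpowers v := pow_mem (mem_zpowers v) _
  have hi : (zpowers v).index = c := Nat.eq_of_mul_eq_mul_left (Nat.pos_of_ne_zero h0) (by
    rw [← h2, ← (zpowers v).card_mul_index, Nat.card_zpowers, hv])
  obtain ⟨P⟩ : Nonempty (Sylow l (zpowers v)) := inferInstance
  let Q : Sylow l X := (P.isPGroup'.map (zpowers v).subtype).toSylow (by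
    rw [index_map_subtype, hi]
    exact fun k => (hl.dvd_mul.1 k).elim P.not_dvd_index h3)
  refine ⟨_, hx, fun y hy => ?_, le_trans ?_ (card_le_of_le (hH.trans fun n hn => mem_normalizer_fintype fun y hy => ?_))⟩
  · obtain ⟨R, hR⟩ := (IsPGroup.of_card (G := zpowers y) (n := j) (by rw [Nat.card_zpowers, hy])).exists_le_sylow
    obtain ⟨c, hc⟩ := MulAction.exists_smul_eq X R Q
    have h4 : c * y * c⁻¹ ∈ (Q : Subgroup X) := by
      rw [← hc, Sylow.coe_subgroup_smul]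
      exact smul_mem_pointwise_smul y (MulAut.conj c) _ (hR (mem_zpowers y))
    refine ⟨c⁻¹, mem_zpowers_of_cyc hV hx' (by simpa using map_subtype_le _ h4) ?_⟩
    rw [inv_inv, conj_pow, hx, ← hy, pow_orderOf_eq_one, mul_one, mul_inv_cancel]
  · rw [Nat.card_congr e.toEquiv, DihedralGroup.nat_card]
  · refine mem_zpowers_of_cyc hV hx' ((mem_normalizer_iff.1 hn y).1 (zpowers_le.2 hx' hy)) ?_
    rw [conj_pow, orderOf_dvd_iff_pow_eq_one.1 (orderOf_dvd_of_mem_zpowers hy), mul_one, mul_inv_cancel]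

theorem num (u : ℕ) : cm 1 (u + 2 + 1) ^ 3 * (u + 2 + 1) ^ 2 ≤ 2 * ord 1 (u + 2 + 1) ∧
    ww 1 * tau 1 (u + 2 + 1) ≤ 2 * cm 1 (u + 2 + 1) := by
  simp only [tau, cm, ww, ord, LocO.s2, LocO.s6, if_true]; ring_nf; omega

theorem aut_dvd {F : Type} [Field F] [Fintype F] {p a : ℕ} (hp : p.Prime) (ha : 1 ≤ a) (hF : Fintype.card F = p ^ a)
    (h4 : 4 ≤ p ^ a) : Nat.card (MulAut (PSL 2 F)) ∣ Nat.gcd 2 (p ^ a - 1) * a * Nat.card (PSL 2 F) := by
  have := Fact.mk hp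
  obtain ⟨φ, h1, -, h2⟩ := S2602.result ha hF h4
  have h3 := φ.ker.card_mul_index
  rw [index_ker, MonoidHom.range_eq_top.2 h1, card_top, h2, Nat.card_congr Multiplicative.toAdd, Nat.card_zmod] at h3
  exact h3 ▸ aut_dvd_out _

variable {p q : ℕ} {T : Type} [Group T] [Finite T] [IsSimpleGroup T] {d : T → ℕ} {A S : Subgroup T} {Γ : Subgroup (MulAut T)}

theorem crit (h : Sh p 1 q T d) (C : Cx p A Γ) (hS : Sim A Γ S) {X : Type} [Group X] [Finite X] (e : S ≃* X) {H : Subgroup X}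
    {m c l j o : ℕ} (e' : H ≃* DihedralGroup m) (hl : l.Prime) (h1 : l ^ j ∣ m) (h2 : Nat.card X = m * c) (h3 : ¬ l ∣ c)
    (ho : Nat.card (MulAut X) ∣ o * Nat.card X) (h4 : ¬ l ∣ o) (hp : l ≠ p) (h5 : 4 ≤ l ^ j) (h6 : 2 * c ≤ m ^ 2 * q ^ 2) :
    Good A := by
  obtain ⟨u, rfl⟩ : ∃ u, q = u + 2 + 1 := ⟨q - 3, by have := h.par; omega⟩
  have h0 : 0 < m := Nat.pos_of_ne_zero fun k => (Nat.card_pos (α := X)).ne' (by rw [h2, k, zero_mul])
  refine hS.good C (o := o) (c := 2 * cm 1 (u + 2 + 1))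
    (by rwa [Nat.card_congr (MulAut.congr e).toEquiv, Nat.card_congr e.toEquiv]) ((hl.coprime_iff_not_dvd.2 h4).pow_left j)
    ((cy1_dih e' hl h1 h2 h3).congr e) (by omega) (fun x _ hx => ?_) ?_
  · have hc : (orderOf x).Coprime p := hx ▸ ((Nat.coprime_primes hl h.prime).2 hp).pow_left j
    have k : ∀ n, 0 < n → x ^ n = 1 → 4 ≤ n := fun n hn k => h5.trans (hx ▸ orderOf_le_of_pow_eq_one hn k)
    have h7 : x ≠ 1 := fun k' => by have := k 1 one_pos (by rw [k', one_pow]); omega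
    refine (h.norm_cm hc h7 ?_).trans (max_le le_rfl (num u).2)
    rcases h.cls x hc h7 with k' | k' | ⟨-, k'⟩ | ⟨-, k'⟩
    · omega
    · omega
    · have := k 3 (by decide) (k' rfl); omega
    · have := k 2 (by decide) k'; omega
  · rw [Nat.card_congr e.toEquiv, h2, h.card]
    refine Nat.le_of_mul_le_mul_left ?_ two_pos
    calc 2 * ((2 * cm 1 (u + 2 + 1)) ^ 3 * (m * c)) = 8 * m * cm 1 (u + 2 + 1) ^ 3 * (2 * c) := by ring
      _ ≤ 8 * m * cm 1 (u + 2 + 1) ^ 3 * (m ^ 2 * (u + 2 + 1) ^ 2) := Nat.mul_le_mul_left _ h6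
      _ = 8 * m ^ 3 * (cm 1 (u + 2 + 1) ^ 3 * (u + 2 + 1) ^ 2) := by ring
      _ ≤ 8 * m ^ 3 * (2 * ord 1 (u + 2 + 1)) := Nat.mul_le_mul_left _ (num u).1
      _ = _ := by ring

theorem exists_pp {m : ℕ} (ho : ¬ 2 ∣ m) (h5 : 5 ≤ m) : ∃ l j, l.Prime ∧ 0 < j ∧ l ^ j ∣ m ∧ 4 ≤ l ^ j := by
  by_cases h : ∃ l, l.Prime ∧ l ∣ m ∧ l ≠ 3
  · obtain ⟨l, hl, h1, h2⟩ := h
    have := hl.five_le_of_ne_two_of_ne_three (fun e => ho (e ▸ h1)) h2
    exact ⟨l, 1, hl, one_pos, by rwa [pow_one], by rw [pow_one]; omega⟩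
  · have h3 := Nat.eq_prime_pow_of_unique_prime_dvd (n := m) (p := 3) (by omega) fun {c} c1 c2 =>
      not_not.1 fun c3 => h ⟨c, c1, c2, c3⟩
    generalize m.primeFactorsList.length = j at h3
    exact ⟨3, j, Nat.prime_three, Nat.pos_of_ne_zero fun e => by rw [e] at h3; omega, h3.symm.dvd, by omega⟩

end K1o

open K1o in
/-- **`G₂(q)`, socle `L₂(n)`** -/
theorem boxK1o : BoxK1o := by
  rintro p k q T _ _ _ d A Γ h C rfl S hS ⟨F, _, _, ⟨h1, h2⟩, ⟨e⟩⟩
  have hp := h.prime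
  obtain ⟨p', a, hp', ha, hF⟩ := (isPrimePow_nat_iff _).1 (FiniteField.isPrimePow_card F)
  obtain rfl : p = p' := (Nat.prime_dvd_prime_iff_eq hp hp').1 (hp.dvd_of_dvd_pow (hF ▸ h1))
  have ho := aut_dvd hp ha hF.symm (by omega)
  have hc := L2.card_T F
  obtain ⟨-, H, -, -, -, -, ⟨e1⟩, -⟩ := ClassicalGeometry.PSLTorus.exists_psl_torus F
  obtain ⟨e2⟩ := S0812.nonempty_mulEquiv_pmono (F := F) rfl
  have hq : 3 ≤ q := by have := h.par; omega
  rw [hF] at ho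
  obtain ⟨g, hg, g1, m, g2⟩ : ∃ g, Nat.gcd 2 (Fintype.card F - 1) = g ∧ (g = 1 ∨ g = 2) ∧ ∃ m, Fintype.card F + 1 = g * m := by
    refine ⟨_, rfl, (Nat.dvd_prime Nat.prime_two).1 (Nat.gcd_dvd_left _ _), ?_⟩
    rw [show Fintype.card F + 1 = 2 + (Fintype.card F - 1) by omega]
    exact dvd_add (Nat.gcd_dvd_left _ _) (Nat.gcd_dvd_right _ _)
  have g0 : 0 < g := by omega
  rw [hg] at ho hc e1 e2
  rw [g2, Nat.mul_div_cancel_left _ g0] at e1
  have c1 : Nat.card (PSL 2 F) = m * (Fintype.card F * (Fintype.card F - 1)) :=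
    Nat.eq_of_mul_eq_mul_right g0 (hc.trans (by rw [g2]; ring))
  generalize Fintype.card F = n at *
  by_cases h3 : a = 1
  · subst h3
    rw [pow_one] at hF
    subst hF
    obtain ⟨s, rfl⟩ := hp.odd_of_ne_two (by omega)
    obtain rfl : g = 2 := by rw [← hg, Nat.add_sub_cancel]; exact Nat.gcd_eq_left (Dvd.intro _ rfl)
    obtain rfl : m = s + 1 := by omega
    rw [Nat.add_sub_cancel] at c1 e2
    rw [Nat.mul_div_cancel_left _ g0] at e2
    have hq' : 2 * s + 1 ≤ q := by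
      obtain ⟨f, hf, rfl⟩ := h.pw
      exact Nat.le_self_pow hf.ne' _
    have k : ∀ {H : Subgroup (PSL 2 F)} {m m' : ℕ}, (H ≃* DihedralGroup m) → ¬ 2 ∣ m → (m = s ∧ m' = s + 1 ∨ m = s + 1 ∧ m' = s) →
        Good A := fun {H m m'} e' h4 h5 => by
      obtain ⟨l, j, hl, hj, h6, h7⟩ := exists_pp h4 (by omega)
      have h8 : l ∣ m := (dvd_pow_self l hj.ne').trans h6
      have h9 := Nat.le_of_dvd (by omega) h8
      have n2 : ¬ l ∣ 2 := fun k => h4 ((Nat.prime_dvd_prime_iff_eq hl Nat.prime_two).1 k ▸ h8)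
      refine crit h C hS e e' hl h6 (c := (2 * s + 1) * (2 * m')) (by rcases h5 with ⟨rfl, rfl⟩ | ⟨rfl, rfl⟩ <;> rw [c1] <;> ring)
        (fun k => ?_) ho n2 (by omega) h7 ?_
      · rcases hl.dvd_mul.1 k with k | k
        · have := (Nat.prime_dvd_prime_iff_eq hl hp).1 k; omega
        · refine hl.ne_one (Nat.dvd_one.1 ?_)
          have k' := (hl.dvd_mul.1 k).resolve_left n2
          rcases h5 with ⟨rfl, rfl⟩ | ⟨rfl, rfl⟩
          · exact (Nat.dvd_add_right h8).1 k'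
          · exact (Nat.dvd_add_right k').1 h8
      · calc 2 * ((2 * s + 1) * (2 * m')) ≤ 2 * (q * (2 * (m + 1))) := by gcongr; omega
          _ = (m + 1) * 4 * q := by ring
          _ ≤ m ^ 2 * q * q := Nat.mul_le_mul_right _ (Nat.mul_le_mul (by nlinarith [show 5 ≤ m by omega]) (by omega))
          _ = _ := by ring
    by_cases h4 : 2 ∣ s
    · exact k e1 (by omega) (.inr ⟨rfl, rfl⟩)
    · exact k e2 h4 (.inl ⟨rfl, rfl⟩)
  · obtain ⟨r, hr, r1, r2, r3⟩ := Lib.Zsigmondy.exists_primitive (a := p) (n := 2 * a) hp.two_le (by omega) (by omega) (by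
      rintro ⟨rfl, k⟩
      obtain rfl : a = 3 := by omega
      omega)
    have r4 := Nat.le_of_dvd (by have := hr.two_le; omega) r2
    have r5 : ¬ r ∣ n - 1 := fun k => by
      have := Nat.le_of_dvd ha ((r1 a).1 (hF ▸ k))
      omega
    have r6 : ¬ r ∣ g := fun k => by have := Nat.le_of_dvd g0 k; omega
    have r7 : r ∣ m := by
      have k := (r1 _).2 dvd_rfl
      rw [mul_comm, pow_mul, hF, ← one_pow 2, Nat.sq_sub_sq, g2] at k
      exact (hr.dvd_mul.1 ((hr.dvd_mul.1 k).resolve_right r5)).resolve_left r6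
    refine crit h C hS e e1 hr (j := 1) (by rwa [pow_one]) c1 (fun k => (hr.dvd_mul.1 k).elim
      (fun k => r3 (hr.dvd_of_dvd_pow (hF ▸ k))) r5) ho (fun k => (hr.dvd_mul.1 k).elim r6 fun k => ?_)
      (fun k => r3 (k ▸ dvd_rfl)) (by rw [pow_one]; omega) ?_
    · have := Nat.le_of_dvd ha k; omega
    · calc 2 * (n * (n - 1)) ≤ 2 * ((2 * m) * (2 * m)) := by gcongr <;> rcases g1 with rfl | rfl <;> omega
        _ = m ^ 2 * 8 := by ring
        _ ≤ _ := Nat.mul_le_mul_left _ (by nlinarith)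

end Cfsg.Agent.N2.G2
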