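import Cfsg.Agent.N2.G2.L2D
import Cfsg.Agent.N2.D4m.Dat
import Cfsg.Agent.S0802
import Cfsg.Agent.H781.Cov9.Res
import Cfsg.Agent.SmallSimple.S1000.PSLFacts
import Cfsg.Agent.ClassicalGeometry.PSLTorus

/-!
# N2, `G₂(q)`: the socles `A₅`, `A₆`, `L₂(8)`, `L₂(7)` (helper67)
-/

set_option autoImplicit false
set_option linter.unusedSectionVars false

namespace Cfsg.Agent.N2.G2

open Subgroup Cfsg Cfsg.Agent.FP3 Cfsg.Agent.N2C.N4
open Cfsg.Agent.SB.Low (EA Nz Cz)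

namespace K1s

theorem num_c {q : ℕ} (h : 3 ≤ q) : cm 1 q ^ 3 * q ^ 2 ≤ 2 * ord 1 q := by
  obtain ⟨a, rfl⟩ := Nat.exists_eq_add_of_le' h
  zify
  rw [ordZ1 (by omega), cmZ1 (by omega), ← sub_nonneg]; push_cast; ring_nf; positivity

theorem num_w {q : ℕ} (h : 3 ≤ q) : ww 1 * tau 1 q ≤ 2 * cm 1 q := by
  obtain ⟨a, rfl⟩ := Nat.exists_eq_add_of_le' h
  zify
  rw [tauZ1, cmZ1 (by omega), ww1, ← sub_nonneg]; push_cast; ring_nf; positivity

/-! ### `3²: 4` in `A₆` -/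

def a6 : alternatingGroup (Fin 6) := ⟨Equiv.swap 0 1 * Equiv.swap 1 2, Equiv.Perm.mem_alternatingGroup.2 (by simp)⟩
def b6 : alternatingGroup (Fin 6) := ⟨Equiv.swap 3 4 * Equiv.swap 4 5, Equiv.Perm.mem_alternatingGroup.2 (by simp)⟩
def g6 : alternatingGroup (Fin 6) :=
  ⟨Equiv.swap 0 3 * Equiv.swap 1 4 * (Equiv.swap 4 2 * Equiv.swap 2 5), Equiv.Perm.mem_alternatingGroup.2 (by simp)⟩
def f6 (z : Fin 3 × Fin 3) : alternatingGroup (Fin 6) := a6 ^ z.1.val * b6 ^ z.2.val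

theorem f6_mul : ∀ z w, f6 z * f6 w = f6 (z + w) := by decide +kernel
theorem f6_inj : ∀ z w, f6 z = f6 w → z = w := by decide +kernel
theorem f6_g : ∀ z, f6 z ^ 3 = 1 ∧ (f6 z)⁻¹ = f6 (-z) ∧ g6 * f6 z * g6⁻¹ = f6 (-z.2, z.1) ∧
    (f6 z ≠ 1 → f6 (-z.2, z.1) ≠ 1 ∧ f6 (-z.2, z.1) ≠ f6 z ∧ f6 (-z.2, z.1) ≠ f6 z ^ 2) := by decide +kernel

def P6 : Subgroup (alternatingGroup (Fin 6)) where
  carrier := Set.range f6
  one_mem' := ⟨0, by decide +kernel⟩
  mul_mem' := by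
    rintro _ _ ⟨z, rfl⟩ ⟨w, rfl⟩
    exact ⟨_, (f6_mul z w).symm⟩
  inv_mem' := by
    rintro _ ⟨z, rfl⟩
    exact ⟨_, (f6_g z).2.1.symm⟩

theorem card_P6 : Nat.card P6 = 9 := (Nat.card_range_of_injective f6_inj).trans (by simp)

/-! ### `A₄` -/

def t4 : alternatingGroup (Fin 4) := ⟨Equiv.swap 0 1 * Equiv.swap 1 2, Equiv.Perm.mem_alternatingGroup.2 (by simp)⟩
def v4 : alternatingGroup (Fin 4) := ⟨Equiv.swap 0 1 * Equiv.swap 2 3, Equiv.Perm.mem_alternatingGroup.2 (by simp)⟩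

theorem tv4 : t4 ^ 3 = 1 ∧ t4 ≠ 1 ∧ v4 ^ 2 = 1 ∧ v4 * t4 ≠ t4 * v4 := by decide +kernel

theorem l2_a4 {F : Type} [Field F] [Fintype F] {r : ℕ} (hr : r.Prime) (h2 : r ≠ 2) (hF : Fintype.card F = r) :
    ∃ f : alternatingGroup (Fin 4) →* PSL 2 F, Function.Injective f := by
  have := Fact.mk hr
  have h1 : Fintype.card F = r ^ 1 := hF.trans (pow_one r).symm
  have := charP_of_card_eq_prime_pow h1
  obtain ⟨H, ⟨e⟩⟩ := (S0802.result r 1 h1).2 fun k => h2 k.1
  exact ⟨H.subtype.comp e.symm.toMonoidHom, H.subtype_injective.comp e.symm.injective⟩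

variable {p q : ℕ} {T : Type} [Group T] [Finite T] [IsSimpleGroup T] {d : T → ℕ} {A S : Subgroup T}
  {Γ : Subgroup (MulAut T)}

theorem a4 (h : Sh p 1 q T d) (hp : p ≠ 2) (f : alternatingGroup (Fin 4) →* T) (hf : Function.Injective f) :
    d (f t4) ≤ 6 := by
  have h4 : Nat.card (Fin 4) = 4 := by simp
  have h1 := alternatingGroup.kleinFour_isKleinFour h4
  have h2 := alternatingGroup.normal_kleinFour h4
  have h3 : v4 ∈ alternatingGroup.kleinFour (Fin 4) := by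
    obtain ⟨Q, hQ⟩ := (show IsPGroup 2 (zpowers v4) from
      IsPGroup.of_card_dvd_pow (n := 1) (by rw [Nat.card_zpowers]; exact orderOf_dvd_of_pow_eq_one tv4.2.2.1)).exists_le_sylow
    rw [← alternatingGroup.two_sylow_eq_kleinFour_of_card_eq_four h4 Q]
    exact hQ (mem_zpowers _)
  have h5 : Nat.card ((alternatingGroup.kleinFour (Fin 4)).map f) = 4 := (card_map_of_injective hf).trans h1.card_four
  refine h.b3 rfl hp _ ⟨Nat.prime_two, fun k => by simp [k] at h5, ?_, ?_⟩ h5 _ (le_normalizer_map f ⟨t4, ?_, rfl⟩)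
    ((orderOf_injective f hf _).trans (orderOf_eq_prime tv4.1 tv4.2.1)) fun k => tv4.2.2.2 (hf ?_)
  · rintro _ ⟨x, hx, rfl⟩
    rw [← map_pow, show x ^ 2 = 1 from congrArg Subtype.val (h1.exponent_two ▸ Monoid.pow_exponent_eq_one (⟨x, hx⟩ :
      alternatingGroup.kleinFour (Fin 4))), map_one]
  · rintro _ ⟨x, hx, rfl⟩ _ ⟨y, hy, rfl⟩
    rw [← map_mul, ← map_mul]
    exact congrArg f (congrArg Subtype.val (mul_comm_of_exponent_two h1.exponent_two ⟨x, hx⟩ ⟨y, hy⟩))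
  · rw [normalizer_eq_top]
    exact mem_top _
  · rw [map_mul, map_mul]
    exact k _ ⟨v4, h3, rfl⟩

theorem no_a6 (h : Sh p 1 q T d) (hp : p ≠ 3) (f : alternatingGroup (Fin 6) →* T) (hf : Function.Injective f) : False := by
  have h5 : Nat.card (P6.map f) = 9 := (card_map_of_injective hf).trans card_P6
  obtain ⟨_, ⟨_, ⟨z, rfl⟩, rfl⟩, h1, h2⟩ := h.g33 rfl hp (P6.map f) ⟨Nat.prime_three, fun k => by simp [k] at h5, by
    rintro _ ⟨_, ⟨z, rfl⟩, rfl⟩
    rw [← map_pow, (f6_g z).1, map_one], by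
    rintro _ ⟨_, ⟨z, rfl⟩, rfl⟩ _ ⟨_, ⟨w, rfl⟩, rfl⟩
    rw [← map_mul, ← map_mul, f6_mul, f6_mul, add_comm]⟩ h5
  obtain ⟨k1, -, k2, k3⟩ := f6_g z
  have h3 := h2 _ ⟨_, ⟨(-z.2, z.1), rfl⟩, rfl⟩ (by rw [← k2, map_mul, map_mul, map_inv, h.conj, h1])
  obtain ⟨k4, k5, k6⟩ := k3 fun k => by
    have k7 := h.unip 1 0 (one_pow _)
    rw [k, map_one] at h1
    rw [h1, pow_zero] at k7
    omega
  obtain ⟨n, hn⟩ := (mem_powers_iff_mem_zpowers.2 h3 : _ ∈ Submonoid.powers _)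
  have h4 : f6 z ^ (n % 3) = f6 (-z.2, z.1) := by
    rw [← pow_eq_pow_mod n k1]
    exact hf ((map_pow f _ n).trans hn)
  have h6 := Nat.mod_lt n three_pos
  generalize n % 3 = m at h4 h6
  interval_cases m
  exacts [k4 (h4.symm.trans (pow_zero _)), k5 (h4.symm.trans (pow_one _)), k6 h4.symm]

theorem d_le (h : Sh p 1 q T d) {x : T} (ho : (orderOf x).Coprime p) (h4 : 4 ≤ orderOf x) : d x ≤ 5 := by
  rcases h.cls x ho (by rintro rfl; simp at h4) with e | e | ⟨-, e⟩ | ⟨-, e⟩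
  · omega
  · omega
  · have := orderOf_le_of_pow_eq_one three_pos (e rfl)
    omega
  · have := orderOf_le_of_pow_eq_one two_pos e
    omega

theorem d_three (h : Sh p 1 q T d) (h2 : p ≠ 2) (h3 : p ≠ 3) {M : ℕ} (hc : Cy1 S 3 M) (f : alternatingGroup (Fin 4) →* S)
    (hf : Function.Injective f) : ∀ x ∈ S, orderOf x = 3 → d x ≤ 5 := by
  obtain ⟨z, h5, h6, -⟩ := hc
  have h7 : ∀ u : S, orderOf u = 3 → d u = d z := fun u hu => by
    obtain ⟨g, j, hg⟩ := h6 u hu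
    have h8 : ((g : T)⁻¹ * u * (g : T)⁻¹⁻¹) ∈ zpowers (z : T) := ⟨j, by rw [inv_inv]; exact congrArg Subtype.val hg⟩
    rw [← h.conj u (g : T)⁻¹]
    exact h.d_eq h8 (by rw [inv_inv, orderOf_cj, orderOf_coe, orderOf_coe, hu, h5])
  intro x hx ho
  have h8 : d x ≤ 6 := by
    rw [h7 ⟨x, hx⟩ (by rwa [orderOf_mk]), ← h7 _ ((orderOf_injective f hf _).trans (orderOf_eq_prime tv4.1 tv4.2.1))]
    exact a4 h h2 (S.subtype.comp f) (S.subtype_injective.comp hf)
  rcases h.cls x (ho ▸ (Nat.coprime_primes Nat.prime_three h.prime).2 h3.symm) (by rintro rfl; simp at ho) with e | e | e | e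
  · omega
  · omega
  · omega
  · have := orderOf_le_of_pow_eq_one two_pos e.2
    omega

theorem crit (h : Sh p 1 q T d) (C : Cx p A Γ) (hS : Sim A Γ S) {o r M n : ℕ} (hn : Nat.card S = n)
    (ho : Nat.card (MulAut S) = o * n) (hr : r.Prime) (hro : r.Coprime o) (hp : p ≠ r) (hc : Cy1 S r M) (hM : 0 < M)
    (hd : ∀ x ∈ S, orderOf x = r → d x ≤ 5) (hi : 16 * n ≤ M ^ 3 * q ^ 2) : Good A := by
  have hq : 3 ≤ q := by have := h.par; omega
  refine hS.good C (c := 2 * cm 1 q) (by rw [ho, hn]) hro hc hM (fun x hx e => (h.norm_cm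
    (e ▸ (Nat.coprime_primes hr h.prime).2 hp.symm) (by rintro rfl; exact hr.one_lt.ne (by simpa using e))
    (hd x hx e)).trans (max_le le_rfl (num_w hq))) (Nat.le_of_mul_le_mul_right ?_ (show 0 < q ^ 2 by positivity))
  rw [hn, h.card]
  calc _ = 8 * n * (cm 1 q ^ 3 * q ^ 2) := by ring
    _ ≤ 8 * n * (2 * ord 1 q) := Nat.mul_le_mul_left _ (num_c hq)
    _ = 16 * n * ord 1 q := by ring
    _ ≤ M ^ 3 * q ^ 2 * ord 1 q := Nat.mul_le_mul_right _ hi
    _ = _ := by ring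

theorem crit5 (h : Sh p 1 q T d) (C : Cx p A Γ) (hS : Sim A Γ S) {o r M n : ℕ} (hn : Nat.card S = n)
    (ho : Nat.card (MulAut S) = o * n) (hr : r.Prime) (hro : r.Coprime o) (hp : p ≠ r) (hc : Cy1 S r M) (hM : 0 < M)
    (h4 : 4 ≤ r) (hi : 16 * n ≤ M ^ 3 * 3 ^ 2) : Good A :=
  crit h C hS hn ho hr hro hp hc hM (fun _ _ e => d_le h (e ▸ (Nat.coprime_primes hr h.prime).2 hp.symm) (e ▸ h4))
    (hi.trans (Nat.mul_le_mul_left _ (Nat.pow_le_pow_left (by have := h.par; omega) 2)))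

theorem aut_eq {G : Type} [Group G] (e : S ≃* G) : Nat.card (MulAut S) = Nat.card (MulAut G) :=
  Nat.card_congr (MulAut.congr e).toEquiv

theorem cy {r n M : ℕ} (hr : r.Prime) (h1 : Nat.card S = r * n) (h2 : ¬ r ∣ n) (h0 : 0 < n)
    (h3 : ∀ d ≤ n, d ∣ n → d % r = 1 → M * d ≤ r * n) : Cy1 S r M :=
  cy1_of_prime hr h1 h2 fun d k => h3 d (Nat.le_of_dvd h0 k) k

theorem l28 (h : Sh 7 1 q T d) (C : Cx 7 A Γ) (hS : Sim A Γ S) {F : Type} [Field F] [Fintype F] (hF : Fintype.card F = 8)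
    (e : S ≃* PSL 2 F) (ho : Nat.card (MulAut S) = 1512) : Good A := by
  obtain ⟨U, -, -, -, h1, h2, -⟩ := ClassicalGeometry.PSLTorus.exists_psl_torus F
  obtain ⟨x, hx⟩ := IsCyclic.exists_ofOrder_eq_natCard (α := U)
  have h3 : orderOf ((e.symm x : S) : T) = 9 := by
    rw [orderOf_coe, MulEquiv.orderOf_eq, orderOf_coe, hx, h2, hF]
    rfl
  have h4 := hS.le (e.symm x).2
  generalize ((e.symm x : S) : T) = y at h3 h4
  have h5 : (orderOf y).Coprime 7 := by rw [h3]; norm_num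
  have h6 : y ≠ 1 := by rintro rfl; simp at h3
  have h7 := d_le h h5 (by omega)
  have h8 := (hS.card_le C).trans ho.le
  obtain ⟨f, hf, hq⟩ := h.pw
  have h9 : 7 ≤ q := hq ▸ Nat.le_self_pow hf.ne' 7
  rcases h.reg_or_mild h5 h6 h7 with k | k
  · exact h.good_reg h4 h5 k h8 ((Nat.mul_le_mul_left _ (le_trans (by norm_num) (Nat.pow_le_pow_left h9 6))).trans
      (num_tau1 (by omega)))
  · obtain ⟨m, k1, -, k2⟩ := h.mild y h5 k
    rw [← orderOf_dvd_iff_pow_eq_one, h3] at k2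
    have k3 : 343 ≤ q := by
      by_cases k4 : 3 ≤ f
      · exact hq ▸ Nat.pow_le_pow_right (n := 7) (by decide) k4
      · obtain rfl | rfl : f = 1 ∨ f = 2 := by omega
        all_goals subst hq; omega
    refine h.good_cm h4 h5 h6 h7 h8 (Nat.le_of_mul_le_mul_left (le_trans ?_ (num_c (q := q) (by omega))) two_pos)
    rw [mul_left_comm]
    exact Nat.mul_le_mul_left _ (le_trans (by norm_num) (Nat.pow_le_pow_left k3 2))

end K1s

open K1s in
/-- **box K1s** -/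
theorem boxK1s : BoxK1s := by
  rintro p _ q T _ _ _ d A Γ h C rfl S hS (⟨⟨e⟩⟩ | ⟨⟨e⟩⟩ | ⟨F, _, _, hF, ⟨e⟩⟩ | ⟨rfl, F, _, _, hF, ⟨e⟩⟩)
  · have := Fact.mk Nat.prime_five
    obtain ⟨e'⟩ := S0253.result (ZMod.card 5)
    have h1 : Nat.card S = 60 := by
      rw [Nat.card_congr e.toEquiv, nat_card_alternatingGroup, Nat.card_eq_fintype_card, Fintype.card_fin]
      rfl
    have h2 : Nat.card (MulAut S) = 2 * 60 := (aut_eq (e.trans e'.symm)).trans
      (H781.Cov9.card_mulAut_psl (f := 1) Nat.prime_five le_rfl (ZMod.card 5) (by decide))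
    by_cases hp : p = 5
    · obtain ⟨f, hf⟩ := l2_a4 Nat.prime_five (by decide) (ZMod.card 5)
      have h3 : Cy1 S 3 6 := cy (n := 20) Nat.prime_three h1 (by decide) (by decide) (by decide)
      exact crit h C hS h1 h2 Nat.prime_three (by decide) (by omega) h3 (by decide)
        (d_three h (by omega) (by omega) h3 ((e'.trans e.symm).toMonoidHom.comp f) ((e'.trans e.symm).injective.comp hf))
        (le_trans (by norm_num) (Nat.mul_le_mul_left _ (Nat.pow_le_pow_left (show 3 ≤ q by have := h.par; omega) 2)))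
    · exact crit5 (M := 10) h C hS h1 h2 Nat.prime_five (by decide) hp
        (cy (n := 12) Nat.prime_five h1 (by decide) (by decide) (by decide)) (by decide) (by decide) (by norm_num)
  · by_cases hp : p = 5
    · exact (no_a6 h (by omega) (S.subtype.comp e.symm.toMonoidHom) (S.subtype_injective.comp e.symm.injective)).elim
    · exact crit5 h C hS ((Nat.card_congr e.toEquiv).trans card_A6) (o := 4) ((aut_eq e).trans H824.ProdLem.card_aut_a6)
        Nat.prime_five (by decide) hp (datA6.cy.congr e) (by decide) (by decide) (by norm_num)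
  · have h1 := (Nat.card_congr e.toEquiv).trans (SmallSimple.PSLFacts.card_psl_two_eight hF)
    have h2 : Nat.card (MulAut S) = 3 * 504 := (aut_eq e).trans
      (H781.Cov9.card_mulAut_psl (f := 3) Nat.prime_two (by decide) hF (by decide))
    by_cases hp : p = 7
    · subst hp
      exact l28 h C hS hF e h2
    · exact crit5 (M := 14) h C hS h1 h2 (r := 7) (by decide) (by decide) hp
        (cy (n := 72) (by decide) h1 (by decide) (by decide) (by decide +kernel)) (by decide) (by decide) (by norm_num)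
  · have h1 := (Nat.card_congr e.toEquiv).trans (SmallSimple.PSLFacts.card_psl_two_seven hF)
    have h2 : Nat.card (MulAut S) = 2 * 168 := (aut_eq e).trans
      (H781.Cov9.card_mulAut_psl (p := 7) (f := 1) (by decide) le_rfl hF (by decide))
    obtain ⟨f, hf⟩ := l2_a4 (r := 7) (by decide) (by decide) hF
    have h3 : Cy1 S 3 6 := cy (n := 56) Nat.prime_three h1 (by decide) (by decide) (by decide +kernel)
    obtain ⟨a, ha, hq⟩ := h.pw
    exact crit h C hS h1 h2 Nat.prime_three (by decide) (by omega) h3 (by decide)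
      (d_three h (by omega) (by omega) h3 (e.symm.toMonoidHom.comp f) (e.symm.injective.comp hf))
      (le_trans (by norm_num) (Nat.mul_le_mul_left _ (Nat.pow_le_pow_left (show 7 ≤ q from hq ▸ Nat.le_self_pow ha.ne' 7) 2)))

end Cfsg.Agent.N2.G2
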