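import Cfsg.Agent.N2.G2.Defs
import Cfsg.Agent.TH.ExT.Mu
import Cfsg.Agent.H426.SL2Unrec
import Cfsg.Agent.SB.Low.Two
import Cfsg.Agent.H437.Iso.Untw
import Cfsg.Agent.S1059
import Cfsg.Agent.S1067
import Cfsg.Agent.S2376

/-!
# N2, `G₂(q)` and `³D₄(q)`: the box `L` (helper9)
-/

set_option autoImplicit false
set_option linter.unusedSectionVars false

namespace Cfsg.Agent.N2.G2

namespace LL

open Cfsg Subgroup

/-- `N ≅ SL₂(2^a)` -/
def IsSL (N : Type) [Group N] : Prop := ∃ (F : Type) (_ : Field F) (_ : Fintype F) (_ : CharP F 2),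
  Nonempty (N ≃* Matrix.SpecialLinearGroup (Fin 2) F)

theorem lie_of_sl {N : Type} [Group N] [Finite N] [IsSimpleGroup N] (hc : ¬ IsMulCommutative N) {F : Type*} [Field F]
    [CharP F 2] (g : N →* Matrix.SpecialLinearGroup (Fin 2) F) (hg : Function.Injective g) : IsSL N := by
  obtain ⟨F0, i1, i2, n, hn, h1, ⟨e0⟩⟩ := (S5748.result (G := N) hc).1 (S5748.CT.of_injective g hg S5748.SL_CT)
  have hch0 : CharP F0 2 := by
    obtain ⟨p, hp⟩ := CharP.exists F0
    obtain ⟨m, hpp, h2⟩ := FiniteField.card F0 p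
    have h3 : 2 ∣ p ^ (m : ℕ) := h2 ▸ h1 ▸ dvd_pow_self 2 (by omega)
    rwa [← (Nat.prime_dvd_prime_iff_eq Nat.prime_two hpp).1 (Nat.prime_two.dvd_of_dvd_pow h3)] at hp
  exact ⟨F0, i1, i2, hch0, ⟨e0.trans (H426.psl2EvenEquiv F0)⟩⟩

section rgd

open CoxeterSystem Cfsg.Agent.ChevalleyStructure.CoxeterGeom Cfsg.Agent.Tits.Roots Cfsg.Agent.Tits.Core
  Cfsg.Agent.Nodes.Reps Cfsg.Agent.Nodes.BNOf Cfsg.Agent.Nodes.Bruhat Cfsg.Agent.Nodes.LeviDec
  Cfsg.Agent.KFacts.RgdBorelTits Cfsg.Agent.KFacts.RgdFilt Cfsg.Agent.H1.RowExc Cfsg.Agent.H1.RgdRow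

variable {W : Type*} [Group W] {M : CoxeterMatrix (Fin 2)} {cs : CoxeterSystem M W} {A : Fin 2 → Fin 2 → ℤ}
  {h : IsCartan M A} {Y : Type} [Group Y] {T : Subgroup Y} {n : Fin 2 → Y} {X : (Fin 2 → ℤ) → Subgroup Y}
  {R : RGD cs h 2 T n X} {Φ : (Fin 2 → ℤ) → ℝ → Subgroup Y}

/-- **simple subgroups of `2`-local subgroups** -/
theorem of_norm [Finite W] [Finite Y] (hF : Filt R Φ) (hG : Nodes.RGDLib.G1 cs h X = ⊤)
    (hT : ∀ a ∈ T, ∀ b ∈ T, a * b = b * a)
    {F : Fin 2 → Type} [∀ i, Field (F i)] [∀ i, Fintype (F i)] [∀ i, CharP (F i) 2]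
    (φ : ∀ i, Matrix.SpecialLinearGroup (Fin 2) (F i) →* Y) (hφ : ∀ i, (φ i).range = X (sr i) ⊔ X (-sr i))
    {N : Type} [Group N] [IsSimpleGroup N] (hc : ¬ IsMulCommutative N) (f : N →* Y) (hf : Function.Injective f)
    {Q : Subgroup Y} (hQ : IsPGroup 2 Q) (hQ1 : Q ≠ ⊥) (hn : ∀ a, f a ∈ normalizer (Q : Set Y)) :
    IsSL N := by
  have : Fact (Nat.Prime 2) := ⟨Nat.prime_two⟩
  have := Finite.of_injective f hf
  have hns : ¬ Group.IsSolvable N := fun _ => hc ⟨⟨IsSimpleGroup.comm_iff_isSolvable.2 inferInstance⟩⟩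
  obtain ⟨g, J, hJ, -, hN⟩ := borel_tits_of_filt hF hG hQ hQ1
  obtain ⟨i, hi⟩ : ∃ i : Fin 2, J ⊆ {i} := by
    obtain ⟨j, hj⟩ : ∃ j, j ∉ J := not_forall.1 fun h1 => hJ (Set.eq_univ_of_forall h1)
    refine ⟨1 - j, fun k hk => ?_⟩
    have : k ≠ j := fun h => hj (h ▸ hk)
    fin_cases j <;> fin_cases k <;> first | rfl | exact absurd rfl this
  have h1 : ∀ a, ((MulAut.conj g⁻¹).toMonoidHom.comp f) a ∈ PJ cs h T X {i} := fun a => by
    have h2 := Nodes.Reps.mem_cj.1 (Nodes.Reps.cj_mono g (H851.SimsRgd.PJ_mono R hi) (hN (hn a)))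
    simpa using h2
  obtain ⟨π, h2, h3⟩ := H42.Deg.exists_proj (LJ_le_PJ (J := {i})) VJ_le_PJ
    (fun x hx y hy => (mem_normalizer_iff.1 (PJ_le_normalizer_VJ R {i} hx) y).1 hy)
    (fun x hx hx' => eq_one_of_mem_LJ_of_mem_VJ R hx hx') fun x hx => (mem_PJ R).1 hx
  set f' := ((MulAut.conj g⁻¹).toMonoidHom.comp f).codRestrict _ h1 with hf'
  have h4 : Function.Injective f' := fun a b e => hf ((MulAut.conj g⁻¹).injective (congrArg Subtype.val e))
  have h5 : Function.Injective (π.comp f') := by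
    rcases (inferInstance : (π.comp f').ker.Normal).eq_bot_or_eq_top with h5 | h5
    · exact (MonoidHom.ker_eq_bot_iff _).1 h5
    · have h6 : ∀ a, (f' a : Y) ∈ VJ cs h X {i} := fun a => by
        obtain ⟨l, hl, v, hv, h7⟩ := (mem_PJ R).1 (f' a).2
        have h8 : π (f' a) = 1 := h5.ge (mem_top a)
        rw [show f' a = ⟨l, LJ_le_PJ hl⟩ * ⟨v, VJ_le_PJ hv⟩ from Subtype.ext h7, map_mul, h2 l hl, h3 v hv, mul_one] at h8
        rwa [h7, show l = 1 from congrArg Subtype.val h8, one_mul]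
      have h7 := (VJ_isPGroup R {i}).isNilpotent
      exact absurd (Group.isSolvable_of_isSolvable_injective
        (f := ((PJ cs h T X {i}).subtype.comp f').codRestrict _ h6)
        fun a b e => h4 (Subtype.ext (congrArg Subtype.val e :))) hns
  have h6 : LJ cs h T X {i} = T ⊔ (φ i).range := by rw [LJ_single_le, hφ]
  have h7 : T ≤ normalizer ((φ i).range : Set Y) := hφ i ▸ T_le_normalizer R i
  have h8 : ((φ i).range.subgroupOf (LJ cs h T X {i})).Normal :=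
    (normal_subgroupOf_iff_le_normalizer (h6 ▸ le_sup_right)).2 (h6 ▸ sup_le h7 le_normalizer)
  have h9 : commutator (LJ cs h T X {i}) ≤ (φ i).range.subgroupOf (LJ cs h T X {i}) := by
    have key : ∀ a : LJ cs h T X {i} ⧸ (φ i).range.subgroupOf (LJ cs h T X {i}), ∃ t : LJ cs h T X {i},
        (t : Y) ∈ T ∧ a = t := fun a => by
      obtain ⟨⟨x, hx⟩, rfl⟩ := QuotientGroup.mk_surjective a
      have h10 : x ∈ ((T ⊔ (φ i).range : Subgroup Y) : Set Y) := h6 ▸ hx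
      rw [coe_mul_of_left_le_normalizer_right _ _ h7] at h10
      obtain ⟨t, ht, v, hv, rfl⟩ := h10
      exact ⟨⟨t, h6 ▸ mem_sup_left ht⟩, ht, (QuotientGroup.eq.2 (by simpa [mem_subgroupOf] using hv)).symm⟩
    refine Normal.quotient_commutative_iff_commutator_le.1 ⟨⟨fun a b => ?_⟩⟩
    obtain ⟨s, hs, rfl⟩ := key a
    obtain ⟨t, ht, rfl⟩ := key b
    rw [← QuotientGroup.mk_mul, ← QuotientGroup.mk_mul, show s * t = t * s from Subtype.ext (hT _ hs _ ht)]
  have h10 : ∀ a, ((LJ cs h T X {i}).subtype.comp (π.comp f')) a ∈ (φ i).range := fun a => by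
    have h11 : commutator N = ⊤ := ((inferInstance : (commutator N).Normal).eq_bot_or_eq_top).resolve_left fun e =>
      hc ((commutator_eq_bot_iff N).1 e)
    exact h9 (commutator_mono le_top le_top ((map_commutator ⊤ ⊤ (π.comp f')).le ⟨a, h11.ge (mem_top a), rfl⟩))
  have h11 : Function.Injective (((LJ cs h T X {i}).subtype.comp (π.comp f')).codRestrict _ h10) := fun a b e =>
    h5 (Subtype.ext (congrArg Subtype.val e :))
  by_cases h12 : 4 ≤ Fintype.card (F i)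
  · have := simple_sl (F i) h12
    rcases (inferInstance : (φ i).ker.Normal).eq_bot_or_eq_top with h13 | h13
    · let e := (MonoidHom.ofInjective ((MonoidHom.ker_eq_bot_iff _).1 h13)).symm
      exact lie_of_sl hc (e.toMonoidHom.comp _) (e.injective.comp h11)
    · refine absurd ⟨⟨fun a b => h11 (Subtype.ext ?_)⟩⟩ hc
      obtain ⟨x, hx⟩ := h10 (a * b)
      obtain ⟨y, hy⟩ := h10 (b * a)
      exact hx.symm.trans (((h13.ge (mem_top x)).trans (h13.ge (mem_top y)).symm).trans hy)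
  · have := solvable_sl (F i) (not_le.1 h12)
    have := Group.isSolvable_of_surjective (f := (φ i).rangeRestrict) (φ i).rangeRestrict_surjective
    exact absurd (Group.isSolvable_of_isSolvable_injective h11) hns

end rgd

open Cfsg.Lie Cfsg.Agent.ChevalleyStructure Cfsg.Agent.Nodes.RGDFoldSL Cfsg.Agent.BiChar in
/-- `³D₄(q)`, `q` even -/
theorem td4 {K : Type} [Field K] [Fintype K] [CharP K 2] {q : ℕ} (hq : IsPrimePow q) (hK : Fintype.card K = q ^ 3)
    {N : Type} [Group N] [IsSimpleGroup N] (hc : ¬ IsMulCommutative N) (f : N →* ↥(twistedD4 K q))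
    (hf : Function.Injective f) {Q : Subgroup ↥(twistedD4 K q)} (hQ : IsPGroup 2 Q) (hQ1 : Q ≠ ⊥)
    (hn : ∀ a, f a ∈ normalizer (Q : Set ↥(twistedD4 K q))) : IsSL N := by
  obtain ⟨φ, hφ⟩ := D4Fixed.exists_frob hq hK
  have hle := D4Fixed.twisted_le_fix hK hφ
  have : Finite CoxeterMatrix.G₂.Group := Nodes.RGDChev.finite_W GTwo.isType TwDFour.cs
  have hch : ∀ i : Fin 2, CharP (Fx φ ((Nodes.RGDTwNode.D4.rest i).length + 1)) 2 := fun i =>
    (RingHom.charP_iff _ (Fx φ ((Nodes.RGDTwNode.D4.rest i).length + 1)).subtype.injective 2).2 inferInstance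
  let hft : ∀ i : Fin 2, Fintype (Fx φ ((Nodes.RGDTwNode.D4.rest i).length + 1)) := fun i => Fintype.ofFinite _
  refine of_norm (F := fun i => Fx φ ((Nodes.RGDTwNode.D4.rest i).length + 1))
    (KFacts.RgdFiltTwAll.filt_fold TwDFour.cs Nodes.RGDTwD4.isCartan Nodes.RGDTwD4.foldData
      (Nodes.RGDTwD4.foldGrp hφ hle) 2) (Nodes.RGDTwD4.G1_eq_top TwDFour.cs hK hφ) (fun x hx y hy => ?_)
    (fun i => TwDFour.Ph hφ hle i) (fun i => TwDFour.range_Ph hφ hle hK i) hc f hf hQ hQ1 hn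
  exact Subtype.ext (HDiag.mul_comm_of_mem chevD4 (by simp) (mem_inf.1 (mem_subgroupOf.1 hx)).1
    (mem_inf.1 (mem_subgroupOf.1 hy)).1)


open Cfsg.Agent.SB.Low Cfsg.Agent.Cit.HexBase

variable {T K : Type} [Group T] [Group K] [Finite T] [Finite K] {E : Type} [Field E] [Finite E] {σ : E ≃+* E}

theorem one (e : T ≃* K) (c : HexGrp σ K) (h2 : (2 : E) ≠ 0) (s t : T) (hs : orderOf s = 2) (ht : orderOf t = 2) :
    IsConj s t := by
  have h : ∀ s : T, orderOf s = 2 → IsConj (e s) c.z := fun s hs => by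
    obtain ⟨h3, h4⟩ := orderOf_eq_prime_iff.1 hs
    exact c.isConj_z h2 (by rw [← map_mul, ← pow_two, h3, map_one]) fun k => h4 (e.injective (k.trans (map_one e).symm))
  simpa using e.symm.toMonoidHom.map_isConj ((h s hs).trans (h t ht).symm)

theorem ea_map (e : T ≃* K) {r : ℕ} {H : Subgroup T} (h : EA r H) : EA r (H.map e.toMonoidHom) where
  prime := h.prime
  ne_bot k := h.ne_bot ((map_eq_bot_iff_of_injective _ e.injective).1 k)
  pow := by
    rintro _ ⟨x, hx, rfl⟩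
    rw [← map_pow, h.pow x hx, map_one]
  comm := by
    rintro _ ⟨x, hx, rfl⟩ _ ⟨y, hy, rfl⟩
    rw [← map_mul, h.comm x hx y hy, map_mul]

theorem eight (e : T ≃* K) (c : HexGrp σ K) (h2 : (2 : E) ≠ 0) {H : Subgroup T} (h : EA 2 H) (h8 : Nat.card H = 8) :
    Cz H ≤ H := fun g hg => by
  have h1 := ea_map e h
  obtain ⟨x, hx, k⟩ := TwoL.cent_le c h2 (fun x hx => (pow_two x).symm.trans (h1.pow x hx)) h1.comm
    (by rw [card_map_of_injective e.injective, h8]; decide) (show e g ∈ Cz (H.map e.toMonoidHom) by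
      rintro _ ⟨x, hx, rfl⟩
      exact (map_mul e x g).symm.trans ((congrArg e (hg x hx)).trans (map_mul e g x)))
  exact e.injective k ▸ hx

theorem rk2 (e : T ≃* K) {p q Q : ℕ} (h : Two p q Q K) : PRankLE 2 3 T := fun H hc hp => by
  by_cases h0 : H = ⊥
  · rw [h0, card_bot]
    decide
  have h1 := h.rk _ (ea_map e ⟨Nat.prime_two, h0, hp, fun x hx y hy => congrArg Subtype.val (hc.1.1 ⟨x, hx⟩ ⟨y, hy⟩)⟩)
  rw [card_map_of_injective e.injective] at h1
  omega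

theorem invc (e : T ≃* K) {p q Q : ℕ} (h : Two p q Q K) (z : T) (hz : orderOf z = 2) :
    cn z ≤ q * (q ^ 2 - 1) * (Q * (Q ^ 2 - 1)) := by
  rw [← cn_congr e]
  exact h.inv _ ((e.orderOf_eq z).trans hz)

end LL

open Cfsg Cfsg.Lie Subgroup Cfsg.Agent.SB.Low LL

/-- **[L]** -/
theorem boxL : BoxL := by
  rintro p _ k q T _ _ _ d (⟨rfl, hq, ⟨m, -⟩, F, _, _, _, rfl, ⟨e⟩⟩ | ⟨rfl, hq, ⟨m, -⟩, F, _, _, _, hF, ⟨e⟩⟩)
  · have := Finite.of_equiv _ e.toEquiv
    have h2 := TwoL.two_ne_zero_of (F := F) p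
    obtain ⟨x, hx⟩ := H437.Iso.g2_order1 (F := F)
    refine ⟨Or.inl ⟨rfl, hq⟩, ⟨m.e, m.he, m.hq.symm⟩, (Nat.card_congr e.toEquiv).trans (S1059.result rfl),
      fun h => one e (Cit.HexG2.g2 F (h2 h)) (h2 h), ⟨e.symm x, ?_⟩, fun h z hz => ?_, fun h => rk2 e (boxTwoG p F h),
      fun h E => eight e (Cit.HexG2.g2 F (h2 h)) (h2 h), fun h => absurd h (by decide)⟩
    · rw [e.symm.orderOf_eq, hx, Nat.card_eq_fintype_card, pow_one, mul_comm, ← Nat.sq_sub_sq, one_pow]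
    · rw [pow_one]
      exact invc e (boxTwoG p F h) z hz
  · have := Finite.of_equiv _ e.toEquiv
    have h2 := TwoL.two_ne_zero_of (F := F) p
    obtain ⟨σ, -, ⟨c⟩⟩ := Cit.HexD4.exists_d4 hF
    obtain ⟨H, h3, h4, -⟩ := S2376.result q hq hF
    obtain ⟨x, hx⟩ := IsCyclic.exists_ofOrder_eq_natCard (α := H)
    refine ⟨Or.inr ⟨rfl, hq.two_le⟩, ⟨m.e, m.he, m.hq.symm⟩, (Nat.card_congr e.toEquiv).trans (S1067.result hq hF),
      fun h => one e c (h2 h), ⟨e.symm x, ?_⟩, fun h => invc e (boxTwoD p F q h hF), fun h => rk2 e (boxTwoD p F q h hF),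
      fun h E => eight e c (h2 h), ?_⟩
    · rw [e.symm.orderOf_eq, orderOf_coe, hx, h4]
    · rintro - rfl S hS hc t ht h
      obtain ⟨h5, h6⟩ := orderOf_eq_prime_iff.1 ((e.orderOf_eq t).trans ht)
      obtain ⟨a, b, c⟩ := TH.ExT.Mu.zp_data ((pow_two _).symm.trans h5) h6
      exact td4 hq hF hc (e.toMonoidHom.comp S.subtype) (e.injective.comp S.subtype_injective) a b fun x => c _
        ((map_mul e _ t).symm.trans ((congrArg e (h x x.2)).trans (map_mul e t _)))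

end Cfsg.Agent.N2.G2
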