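import Cfsg.Agent.N2.G2.Crit
import Cfsg.Agent.S0252
import Cfsg.Agent.S0253
import Cfsg.Agent.S0254

/-!
# N2, `G₂(q)` and `³D₄(q)`: the box `BoxSim pL2` is cut into five boxes (helper9)
-/

set_option autoImplicit false
set_option linter.unusedVariables false

namespace Cfsg.Agent.N2.G2

open Subgroup Cfsg Cfsg.Agent.FP3

/-- a simple socle in the family `P p`, for the parameters with `c p k` -/
def BoxSimK (c : ℕ → ℕ → Prop) (P : ℕ → Fam) : Prop :=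
  On fun p k _ _ _ A Γ => c p k → ∀ S, Sim A Γ S → P p S → Good A

/-- `L₂(n)` with `c n` -/
def IsL2 (c : ℕ → Prop) : Fam := fun S _ =>
  ∃ (F : Type) (_ : Field F) (_ : Fintype F), c (Fintype.card F) ∧ Nonempty (S ≃* PSL 2 F)

/-- `A₅`, `A₆`, `L₂(8)`, and `L₂(7)` for `p = 7` -/
def pSm : ℕ → Fam := fun p S _ => Nonempty (S ≃* alternatingGroup (Fin 5)) ∨ Nonempty (S ≃* alternatingGroup (Fin 6)) ∨
  IsL2 (· = 8) S ∨ (p = 7 ∧ IsL2 (· = 7) S)

/-- `L₂(n)`, `n ≥ 11`, in the defining characteristic -/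
def pOwn : ℕ → Fam := fun p => IsL2 fun n => p ∣ n ∧ 11 ≤ n

/-- [K1s] `G₂(q)`, small socles -/
def BoxK1s : Prop := BoxSimK (fun _ k => k = 1) pSm
/-- [K1o] `G₂(q)`, `L₂(n)` -/
def BoxK1o : Prop := BoxSimK (fun _ k => k = 1) pOwn
/-- [Ods] `³D₄(q)`, `q` odd, small socles -/
def BoxOds : Prop := BoxSimK (fun p k => k = 3 ∧ p ≠ 2) pSm
/-- [Odo] `³D₄(q)`, `q` odd, `L₂(n)` -/
def BoxOdo : Prop := BoxSimK (fun p k => k = 3 ∧ p ≠ 2) pOwn
/-- [Ev] `³D₄(q)`, `q` even -/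
def BoxEv : Prop := BoxSimK (fun p k => k = 3 ∧ p = 2) fun p S _ => pSm p S ∨ pOwn p S

theorem pL2_cases {p : ℕ} (hp : p.Prime) {S : Type} [Group S] (h : pL2 p S) : pSm p S ∨ pOwn p S := by
  rcases h with ⟨F, _, _, h1, h2, ⟨e⟩⟩ | h | h
  · by_cases h3 : 11 ≤ Fintype.card F
    · exact Or.inr ⟨F, _, _, ⟨h1.resolve_right (by omega), h3⟩, ⟨e⟩⟩
    obtain ⟨r, -, h4⟩ := isPrimePow_iff_unique_prime_dvd.1 (FiniteField.isPrimePow_card F)
    have h5 : ¬ (2 ∣ Fintype.card F ∧ (3 ∣ Fintype.card F ∨ 5 ∣ Fintype.card F)) := fun k => by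
      have h6 := h4 2 ⟨Nat.prime_two, k.1⟩
      rcases k.2 with k' | k'
      · have := h4 3 ⟨Nat.prime_three, k'⟩; omega
      · have := h4 5 ⟨Nat.prime_five, k'⟩; omega
    have h6 : Fintype.card F = 4 ∨ Fintype.card F = 5 ∨ Fintype.card F = 7 ∨ Fintype.card F = 8 ∨ Fintype.card F = 9 := by
      omega
    rcases h6 with k | k | k | k | k
    · exact Or.inl (Or.inl ((S0252.result k).map e.trans))
    · exact Or.inl (Or.inl ((S0253.result k).map e.trans))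
    · refine Or.inl (Or.inr (Or.inr (Or.inr ⟨?_, F, _, _, k, ⟨e⟩⟩)))
      exact (Nat.prime_dvd_prime_iff_eq hp (by decide)).1 (k ▸ h1.resolve_right (by omega))
    · exact Or.inl (Or.inr (Or.inr (Or.inl ⟨F, _, _, k, ⟨e⟩⟩)))
    · exact Or.inl (Or.inr (Or.inl ((S0254.result k).map e.trans)))
  exacts [Or.inl (Or.inl h), Or.inl (Or.inr (Or.inl h))]

theorem boxL2_of (a : BoxK1s) (b : BoxK1o) (c : BoxOds) (d : BoxOdo) (e : BoxEv) : BoxSim pL2 := by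
  intro p k q T _ _ _ δ A Γ h C S hS hP
  have h1 := pL2_cases h.prime hP
  rcases h.par with ⟨hk, -⟩ | ⟨hk, -⟩
  · exact h1.elim (a p k q T δ A Γ h C hk S hS) (b p k q T δ A Γ h C hk S hS)
  · by_cases h2 : p = 2
    · exact e p k q T δ A Γ h C ⟨hk, h2⟩ S hS h1
    · exact h1.elim (c p k q T δ A Γ h C ⟨hk, h2⟩ S hS) (d p k q T δ A Γ h C ⟨hk, h2⟩ S hS)

end Cfsg.Agent.N2.G2
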