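import Cfsg.Agent.N2.G2.L2D
import Cfsg.Agent.N2.G2.LocOA
import Cfsg.Agent.Lib.Zsigmondy

/-!
# N2, `G₂(q)` and `³D₄(q)`: tools for the socles `L₂` (helper9)
-/

set_option autoImplicit false
set_option linter.unusedSectionVars false

namespace Cfsg.Agent.N2.G2

open Subgroup Cfsg Cfsg.Agent.FP3 Cfsg.Agent.N2C.N4
open Cfsg.Agent.SB.Low (EA Nz Cz)

theorem num_c1 {q : ℕ} (h : 3 ≤ q) : cm 1 q ^ 3 * q ^ 2 ≤ 2 * ord 1 q := by
  obtain ⟨a, rfl⟩ := Nat.exists_eq_add_of_le' h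
  zify
  rw [cmZ1 (by omega), ordZ1 (by omega), ← sub_nonneg]
  push_cast
  ring_nf
  positivity

theorem num_c3 {q : ℕ} (h : 2 ≤ q) : cm 3 q ^ 3 * q ^ 10 ≤ ord 3 q := by
  obtain ⟨a, rfl⟩ := Nat.exists_eq_add_of_le' h
  zify
  rw [cmZ3 (by omega), ordZ3 (by omega), ← sub_nonneg]
  push_cast
  ring_nf
  positivity

theorem num_max {q : ℕ} (h : 3 ≤ q) : ww 1 * tau 1 q ≤ 2 * cm 1 q := by
  obtain ⟨a, rfl⟩ := Nat.exists_eq_add_of_le' h
  zify
  rw [cmZ1 (by omega), tauZ1, ww1, ← sub_nonneg]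
  push_cast
  ring_nf
  positivity

/-- `r × r` from two commuting elements -/
theorem ea_two {S : Type} [Group S] [Finite S] {r : ℕ} (hr : r.Prime) {a b : S} (ha : a ^ r = 1) (hb : b ^ r = 1)
    (h1 : b ≠ 1) (h2 : a ∉ zpowers b) (hc : a * b = b * a) :
    EA r (zpowers a ⊔ zpowers b) ∧ Nat.card (zpowers a ⊔ zpowers b : Subgroup S) = r ^ 2 ∧
      ∀ x ∈ zpowers a ⊔ zpowers b, ∃ i j : ℤ, x = a ^ i * b ^ j := by
  have := Fact.mk hr
  have h3 : a ≠ 1 := fun e => h2 (e ▸ one_mem _)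
  have hn : zpowers b ≤ normalizer (zpowers a : Set S) := (zpowers_le.2 (mem_centralizer_iff.2 (by
    rintro _ ⟨i, rfl⟩; exact ((show Commute a b from hc).zpow_left i).eq))).trans (centralizer_le_normalizer _)
  have hm : ∀ x ∈ zpowers a ⊔ zpowers b, ∃ i j : ℤ, x = a ^ i * b ^ j := fun x hx => by
    have h4 : x ∈ ((zpowers a ⊔ zpowers b : Subgroup S) : Set S) := hx
    rw [coe_mul_of_right_le_normalizer_left _ _ hn] at h4
    obtain ⟨_, ⟨i, rfl⟩, _, ⟨j, rfl⟩, e⟩ := h4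
    exact ⟨i, j, e.symm⟩
  have hc : Commute a b := hc
  have hE : EA r (zpowers a ⊔ zpowers b) := ⟨hr, fun e => h3 (mem_bot.1 (e ▸ mem_sup_left (mem_zpowers a))), fun x hx => by
      obtain ⟨i, j, rfl⟩ := hm x hx
      rw [(hc.zpow_zpow i j).mul_pow, ← zpow_natCast, ← zpow_natCast, ← zpow_mul, ← zpow_mul, mul_comm i, mul_comm j,
        zpow_mul, zpow_mul, zpow_natCast, zpow_natCast, ha, hb, one_zpow, one_zpow, one_mul],
    fun x hx y hy => by
      obtain ⟨i, j, rfl⟩ := hm x hx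
      obtain ⟨i', j', rfl⟩ := hm y hy
      exact (((Commute.refl a).zpow_zpow i i').mul_right (hc.zpow_zpow i j')).mul_left
        ((hc.symm.zpow_zpow j i').mul_right ((Commute.refl b).zpow_zpow j j'))⟩
  refine ⟨hE, ?_, hm⟩
  obtain ⟨n, hn⟩ := IsPGroup.iff_card.1 (show IsPGroup r (zpowers a ⊔ zpowers b : Subgroup S) from
    fun x => ⟨1, Subtype.ext ((pow_one r).symm ▸ hE.pow x x.2)⟩)
  have h7 : Nat.card (zpowers a ⊔ zpowers b : Subgroup S) ≤ r ^ 2 := by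
    have h5 := Nat.card_le_card_of_surjective
      (fun z : zpowers a × zpowers b => (⟨z.1 * z.2, mul_mem_sup z.1.2 z.2.2⟩ : (zpowers a ⊔ zpowers b : Subgroup S)))
      fun x => by
        obtain ⟨i, j, e⟩ := hm x x.2
        exact ⟨⟨⟨_, i, rfl⟩, ⟨_, j, rfl⟩⟩, Subtype.ext e.symm⟩
    rwa [Nat.card_prod, Nat.card_zpowers, Nat.card_zpowers, orderOf_eq_prime ha h3, orderOf_eq_prime hb h1, ← pow_two] at h5
  have h8 : r < Nat.card (zpowers a ⊔ zpowers b : Subgroup S) := by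
    rw [← orderOf_eq_prime hb h1, ← Nat.card_zpowers]
    exact (card_le_of_le le_sup_right).lt_of_ne fun e =>
      h2 (eq_of_le_of_card_ge le_sup_right e.ge ▸ mem_sup_left (mem_zpowers a))
  rw [hn] at h7 h8 ⊢
  have h9 := (Nat.pow_le_pow_iff_right hr.one_lt).1 h7
  have h10 := (Nat.pow_lt_pow_iff_right hr.one_lt).1 ((pow_one r).symm ▸ h8 : r ^ 1 < r ^ n)
  rw [show n = 2 by omega]

theorem ea_map {G H : Type} [Group G] [Group H] (f : G →* H) (hf : Function.Injective f) {r : ℕ} {E : Subgroup G}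
    (h : EA r E) : EA r (E.map f) :=
  ⟨h.prime, fun e => h.ne_bot ((map_eq_bot_iff_of_injective _ hf).1 e), by
    rintro _ ⟨x, hx, rfl⟩
    rw [← map_pow, h.pow x hx, map_one], by
    rintro _ ⟨x, hx, rfl⟩ _ ⟨y, hy, rfl⟩
    rw [← map_mul, h.comm x hx y hy, map_mul]⟩

/-- a four-group which is centralised by no element `≠ 1` of odd order -/
def V4 (S : Type) [Group S] : Prop :=
  ∃ V : Subgroup S, EA 2 V ∧ Nat.card V = 4 ∧ ∀ g ∈ Cz V, Odd (orderOf g) → g = 1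

theorem V4.congr {G H : Type} [Group G] [Group H] (e : H ≃* G) (h : V4 G) : V4 H := by
  obtain ⟨V, h1, h2, h3⟩ := h
  refine ⟨V.map e.symm.toMonoidHom, ea_map _ e.symm.injective h1, (card_map_of_injective e.symm.injective).trans h2,
    fun g hg ho => e.injective ((h3 (e g) (fun v hv => ?_) (by rwa [e.orderOf_eq])).trans (map_one e).symm)⟩
  have h4 := congrArg e (hg (e.symm v) ⟨v, hv, rfl⟩)
  rwa [map_mul, map_mul, e.apply_symm_apply] at h4

/-- two commuting involutions -/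
theorem v4_of {S : Type} [Group S] [Finite S] {a b : S} (ha : a ^ 2 = 1) (hb : b ^ 2 = 1) (h1 : a ≠ 1) (h2 : b ≠ 1)
    (h3 : a ≠ b) (hc : a * b = b * a) (h : ∀ g, g * a = a * g → g * b = b * g → Odd (orderOf g) → g = 1) : V4 S := by
  classical
  obtain ⟨k1, k2, -⟩ := ea_two Nat.prime_two ha hb h2 (fun k => by
    rw [mem_zpowers_iff_mem_range_orderOf, orderOf_eq_prime hb h2] at k
    obtain ⟨i, hi, e⟩ := Finset.mem_image.1 k
    have := Finset.mem_range.1 hi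
    interval_cases i
    exacts [h1 (e.symm.trans (pow_zero b)), h3 (e.symm.trans (pow_one b))]) hc
  exact ⟨_, k1, k2, fun g hg => h g (hg a (mem_sup_left (mem_zpowers a))).symm (hg b (mem_sup_right (mem_zpowers b))).symm⟩

section sheet

variable {p k q : ℕ} {T : Type} [Group T] [Finite T] [IsSimpleGroup T] {d : T → ℕ} {A S : Subgroup T}
  {Γ : Subgroup (MulAut T)}

/-- `d` is constant on the elements of order `r` -/
theorem Sh.d_cy (h : Sh p k q T d) {r M : ℕ} (hc : Cy1 S r M) {x y : T} (hx : x ∈ S) (hy : y ∈ S) (ox : orderOf x = r)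
    (oy : orderOf y = r) : d x = d y := by
  obtain ⟨z, h5, h6, -⟩ := hc
  have h7 : ∀ u : S, orderOf u = r → d u = d z := fun u hu => by
    obtain ⟨g, j, hg⟩ := h6 u hu
    have h8 : ((g : T)⁻¹ * u * (g : T)⁻¹⁻¹) ∈ zpowers (z : T) := ⟨j, by rw [inv_inv]; exact congrArg Subtype.val hg⟩
    rw [← h.conj u (g : T)⁻¹]
    exact h.d_eq h8 (by rw [inv_inv, orderOf_cj, orderOf_coe, orderOf_coe, hu, h5])
  exact (h7 ⟨x, hx⟩ (by rwa [orderOf_mk])).trans (h7 ⟨y, hy⟩ (by rwa [orderOf_mk])).symm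

/-- `G₂`: regular or mild -/
theorem Sh.d_four (h : Sh p 1 q T d) {x : T} (ho : (orderOf x).Coprime p) (h3 : 3 ≤ orderOf x)
    (h4 : orderOf x = 3 → d x ≤ 6) : d x ≤ 4 := by
  rcases h.cls x ho (fun e => by rw [e, orderOf_one] at h3; omega) with e | e | ⟨e, e'⟩ | ⟨-, e⟩
  · omega
  · omega
  · have := Nat.le_of_dvd (by decide) (orderOf_dvd_of_pow_eq_one (e' rfl))
    have := h4 (by omega)
    omega
  · have := Nat.le_of_dvd (by decide) (orderOf_dvd_of_pow_eq_one e)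
    omega

/-- **the criterion for `G₂`** -/
theorem crit_m (h : Sh p 1 q T d) (C : Cx p A Γ) (hS : Sim A Γ S) {o r M : ℕ} (ho : Nat.card (MulAut S) ∣ o * Nat.card S)
    (hro : r.Coprime o) (hp : r.Coprime p) (h3 : 3 ≤ r) (hc : Cy1 S r M) (hM : 0 < M)
    (hb : r = 3 → ∃ x ∈ S, orderOf x = 3 ∧ d x ≤ 6) (hi : (2 * cm 1 q) ^ 3 * Nat.card S ≤ M ^ 3 * ord 1 q) : Good A := by
  refine hS.good C ho hro hc hM (fun x hx e => ?_) (h.card ▸ hi)
  have h1 : d x ≤ 4 := h.d_four (e ▸ hp) (e ▸ h3) fun k => by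
    obtain ⟨y, hy, oy, k'⟩ := hb (e ▸ k)
    rwa [h.d_cy hc hx hy e (oy.trans (k.symm.trans e))]
  have h2 := h.par
  exact (h.norm_cm (e ▸ hp) (fun k => by rw [k, orderOf_one] at e; omega) (by omega)).trans
    (max_le le_rfl (num_max (by omega)))

theorem Sim.closure {x y : S} (h : Subgroup.closure {x, y} = ⊤) : Subgroup.closure {(x : T), (y : T)} = S := by
  have h1 := congrArg (Subgroup.map S.subtype) h
  rwa [MonoidHom.map_closure, Set.image_pair, ← MonoidHom.range_eq_map, range_subtype] at h1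

theorem inv_O4 (hi : Inv Γ S) : Inv Γ (O4 p S) := inv_closure fun σ hσ g ⟨h1, V, h2, h3, h4, h5⟩ =>
  ⟨by rwa [σ.orderOf_eq], V.map σ.toMonoidHom, by rintro _ ⟨v, hv, rfl⟩; exact hi σ hσ v (h2 hv),
    ea_map _ σ.injective h3, (card_map_of_injective σ.injective).trans h4, by
      rintro _ ⟨v, hv, rfl⟩
      exact (map_mul σ v g).symm.trans ((congrArg σ (h5 v hv)).trans (map_mul σ g v))⟩

theorem Sim.relIndex_dvd (C : Cx p A Γ) (hS : Sim A Γ S) {o : ℕ} (ho : Nat.card (MulAut S) ∣ o * Nat.card S) :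
    S.relIndex A ∣ o := by
  have h1 := (hS.card_dvd C).trans ho
  rw [LocO.card_eq S A, inf_eq_left.2 hS.le] at h1
  exact Nat.dvd_of_mul_dvd_mul_right Nat.card_pos h1

theorem tor_hi {n : ℕ} (h : Tor 3 q n) (hq : Odd q) (hn : 2 ∣ n) : q ^ 2 + q + 1 ∣ n ∨ q ^ 2 - q + 1 ∣ n := by
  obtain ⟨a, rfl⟩ := hq
  have h1 : (2 * a + 1) ^ 3 - 1 = ((2 * a + 1) ^ 2 + (2 * a + 1) + 1) * (2 * a) := Nat.sub_eq_of_eq_add (by ring)
  have h2 : (2 * a + 1) ^ 2 - (2 * a + 1) = 2 * (a * (2 * a + 1)) := Nat.sub_eq_of_eq_add (by ring)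
  have h3 : (2 * a + 1) ^ 3 + 1 = ((2 * a + 1) ^ 2 - (2 * a + 1) + 1) * (2 * a + 2) := by rw [h2]; ring
  have h4 : (2 * a + 1) ^ 4 - (2 * a + 1) ^ 2 = 2 * (2 * a * (a + 1) * (2 * a + 1) ^ 2) := Nat.sub_eq_of_eq_add (by ring)
  rcases h with ⟨h, -⟩ | ⟨-, e | e | e | e | e | e | e⟩
  · omega
  · exact Or.inl (e ▸ h1 ▸ (dvd_mul_right _ _).mul_right _)
  · exact Or.inl (e ▸ h1 ▸ (dvd_mul_right _ _).mul_right _)
  · exact Or.inr (e ▸ h3 ▸ (dvd_mul_right _ _).mul_right _)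
  · exact Or.inr (e ▸ h3 ▸ (dvd_mul_right _ _).mul_right _)
  · exact Or.inl (e ▸ dvd_pow_self _ two_ne_zero)
  · exact Or.inr (e ▸ dvd_pow_self _ two_ne_zero)
  · omega

theorem Sh.q_odd (h : Sh p k q T d) (hp : p ≠ 2) : Odd q := by
  obtain ⟨f, -, rfl⟩ := h.pw
  exact (h.prime.odd_of_ne_two hp).pow

/-- **Scott's inequality for the socle**, `q` odd -/
theorem no_four (h : Sh p 3 q T d) (C : Cx p A Γ) (hS : Sim A Γ S) (hp : p ≠ 2) {o : ℕ}
    (ho : Nat.card (MulAut S) ∣ o * Nat.card S) (h0 : 0 < o) (hq : o ≤ 2 * q) (hV : V4 S) {x y : S}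
    (hxy : Subgroup.closure {x, y} = ⊤) : d x + d y + d (x * y) ≤ 28 := by
  by_contra k
  have h1 := h.four rfl hp x y (by omega)
  rw [Sim.closure hxy] at h1
  have h2 : O4 p S ≤ A := le_sup_right.trans (mi_le C.mi (inv_sup hS.inv (inv_O4 hS.inv)) h1)
  obtain ⟨V, h3, h4, h5⟩ := hV
  have h6 := ea_map S.subtype S.subtype_injective h3
  have h7 : Nat.card (V.map S.subtype) = 4 := (card_map_of_injective S.subtype_injective).trans h4
  obtain ⟨B, b1, b2, -, b3, b4, -⟩ := h.tor 2 _ h6 hp.symm h7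
  have h8 : ∀ m, Odd m → m ∣ Nat.card B → m ∣ o := fun m hm e => by
    refine (Nat.dvd_iff_prime_pow_dvd_dvd _ _).2 fun l a hl hd => ?_
    rcases a with _ | a
    · exact one_dvd _
    obtain ⟨P, p1, p2⟩ := LocO.exists_sub B hl (hd.trans e)
    have p3 : ∀ g ∈ P, Odd (orderOf g) := fun g hg => (hm.of_dvd_nat hd).of_dvd_nat (p2 ▸ LocO.ord_dvd hg)
    have p4 : P ≤ A := fun g hg => h2 (Subgroup.subset_closure ⟨Nat.Coprime.mul_right (p3 g hg).coprime_two_right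
      (b3.coprime_dvd_left (LocO.ord_dvd (p1 hg))), _, map_subtype_le V, h6, h7, b2 (p1 hg)⟩)
    have p5 : S ⊓ P = ⊥ := eq_bot_iff.2 fun g hg => congrArg Subtype.val (h5 ⟨g, hg.1⟩
      (fun v hv => Subtype.ext (b2 (p1 hg.2) v ⟨v, hv, rfl⟩)) (by rw [orderOf_mk]; exact p3 g hg.2))
    have p6 := LocO.card_eq S P
    rw [p5, card_bot, mul_one, p2] at p6
    exact p6 ▸ (LocO.relIndex_dvd (hS.norm C).ge p4).trans (hS.relIndex_dvd C ho)
  have h9 := h.q_odd hp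
  have h10 : 3 ≤ q := by
    have := h.par
    obtain ⟨a, rfl⟩ := h9
    omega
  have h11 : Even (q ^ 2 - q) := by rw [pow_two, ← Nat.mul_sub_one]; exact Nat.even_mul_pred_self q
  have h12 : 2 * q ≤ q ^ 2 - q := Nat.le_sub_of_add_le (by nlinarith)
  rcases tor_hi b4 h9 ((show 2 ∣ 4 by decide).trans (h7 ▸ card_dvd_of_le b1)) with e | e
  · have := Nat.le_of_dvd h0 (h8 _ ((h9.pow.add_odd h9).add_one) e)
    omega
  · have := Nat.le_of_dvd h0 (h8 _ h11.add_one e)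
    omega

/-- **a generating triple of elements of order prime to `p`** -/
theorem good_tri (h : Sh p 3 q T d) (C : Cx p A Γ) (hS : Sim A Γ S) (hp : p ≠ 2) {o : ℕ}
    (ho : Nat.card (MulAut S) ∣ o * Nat.card S) (h0 : 0 < o) (hq : o ≤ 2 * q) (hV : V4 S) {x y : S}
    (hxy : Subgroup.closure {x, y} = ⊤) (hx : x ≠ 1) (hy : y ≠ 1) (hz : x * y ≠ 1) (ox : (orderOf x).Coprime p)
    (oy : (orderOf y).Coprime p) (oz : (orderOf (x * y)).Coprime p) (hA : o * Nat.card S ≤ q ^ 10) : Good A := by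
  have h1 := no_four h C hS hp ho h0 hq hV hxy
  have h2 : ∀ u : S, u ≠ 1 → (orderOf u).Coprime p → d u ≤ 9 → Good A := fun u h3 h4 h5 => by
    have h6 : (u : T) ≠ 1 := fun e => h3 (Subtype.ext e)
    have h7 : (orderOf (u : T)).Coprime p := by rwa [orderOf_coe]
    have h8 := h.par
    exact h.good_cm (hS.le u.2) h7 h6 (by rcases h.cls u h7 h6 with e | e | e | e <;> omega)
      ((Nat.le_of_dvd (Nat.mul_pos h0 Nat.card_pos) ((hS.card_dvd C).trans ho)).trans hA) (num_c3 (by omega))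
  by_cases k1 : d x ≤ 9
  · exact h2 x hx ox k1
  by_cases k2 : d y ≤ 9
  · exact h2 y hy oy k2
  exact h2 (x * y) hz oz (by rw [coe_mul]; omega)

/-- the orders of the elements of order prime to `p` -/
theorem Sh.ord_le (h : Sh p 3 q T d) {x : T} (ho : (orderOf x).Coprime p) : orderOf x ≤ tau 3 q := by
  have h2 : 2 ≤ q := by have := h.par; omega
  have h3 : ∀ m, x ^ m = 1 → 0 < m → m ≤ q ^ 3 + 1 → orderOf x ≤ tau 3 q := fun m e e' e'' =>
    (orderOf_le_of_pow_eq_one e' e).trans (e''.trans (by rw [tau3]; nlinarith [Nat.zero_le (q ^ 4), Nat.zero_le (q ^ 2)]))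
  have h4 : 8 ≤ q ^ 3 := Nat.pow_le_pow_left h2 3
  by_cases h1 : x = 1
  · exact h3 1 (by rw [h1, one_pow]) one_pos (by omega)
  rcases h.cls x ho h1 with e | e | ⟨e, -⟩ | ⟨-, e⟩
  · refine le_trans ?_ (h.cn_reg ho e)
    rw [← Nat.card_zpowers]
    exact card_le_of_le (zpowers_le.2 (mem_centralizer_singleton_iff.2 rfl))
  · obtain ⟨m, k1, -, k2⟩ := h.mild x ho e
    exact h3 m k2 (by omega) (by omega)
  · obtain ⟨m, n, z, k1, -, k2, k3, -⟩ := h.bad3 rfl x ho e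
    refine (Nat.le_of_dvd (orderOf_pos z) (orderOf_dvd_of_mem_zpowers k3)).trans (k2 ▸ ?_)
    have h5 : q ^ 2 + q + 1 ≤ tau 3 q := tau3 q ▸ Nat.le_self_pow two_ne_zero _
    have h6 : q ≤ q ^ 2 := Nat.le_self_pow two_ne_zero _
    rcases k1 with ⟨k | k, -⟩ | ⟨k, -⟩ | ⟨k, -⟩ <;> omega
  · exact h3 2 e two_pos (by omega)

/-- the size of the field of `L₂(p ^ a)` -/
theorem Sh.cube (h : Sh p 3 q T d) {a g : ℕ} {x : T} (hg : g ≤ 2) (h0 : 0 < a) (hx : orderOf x * g = p ^ a + 1) :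
    p ^ a ≤ q ^ 3 := by
  obtain ⟨f, hf, hq⟩ := h.pw
  have hp := h.prime
  suffices k : a ≤ f * 3 by
    rw [hq, ← pow_mul]
    exact Nat.pow_le_pow_right hp.pos k
  by_cases h3 : a ≤ 3
  · omega
  obtain ⟨r, hr, r1, r2, r3⟩ := Lib.Zsigmondy.exists_primitive (n := 2 * a) hp.two_le (by omega) (by omega) (by omega)
  have h4 : r ∣ p ^ a + 1 := by
    have h5 := (r1 (2 * a)).2 dvd_rfl
    rw [mul_comm, pow_mul, ← one_pow 2, Nat.sq_sub_sq] at h5
    exact ((Nat.Prime.dvd_mul hr).1 h5).resolve_right fun e => by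
      have := Nat.le_of_dvd h0 ((r1 a).1 e)
      omega
  have h5 : 2 * a ≤ r - 1 := Nat.le_of_dvd (by have := hr.two_le; omega) r2
  have h6 : r ∣ orderOf x := ((Nat.Prime.dvd_mul hr).1 (hx ▸ h4)).resolve_right fun e => by
    have := Nat.le_of_dvd (Nat.pos_of_ne_zero fun k => by rw [k, mul_zero] at hx; omega) e
    omega
  have h7 := h.lag hr (fun e => r3 (e ▸ dvd_rfl)) (h6.trans (orderOf_dvd_natCard x))
  rw [hq, ← pow_mul] at h7
  obtain ⟨c, hc⟩ := (r1 _).1 h7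
  have h8 : (orderOf x).Coprime p :=
    Nat.Coprime.symm ((Nat.Prime.coprime_iff_not_dvd hp).2 fun e => hp.one_lt.ne' (Nat.dvd_one.1
      ((Nat.dvd_add_right (dvd_pow_self p h0.ne')).1 (hx ▸ e.mul_right g))))
  rcases c with _ | _ | c
  · omega
  · exfalso
    have h9 := h.ord_le h8
    have h10 : p ^ a = q ^ 6 := by rw [hq, ← pow_mul]; congr 1; omega
    have h11 : q ^ 6 + 1 ≤ tau 3 q * 2 := by rw [← h10, ← hx]; exact Nat.mul_le_mul h9 hg
    have h12 : 2 ≤ q := by have := h.par; omega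
    rcases h12.eq_or_lt with e | e
    · subst e
      have h13 : p = 2 := (Nat.prime_dvd_prime_iff_eq hp Nat.prime_two).1 (hq ▸ dvd_pow_self p hf.ne')
      rw [h10] at hx
      rw [tau3] at h9
      interval_cases g <;> omega
    · obtain ⟨b, rfl⟩ := Nat.exists_eq_add_of_le' (show 3 ≤ q from e)
      rw [tau3] at h11
      refine h11.not_gt ?_
      zify
      rw [← sub_pos]
      ring_nf
      positivity
  · nlinarith [Nat.zero_le (a * c)]

end sheet

end Cfsg.Agent.N2.G2
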