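import Cfsg.Agent.N2.G2.Crit
import Cfsg.Agent.N2.Cl.RX.El
import Cfsg.Agent.Transfer.PGroupNormal

/-!
# N2 (S3519), `G₂(q)` and `³D₄(q)`, box `pL3` : the abstract lemmas (helper97)
-/

set_option autoImplicit false
set_option linter.unusedSectionVars false

namespace Cfsg.Agent.N2.G2.L3

open Subgroup Cfsg Cfsg.Agent.FP3 Cfsg.Agent.N2C.N4
open Cfsg.Agent.SB.Low (EA Nz Cz)

section grp

variable {S : Type} [Group S] [Finite S] {r : ℕ}

/-- transfer into a cyclic subgroup -/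
theorem fu_of_cyc (hp : commutator S = ⊤) {V : Subgroup S} (hV : IsCyclic V) (hr : r.Prime) (h1 : r ∣ Nat.card V)
    (h2 : ¬ r ∣ V.index) (h3 : ∀ x g : S, x ^ r = 1 → g * x * g⁻¹ = x⁻¹ → x = 1) : Fu S r := by
  by_contra hf
  have := Fact.mk hr
  obtain ⟨x, hx⟩ := exists_prime_orderOf_dvd_card' (G := V) r h1
  rw [← orderOf_coe] at hx
  let _ : CommGroup V := hV.commGroup
  have key : ∀ (k : ℕ) (g : S), g⁻¹ * (x : S) ^ k * g ∈ V → g⁻¹ * (x : S) ^ k * g = (x : S) ^ k := fun k g hg => by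
    by_cases h4 : (x : S) ^ k = 1
    · rw [h4, mul_one, inv_mul_cancel]
    have h5 : ((x : S) ^ k) ^ r = 1 := by rw [← pow_mul, mul_comm, pow_mul, ← hx, pow_orderOf_eq_one, one_pow]
    have h6 := orderOf_eq_prime h5 h4
    by_contra h7
    refine hf ⟨_, h6, _, mem_zpowers_of_cyc hV (pow_mem x.2 k) hg ?_, isConj_iff.2 ⟨g⁻¹, by rw [inv_inv]⟩, h7,
      fun e => h4 (h3 _ g⁻¹ h5 (by rwa [inv_inv]))⟩
    rw [← orderOf_cj g, pow_orderOf_eq_one]
  have h4 := MonoidHom.transfer_eq_pow (MonoidHom.id V) (x : S) key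
  have h5 : MonoidHom.transfer (MonoidHom.id V) (x : S) = 1 :=
    Abelianization.commutator_subset_ker _ (hp ▸ mem_top _)
  exact h2 (hx ▸ orderOf_dvd_of_pow_eq_one (congrArg Subtype.val (h4.symm.trans h5)))

/-- the automiser has order at least three -/
theorem cy_of_fu (hr : r.Prime) (hf : Fu S r) (hc : Cy1 S r 0) : Cy1 S r (r * 3) := by
  have := Fact.mk hr
  obtain ⟨x, h1, y, hy, h2, h3, h4⟩ := hf
  obtain ⟨j, rfl⟩ := (mem_powers_iff_mem_zpowers.2 hy : y ∈ Submonoid.powers x)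
  obtain ⟨z, h5, h6, -⟩ := hc
  obtain ⟨g, hg⟩ := h6 x h1
  have h7 := zpowers_eq_of_order hg (by rw [orderOf_cj, h1, h5])
  refine ⟨x, h1, fun y hy => ?_, le_trans (Nat.mul_le_mul_left _ ?_) (N2C.RX.card_norm_ge h1 h2)⟩
  · obtain ⟨u, hu⟩ := h6 y hy
    obtain ⟨i, hi⟩ := h7.ge hu
    refine ⟨u * g⁻¹, i, ?_⟩
    have h8 : g⁻¹ * x ^ i * g = u⁻¹ * y * u := by
      rw [← hi]
      simpa using (conj_zpow (a := g⁻¹) (b := x) (i := i)).symm
    calc x ^ i = g * (g⁻¹ * x ^ i * g) * g⁻¹ := by group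
      _ = _ := by rw [h8]; group
  · have h8 : ∀ a b : ℕ, (a : ZMod r) = b → x ^ a = x ^ b := fun a b e =>
      pow_eq_pow_iff_modEq.2 (h1 ▸ (ZMod.natCast_eq_natCast_iff a b r).1 e)
    have h9 : (j : ZMod r) ≠ 0 := fun e => by
      have h10 := h8 j 0 (by rw [e, Nat.cast_zero])
      rw [pow_zero] at h10
      simp only [h10, isConj_one_left] at h2
      rw [h2, orderOf_one] at h1
      exact hr.one_lt.ne h1
    have h10 : (j : ZMod r) ^ 2 ≠ 1 := fun e => by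
      rcases sq_eq_one_iff.1 e with k | k
      · exact h3 ((h8 j 1 (by rw [k, Nat.cast_one])).trans (pow_one x))
      · exact h4 (eq_inv_of_mul_eq_one_left ((pow_succ x j).symm.trans
          ((h8 (j + 1) 0 (by rw [Nat.cast_succ, k, neg_add_cancel, Nat.cast_zero])).trans (pow_zero x))))
    have h11 : 0 < orderOf (j : ZMod r) :=
      (isOfFinOrder_iff_pow_eq_one.2 ⟨r - 1, Nat.sub_pos_of_lt hr.one_lt, ZMod.pow_card_sub_one_eq_one h9⟩).orderOf_pos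
    by_contra h12
    refine h10 (orderOf_dvd_iff_pow_eq_one.1 ?_)
    obtain e | e : orderOf (j : ZMod r) = 1 ∨ orderOf (j : ZMod r) = 2 := by omega
    exacts [e ▸ one_dvd 2, e.dvd]

/-- real elements lift -/
theorem not_real {G : Type} [Group G] (π : G →* S) (hs : Function.Surjective π)
    (hk : ∀ z, π z = 1 → z ^ 3 = 1 ∧ ∀ g, g * z = z * g) (hr : r.Coprime 3)
    (h : ∀ x g : G, x ^ r = 1 → g * x * g⁻¹ = x⁻¹ → x = 1) (x g : S) (h1 : x ^ r = 1) (h2 : g * x * g⁻¹ = x⁻¹) : x = 1 := by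
  obtain ⟨x, rfl⟩ := hs x
  obtain ⟨g, rfl⟩ := hs g
  obtain ⟨h3, h4⟩ := hk (g * x * g⁻¹ * x) (by rw [map_mul, map_mul, map_mul, map_inv, h2, inv_mul_cancel])
  have h5 : (x ^ 3) ^ r = 1 := by rw [← pow_mul, mul_comm, pow_mul, (hk _ (by rw [map_pow, h1])).1]
  have h6 := h (x ^ 3) g h5 (by
    rw [← conj_pow, ← mul_inv_cancel_right (g * x * g⁻¹) x, (show Commute _ x⁻¹ from (h4 _).symm).mul_pow, h3, one_mul,
      inv_pow])
  exact orderOf_eq_one_iff.1 (Nat.eq_one_of_dvd_coprimes hr (orderOf_dvd_of_pow_eq_one h1)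
    (orderOf_dvd_of_pow_eq_one (by rw [← map_pow, h6, map_one])))

theorem perf [IsSimpleGroup S] (h : ¬ IsMulCommutative S) : commutator S = ⊤ :=
  ((inferInstance : (commutator S).Normal).eq_bot_or_eq_top).resolve_left fun e =>
    h ⟨⟨fun a b => mem_center_iff.1 ((commutator_eq_bot_iff_center_eq_top S).1 e ▸ mem_top b) a⟩⟩

/-- the data of a cyclic Sylow subgroup without real elements -/
theorem fu_cy (hp : commutator S = ⊤) {g : S} {b : ℕ} (h0 : Nat.card S = orderOf g * b) (hr : r.Prime) (h1 : r ∣ Nat.card S)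
    (h2 : ¬ r ∣ b) (h3 : ∀ x g : S, x ^ r = 1 → g * x * g⁻¹ = x⁻¹ → x = 1) : Fu S r ∧ Cy1 S r (r * 3) := by
  have h4 : r ∣ Nat.card (zpowers g) := by
    rw [Nat.card_zpowers]
    exact (hr.dvd_mul.1 (h0 ▸ h1)).resolve_right h2
  have h5 : ¬ r ∣ (zpowers g).index := by
    have h6 := (zpowers g).card_mul_index
    rw [Nat.card_zpowers, h0] at h6
    rwa [Nat.eq_of_mul_eq_mul_left (orderOf_pos g) h6]
  have h6 := fu_of_cyc hp inferInstance hr h4 h5 h3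
  exact ⟨h6, cy_of_fu hr h6 (cy1_of_cyc inferInstance hr h4 h5 (Nat.zero_le _))⟩

theorem cy_mono {M M' : ℕ} (h : Cy1 S r M) (hM : M' ≤ M) : Cy1 S r M' :=
  h.imp fun _ k => ⟨k.1, k.2.1, hM.trans k.2.2⟩

end grp

variable {p k q : ℕ} {T : Type} [Group T] [Finite T] [IsSimpleGroup T] {d : T → ℕ} {A S : Subgroup T}
  {Γ : Subgroup (MulAut T)} (h : Sh p k q T d)

include h

/-- subgroups of odd prime exponent -/
theorem exp_le {r : ℕ} (hr : r.Prime) (h2 : r ≠ 2) (hp : r ≠ p) {Q : Subgroup T} (hQ : ∀ x ∈ Q, x ^ r = 1)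
    (h3 : r ^ 3 ≤ Nat.card Q) : r = 3 ∧ Nat.card Q ≤ 27 := by
  have := Fact.mk hr
  have h1 : IsPGroup r Q := fun x => ⟨1, Subtype.ext (by simpa using hQ x x.2)⟩
  obtain ⟨M, h4, -, h5⟩ := Transfer.PGroupNormal.exists_normal_le_card h1 (K := ⊤) inferInstance (k := 2)
    (by rw [card_top]; exact (Nat.pow_le_pow_right hr.pos (by decide)).trans h3)
  have h6 : Nat.card (M.map Q.subtype) = r ^ 2 := by rwa [card_map_of_injective Q.subtype_injective]
  have h7 := IsPGroup.isMulCommutative_of_card_eq_prime_sq h6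
  have hE : EA r (M.map Q.subtype) := ⟨hr, fun e => by
      rw [e, card_bot] at h6
      exact (Nat.one_lt_pow two_ne_zero hr.one_lt).ne h6, fun x hx => hQ x (map_subtype_le M hx),
    fun x hx y hy => congrArg Subtype.val (h7.1.1 ⟨x, hx⟩ ⟨y, hy⟩)⟩
  obtain ⟨B, -, -, h8, -, -, h9, h10, -⟩ := h.tor r _ hE hp h6
  have h11 : Q ≤ Nz (M.map Q.subtype) := fun g hg => mem_normalizer_fintype (by
    rintro _ ⟨x, hx, rfl⟩
    exact ⟨_, h4.conj_mem x hx ⟨g, hg⟩, rfl⟩)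
  have : (B.subgroupOf (Nz (M.map Q.subtype))).Normal := ⟨fun b hb n => (mem_normalizer_iff.1 (h9 n.2) b).1 hb⟩
  have h12 : B.relIndex Q ∣ 192 := by
    rw [← relIndex_subgroupOf h11]
    exact (relIndex_dvd_index_of_normal _ _).trans h10
  have h13 : Nat.card (B.subgroupOf Q) ≤ r ^ 2 := prank_sub (h.rk r hr h2 hp) Q _
    ⟨⟨fun x y => Subtype.ext (Subtype.ext (h8 _ x.2 _ y.2))⟩⟩ fun x _ => Subtype.ext (by simpa using hQ x x.2)
  have h14 : B.relIndex Q * Nat.card (B.subgroupOf Q) = Nat.card Q := (B.subgroupOf Q).index_mul_card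
  obtain ⟨j, hj⟩ := h1.index (B.subgroupOf Q)
  change B.relIndex Q = _ at hj
  have h15 : r ^ j ∣ 3 := (Nat.Coprime.pow j 6 ((Nat.coprime_primes hr Nat.prime_two).2 h2)).dvd_of_dvd_mul_left (hj ▸ h12)
  have h16 : j ≠ 0 := by
    rintro rfl
    rw [hj, pow_zero, one_mul] at h14
    exact (Nat.pow_lt_pow_right hr.one_lt (by decide : 2 < 3)).not_ge (h3.trans (h14 ▸ h13))
  obtain rfl := (Nat.prime_dvd_prime_iff_eq hr Nat.prime_three).1 ((dvd_pow_self r h16).trans h15)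
  refine ⟨rfl, h14 ▸ ?_⟩
  exact Nat.mul_le_mul (hj ▸ Nat.le_of_dvd (by decide) h15) h13

/-- the size from Lagrange's theorem -/
theorem size_of {n a b : ℕ} (hn : Nat.card S = n) (h1 : n ≤ a ^ 8 ∧ n ≤ b ^ 16 ∧ (∀ q < a, 3 ≤ q → ¬ n ∣ ord 1 q) ∧
    ∀ q < b, 2 ≤ q → ¬ n ∣ ord 3 q) : Nat.card S ≤ q ^ (4 * (k + 1)) := by
  have h2 := S.card_subgroup_dvd_card
  rw [hn, h.card] at h2
  rw [hn]
  rcases h.par with ⟨rfl, h3⟩ | ⟨rfl, h3⟩
  · exact h1.1.trans (Nat.pow_le_pow_left (not_lt.1 fun e => h1.2.2.1 q e h3 h2) 8)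
  · exact h1.2.1.trans (Nat.pow_le_pow_left (not_lt.1 fun e => h1.2.2.2 q e h3 h2) 16)

theorem num7 (h7 : 7 ≤ q) : tau k q ^ 3 * q ^ 7 ≤ ord k q := by
  rcases h.par with ⟨rfl, -⟩ | ⟨rfl, h3⟩
  · obtain ⟨a, rfl⟩ := Nat.exists_eq_add_of_le' h7
    zify
    rw [tauZ1, ordZ1 (by omega), ← sub_nonneg]; push_cast; ring_nf; positivity
  · exact (Nat.mul_le_mul_left _ (Nat.pow_le_pow_right (by omega) (by decide))).trans (num_tau3 h3)

theorem num8 : tau k q ^ 3 * 8 ≤ ord k q := by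
  rcases h.par with ⟨rfl, h3⟩ | ⟨rfl, h3⟩
  · exact (Nat.mul_le_mul_left _ (le_trans (by decide) (Nat.pow_le_pow_left h3 6))).trans (num_tau1 h3)
  · exact (Nat.mul_le_mul_left _ (le_trans (by decide) (Nat.pow_le_pow_left h3 10))).trans (num_tau3 h3)

/-- few elements of order `r` -/
theorem good_few (C : Cx p A Γ) (hS : Sim A Γ S) {o r c : ℕ} (ho : Nat.card (MulAut S) ∣ o * Nat.card S) (hro : r.Coprime o)
    (hp : r.Coprime p) (hf : Fu S r) (hc : Nat.card {y : S // y ^ r = 1} ≤ c) (hi : c ^ 3 ≤ 8 * Nat.card S ^ 2) : Good A := by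
  obtain ⟨x, h1, _, ⟨i, rfl⟩, h2, h3, h4⟩ := hf
  have h5 : orderOf (x : T) = r := by rwa [orderOf_coe]
  have h6 : ∀ y : {g : T // IsConj (x : T) g ∧ g ∈ A}, y.1 ^ r = 1 := fun y => by
    obtain ⟨g, hg⟩ := isConj_iff.1 y.2.1
    rw [← hg, conj_pow, ← h5, pow_orderOf_eq_one, mul_one, mul_inv_cancel]
  refine good_of_cc (hS.le x.2) (h.cn_reg (h5 ▸ hp) (h.reg_of_conj (h5 ▸ hp) (y := (x ^ i : S)) ⟨i, rfl⟩
    (S.subtype.map_isConj h2) (fun e => h3 (Subtype.ext e)) fun e => h4 (Subtype.ext e))) (le_trans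
    (Nat.card_le_card_of_injective (fun y => ⟨⟨y.1, mem_of_cop hS.le (hS.norm C).ge (fun t _ => hS.cent t) ho hro y.2.2 (h6 y)⟩,
      Subtype.ext (h6 y)⟩) fun _ _ e => Subtype.ext (congrArg (fun z => (z.1 : T)) e)) hc) ?_
  rw [mul_pow, h.card]
  refine (Nat.mul_le_mul_left _ hi).trans ?_
  rw [← mul_assoc]
  exact Nat.mul_le_mul (num8 h) (Nat.pow_le_pow_left (card_le_of_le hS.le) 2)

end Cfsg.Agent.N2.G2.L3
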