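import Cfsg.Agent.N2.G2.L3A
import Cfsg.Agent.N2.Cl.RD.Aut
import Cfsg.Agent.ClassicalGeometry.PSL2Basic

/-!
# N2 (S3519), `G₂(q)` and `³D₄(q)`, box `pL3` : `L₂` in odd cross characteristic (helper97)
-/

set_option autoImplicit false
set_option linter.unusedSectionVars false

namespace Cfsg.Agent.N2.G2.L3

open Subgroup Cfsg Cfsg.Agent.FP3 Cfsg.Agent.N2C.N4 Matrix
open Cfsg.Agent.ClassicalGeometry.PSL2Basic

section mat

variable {F : Type} [Field F]

/-- the transvections -/
def uu (F : Type) [Field F] : Multiplicative F →* PSL 2 F := (QuotientGroup.mk' _).comp (MonoidHom.mk'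
  (fun b => SpecialLinearGroup.transvection (show (0 : Fin 2) ≠ 1 by decide) b.toAdd)
  fun _ _ => SpecialLinearGroup.transvection_add _ _ _)

theorem uu_inj : Function.Injective (uu F) := (injective_iff_map_eq_one _).2 fun b h =>
  (SpecialLinearGroup.transvection_mem_center_iff (show (0 : Fin 2) ≠ 1 by decide) b.toAdd).1 ((QuotientGroup.eq_one_iff _).1 h)

theorem uu_pow (j : ℕ) (b : F) : uu F (.ofAdd b) ^ j = uu F (.ofAdd (j * b)) := by
  rw [← map_pow, ← ofAdd_nsmul, nsmul_eq_mul]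

theorem uu_conj {t : F} (ht : t ≠ 0) : IsConj (uu F (.ofAdd 1)) (uu F (.ofAdd (t * t))) := by
  refine (QuotientGroup.mk' _).map_isConj (isConj_iff.2 ⟨SpecialLinearGroup.diag2 t ht, mul_inv_eq_iff_eq_mul.2 ?_⟩)
  ext i j
  fin_cases i <;> fin_cases j <;>
    simp [SpecialLinearGroup.transvection_coe, SpecialLinearGroup.diag2_coe', mul_apply, Fin.sum_univ_two, ht]

variable (p : ℕ) [hp : Fact p.Prime] [CharP F p]

theorem uu_order : orderOf (uu F (.ofAdd 1)) = p :=
  orderOf_eq_prime (by rw [uu_pow, CharP.cast_eq_zero, zero_mul, ofAdd_zero, map_one])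
    fun h => one_ne_zero (α := F) (uu_inj (h.trans (map_one _).symm))

theorem fu2 {t : F} {j : ℕ} (h : t * t = j) (h0 : t ≠ 0) (h1 : j % p ≠ 1 % p) (h2 : (j + 1) % p ≠ 0) : Fu (PSL 2 F) p :=
  fu_of_pow (uu_order p) (by rw [uu_pow, mul_one, ← h]; exact uu_conj h0) h1 h2

/-- the number of unipotent elements -/
theorem card_unip [Fintype F] (h2 : p ≠ 2) : Nat.card {x : PSL 2 F // x ^ p = 1} ≤ Fintype.card F ^ 2 := by
  classical
  have h1 : ∀ x : {x : PSL 2 F // x ^ p = 1}, ∃ X : SpecialLinearGroup (Fin 2) F,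
      (X : PSL 2 F) = x.1 ∧ X.1 0 0 + X.1 1 1 = 2 := by
    rintro ⟨x, hx⟩
    obtain ⟨X, rfl⟩ := QuotientGroup.mk_surjective x
    have h3 : (X ^ (p + 1)) ^ p = 1 := by
      obtain ⟨j, hj⟩ := (hp.out.odd_of_ne_two h2).add_one
      rw [← pow_mul, mul_comm, pow_mul, hj, ← two_mul, pow_mul]
      rcases mem_center_SL2_iff.1 ((QuotientGroup.eq_one_iff _).1 hx) with e | e <;> simp [e]
    refine ⟨X ^ (p + 1), by rw [QuotientGroup.mk_pow, pow_succ, hx, one_mul], ?_⟩
    generalize X ^ (p + 1) = Y at h3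
    have h4 := (Matrix.isNilpotent_trace_of_isNilpotent (M := Y.1 - 1) ⟨p, by
      rw [sub_pow_char_of_commute p (Commute.one_right _), one_pow]
      exact sub_eq_zero.2 ((Matrix.SpecialLinearGroup.coe_pow Y p).symm.trans (congrArg Subtype.val h3))⟩).eq_zero
    simp only [trace_fin_two, Matrix.sub_apply, one_apply_eq] at h4
    linear_combination h4
  choose f hf h3 using h1
  rw [sq, ← Nat.card_eq_fintype_card, ← Nat.card_prod]
  refine Nat.card_le_card_of_injective
    (fun x => if (f x).1 0 1 = 0 then ((f x).1 1 0, 0) else ((f x).1 0 0, (f x).1 0 1)) fun x y e => Subtype.ext ?_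
  rw [← hf, ← hf]
  have h4 := h3 x
  have h5 := h3 y
  have h6 := (f x).2
  have h7 := (f y).2
  rw [det_fin_two] at h6 h7
  have k : ∀ {a d : F}, a + d = 2 → a * d = 1 → a = 1 := fun {a d} u v =>
    sub_eq_zero.1 (pow_eq_zero_iff two_ne_zero |>.1 (by linear_combination a * u - v))
  refine congrArg _ (Subtype.ext ?_)
  rw [eta_fin_two (f x).1, eta_fin_two (f y).1]
  dsimp only at e
  split_ifs at e with a b b
  · rw [a, zero_mul, sub_zero] at h6
    rw [b, zero_mul, sub_zero] at h7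
    rw [a, b, (Prod.mk.inj e).1, k h4 h6, k h5 h7, k ((add_comm _ _).trans h4) ((mul_comm _ _).trans h6),
      k ((add_comm _ _).trans h5) ((mul_comm _ _).trans h7)]
  · exact absurd (Prod.mk.inj e).2.symm b
  · exact absurd (Prod.mk.inj e).2 a
  · obtain ⟨c, d⟩ := Prod.mk.inj e
    have h8 : (f x).1 1 1 = (f y).1 1 1 := by linear_combination h4 - h5 - c
    rw [c, d, h8] at h6
    rw [c, d, h8, mul_left_cancel₀ b (show (f y).1 0 1 * (f x).1 1 0 = (f y).1 0 1 * (f y).1 1 0 by linear_combination h7 - h6)]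

end mat

variable {p k q : ℕ} {T : Type} [Group T] [Finite T] [IsSimpleGroup T] {d : T → ℕ} {A S : Subgroup T}
  {Γ : Subgroup (MulAut T)}

/-- **`L₂` in odd cross characteristic** -/
theorem good_l2 (h : Sh p k q T d) (C : Cx p A Γ) (hS : Sim A Γ S) {F : Type} [Field F] [Fintype F]
    (ho : Odd (Fintype.card F)) (hp : ¬ p ∣ Fintype.card F) (h7 : 7 ≤ Fintype.card F) (h9 : Fintype.card F ≠ 9)
    (e : S ≃* PSL 2 F) : Good A := by
  obtain ⟨r, _⟩ := CharP.exists F
  have hr := CharP.char_is_prime F r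
  have := Fact.mk hr
  obtain ⟨a, ha, hF⟩ := N2C.RD.exists_f F r
  have h1 : r ∣ Fintype.card F := hF ▸ dvd_pow_self r (by omega)
  have h2 : r ≠ 2 := fun k => (Nat.not_even_iff_odd.2 ho) (even_iff_two_dvd.2 (k ▸ h1))
  have h3 : r ≠ p := fun k => hp (k ▸ h1)
  have h4 : r ^ a ≤ r ^ 2 := by
    have h5 := prank_sub (h.rk r hr h2 h3) S (e.symm.toMonoidHom.comp (uu F)).range ⟨⟨by
      rintro ⟨_, x, rfl⟩ ⟨_, y, rfl⟩
      exact Subtype.ext (by rw [coe_mul, coe_mul, ← map_mul, ← map_mul, mul_comm])⟩⟩ (by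
      rintro _ ⟨x, rfl⟩
      rw [← map_pow, ← ofAdd_toAdd x, ← ofAdd_nsmul, nsmul_eq_mul, CharP.cast_eq_zero, zero_mul, ofAdd_zero, map_one])
    rwa [← Nat.card_congr (MonoidHom.ofInjective (e.symm.injective.comp uu_inj)).toEquiv, Nat.card_eq_fintype_card,
      Fintype.card_multiplicative, hF] at h5
  have h5 := (Nat.pow_le_pow_iff_right hr.one_lt).1 h4
  have h6 : 5 ≤ r := by
    by_contra k
    have := hr.two_le
    obtain rfl | rfl : r = 3 ∨ r = 4 := by omega
    · interval_cases a <;> omega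
    · exact absurd hr (by decide)
  have h8 : Fu (PSL 2 F) r := by
    by_cases h5' : r = 5
    · subst h5'
      have h10 : (2 : F) ≠ 0 := fun k => absurd ((CharP.cast_eq_zero_iff F 5 2).1 k) (by decide)
      obtain ⟨t, ht⟩ := (FiniteField.isSquare_iff (by rw [ringChar.eq F 5]; decide) h10).2 (by
        have h11 : ((5 : ℕ) : F) = 0 := CharP.cast_eq_zero F 5
        rw [hF, show a = 2 by interval_cases a <;> omega]
        linear_combination 819 * h11)
      exact fu2 5 (j := 2) ht.symm (fun k => h10 (by rw [ht, k, zero_mul])) (by decide) (by decide)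
    · have h10 : 7 ≤ r := by
        by_contra k
        exact absurd hr (by rw [show r = 6 by omega]; decide)
      refine fu2 r (t := 2) (j := 4) (by norm_num) (fun k => ?_) ?_ ?_
      · exact absurd (Nat.le_of_dvd two_pos ((CharP.cast_eq_zero_iff F r 2).1 k)) (by omega)
      · rw [Nat.mod_eq_of_lt (by omega), Nat.mod_eq_of_lt (by omega)]
        decide
      · rw [Nat.mod_eq_of_lt (by omega)]
        decide
  have D := N2C.RD.nd_A hS.simple hS.nonab hr ha hF le_rfl (fun _ => by omega) e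
  refine good_few h C hS D.aut'.dvd (hr.coprime_iff_not_dvd.2 fun k => ?_) ((Nat.coprime_primes hr h.prime).2 h3)
    (h8.map e.symm.toMonoidHom e.symm.injective) ((Nat.card_congr (e.toEquiv.subtypeEquiv fun x => ?_)).trans_le
      (card_unip r h2)) ?_
  · have h10 : Nat.gcd 2 (r ^ a - 1) ≤ 2 := Nat.gcd_le_left _ two_pos
    have h11 : 0 < Nat.gcd 2 (r ^ a - 1) := Nat.gcd_pos_of_pos_left _ two_pos
    have h12 : r ∣ 1 * a * Nat.gcd 2 (r ^ a - 1) := k
    have h13 := Nat.le_of_dvd (by positivity) h12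
    nlinarith
  · exact e.map_eq_one_iff.symm.trans (map_pow e x r ▸ Iff.rfl)
  · have h10 := card_PSL2_odd F ho
    rw [Nat.card_congr e.toEquiv]
    generalize Fintype.card F = n at h7 h10
    obtain ⟨m, rfl⟩ := Nat.exists_eq_add_of_le' h7
    have h11 : 8 * Nat.card (PSL 2 F) ^ 2 = 2 * ((m + 7) * ((m + 7) ^ 2 - 1)) ^ 2 := by rw [← h10]; ring
    rw [h11, show (m + 7) ^ 2 - 1 = m ^ 2 + 14 * m + 48 from Nat.sub_eq_of_eq_add (by ring)]
    zify
    rw [← sub_nonneg]
    ring_nf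
    positivity

end Cfsg.Agent.N2.G2.L3
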