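import Cfsg.Agent.N2.G2.LocOB

/-!
# N2-G2, odd local subgroups (helper55)
-/

set_option autoImplicit false
set_option linter.unusedSectionVars false

namespace Cfsg.Agent.N2.G2

namespace LocO

open Subgroup Cfsg Cfsg.Agent.FP3
open Cfsg.Agent.SB.Low (EA Nz Cz)

variable {p k q t u h l r : ℕ} {T : Type} [Group T] [Finite T] {d : T → ℕ} {x e : T} {E : Subgroup T}

theorem ea_zp (hr : r.Prime) (he : orderOf e = r) : EA r (zpowers e) :=
  ⟨hr, fun h => hr.ne_one (by rw [← he, zpowers_eq_bot.1 h, orderOf_one]),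
    by rintro _ ⟨n, rfl⟩; exact orderOf_dvd_iff_pow_eq_one.1 (he ▸ orderOf_dvd_of_mem_zpowers ⟨n, rfl⟩),
    by rintro _ ⟨n, rfl⟩ _ ⟨m, rfl⟩; exact zpow_mul_comm e n m⟩

theorem pm (S : Sh p k q T d) (hc : (orderOf e).Coprime p) (hd : d e ≠ k + 1) {g : T} (hg : g ∈ Nz (zpowers e)) :
    g * e * g⁻¹ = e ∨ g * e * g⁻¹ = e⁻¹ := S.pm e hc hd _ (conj_mem hg (mem_zpowers e)) (isConj_iff.2 ⟨g, rfl⟩)

theorem nz_le (S : Sh p k q T d) (hc : (orderOf e).Coprime p) (hd : d e ≠ k + 1) : Nat.card (Nz (zpowers e)) ≤ 2 * cn e :=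
  (card_le _ e {e, e⁻¹} fun _ hg => pm S hc hd hg).trans (Nat.mul_le_mul_right _
    ((Set.ncard_insert_le _ _).trans (by rw [Set.ncard_singleton])))

theorem good_reg (S : Sh p k (t + 1) T d) (hn : tau k (t + 1) ^ 3 * (ww k * tau k (t + 1)) ≤ ord k (t + 1))
    (hc : (orderOf e).Coprime p) (hd : d e = k + 1) : Good (Nz (zpowers e)) :=
  good_of_cn (cen_le e (mem_cen.2 rfl)) (cn_reg S hc hd) (S.card ▸ (Nat.mul_le_mul_left _
    ((S.reg e hc hd).2.2.2.1.trans (Nat.mul_le_mul_left _ (cn_reg S hc hd)))).trans hn)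

theorem cyc3 (S : Sh p 3 (u + 1 + 1) T d) (hr : r.Prime) (r2 : r ≠ 2) (rp : r ≠ p) (he : orderOf e = r) :
    Good (Nz (zpowers e)) := by
  have hc : (orderOf e).Coprime p := he ▸ cop S hr rp
  have h1 : e ≠ 1 := ne_one_of he.symm.dvd hr.ne_one
  rcases S.cls e hc h1 with hd | hd | ⟨hd, -⟩ | ⟨-, hd⟩
  · exact good_reg S (reg3 u) hc hd
  · exact good_of_cn (cen_le e (mem_cen.2 rfl)) (cn_mild S hc hd) (S.card ▸ (Nat.mul_le_mul_left _
      ((nz_le S hc (by omega)).trans (Nat.mul_le_mul_left _ (cn_mild S hc hd)))).trans (mild3 u))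
  · obtain ⟨x, hx, hs⟩ := sm_bad S hr r2 rp he hd
    obtain ⟨g, hg⟩ := S.neg r _ (ea_zp hr he) r2 rp
    obtain ⟨m, n, b1, b2, -⟩ := bad S hc hd
    refine good_half (cen_le e hx) (fun y hy hxy => mem_cen.2 (comm_of_odd (pm S hc (by omega) hy) ?_))
      (two_le (cen_le e) (neg_mem hg) fun h => neg_not (ea_zp hr he) r2 hg ?_) (hs.le S)
      (by rw [S.card]; exact (Nat.mul_le_mul_left _ b2.le).trans (bad3 b1))
    · obtain ⟨c, rfl⟩ := isConj_iff.1 hxy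
      exact ((MulAut.conj c).orderOf_eq x).symm ▸ hs.odd
    · rintro _ ⟨n, rfl⟩
      exact ((show Commute g e from mem_cen.1 h).zpow_right n).eq.symm
  · exact (not_sq (he ▸ hr.odd_of_ne_two r2) h1 hd).elim

theorem mild_y (S : Sh p 1 (t + 1) T d) (ht : 2 ≤ t) (hr : r.Prime) (r2 : r ≠ 2) {m m' : ℕ}
    (hm : m = t ∧ m' = t + 2 ∨ m = t + 2 ∧ m' = t) (h1 : r ∣ m) (h2 : cn e = (t + 1) * (m * m') * m) :
    ∃ y ∈ centralizer {e}, (orderOf y).Coprime r ∧ (orderOf y).Coprime p ∧ ¬ orderOf y ∣ m := by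
  have a : ∀ {c : ℕ}, c ∣ m → c ∣ m' → c ∣ 2 := fun c1 c2 => by
    rcases hm with ⟨rfl, rfl⟩ | ⟨rfl, rfl⟩
    · exact (Nat.dvd_add_right c1).1 c2
    · exact (Nat.dvd_add_right c2).1 c1
  have b : ∀ {c : ℕ}, c.Prime → c ∣ m' → c ≠ p := fun hc c1 c2 => hc.ne_one (Nat.dvd_one.1 (by
    have c3 := c2 ▸ p_dvd S
    rcases hm with ⟨-, rfl⟩ | ⟨-, rfl⟩
    · exact (Nat.dvd_add_right c3).1 c1
    · exact (Nat.dvd_add_right c1).1 c3))
  have n2 : ∀ {c : ℕ}, c.Prime → c ≠ 2 → ¬ c ∣ 2 := fun hc c2 h => c2 ((Nat.prime_dvd_prime_iff_eq hc Nat.prime_two).1 h)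
  by_cases hl : ∃ l, l.Prime ∧ l ∣ m' ∧ l ≠ 2
  · obtain ⟨l, hl, h3, h4⟩ := hl
    obtain ⟨y, hy, ho⟩ := exists_ord (centralizer {e}) hl (h2 ▸ ((h3.mul_left _).mul_left _).mul_right _ : l ∣ cn e)
    exact ⟨y, hy, ho ▸ (Nat.coprime_primes hl hr).2 fun h => n2 hl h4 (a (h ▸ h1) h3), ho ▸ cop S hl (b hl h3),
      ho ▸ fun h => n2 hl h4 (a h h3)⟩
  · have h3 := Nat.eq_prime_pow_of_unique_prime_dvd (n := m') (p := 2) (by omega) fun {c} c1 c2 =>
      not_not.1 fun c3 => hl ⟨c, c1, c2, c3⟩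
    generalize m'.primeFactorsList.length = j at h3
    have h4 : 2 ^ 2 ∣ m' := h3 ▸ pow_dvd_pow 2 (not_lt.1 fun h4 => by
      obtain rfl : m = 2 ^ 2 := by interval_cases j <;> omega
      exact n2 hr r2 (hr.dvd_of_dvd_pow h1))
    obtain ⟨c, hc⟩ : 2 ∣ m := by omega
    obtain ⟨c', hc'⟩ := h4
    have hp : 2 ≠ p := b Nat.prime_two (by omega)
    obtain ⟨y, hy, h5, h6⟩ := exists_four (centralizer {e}) (h2 ▸ ⟨(t + 1) * c * c' * c, by rw [hc, hc']; ring⟩ : 2 ^ 4 ∣ cn e)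
      (S.rk2 hp.symm)
    refine ⟨y, hy, (((Nat.coprime_primes Nat.prime_two hr).2 r2.symm).pow_left 4).coprime_dvd_left h6,
      ((cop S Nat.prime_two hp).pow_left 4).coprime_dvd_left h6, fun h => ?_⟩
    have := a (h5.trans h) ⟨c', hc'⟩
    omega

theorem mild_k1 (S : Sh p 1 (u + 2 + 1) T d) (hr : r.Prime) (r2 : r ≠ 2) (rp : r ≠ p) (he : orderOf e = r) (hd : d e = 1 + 3) :
    Good (Nz (zpowers e)) := by
  have hc : (orderOf e).Coprime p := he ▸ cop S hr rp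
  obtain ⟨m, hm, h1, h2⟩ := S.mild e hc hd
  have h3 : r ∣ m := he ▸ orderOf_dvd_of_pow_eq_one h2
  obtain ⟨m', hm', h4⟩ : ∃ m', (m = u + 2 ∧ m' = u + 2 + 2 ∨ m = u + 2 + 2 ∧ m' = u + 2) ∧ (u + 2) * (u + 2 + 2) = m * m' := by
    rw [pow_one] at hm
    rcases hm with rfl | rfl
    · exact ⟨_, .inl ⟨rfl, rfl⟩, rfl⟩
    · exact ⟨_, .inr ⟨rfl, rfl⟩, mul_comm _ _⟩
  rw [s2, h4] at h1
  obtain ⟨y, hy, c1, c2, c3⟩ := mild_y S (by omega) hr r2 hm' h3 h1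
  have c := (mem_cen.1 hy).symm
  have ho : orderOf (e * y) = r * orderOf y := by
    rw [(show Commute e y from c).orderOf_mul_eq_mul_orderOf_of_coprime (he ▸ c1.symm), he]
  have hx : (orderOf (e * y)).Coprime p := ho ▸ Nat.Coprime.mul_left (cop S hr rp) c2
  obtain ⟨j, hj⟩ := pow_left c (he ▸ c1)
  have h5 := S.pow (e * y) j
  rw [hj, hd] at h5
  refine good_of_cn (cen_le e (mul_mem (mem_cen.2 rfl) hy)) (cn_reg S hx ?_) (S.card ▸ (Nat.mul_le_mul_left _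
    ((nz_le S hc (by omega)).trans (Nat.mul_le_mul_left _ (cn_mild S hc hd)))).trans (mild1 u))
  rcases S.cls _ hx (ne_one_of (ho ▸ Dvd.intro _ rfl) hr.ne_one) with h | h | ⟨h, -⟩ | ⟨h, -⟩
  · exact h
  · obtain ⟨n, hn, -, h6⟩ := S.mild _ hx h
    have h7 := ho ▸ orderOf_dvd_of_pow_eq_one h6
    have h8 : r ∣ n := (Dvd.intro _ rfl).trans h7
    rw [pow_one] at hn
    by_cases h9 : n = m
    · exact (c3 (h9 ▸ (Dvd.intro_left _ rfl).trans h7)).elim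
    · have h10 : n = m + 2 ∨ m = n + 2 := by omega
      refine (r2 ((Nat.prime_dvd_prime_iff_eq hr Nat.prime_two).1 ?_)).elim
      rcases h10 with h | h
      · exact (Nat.dvd_add_right h3).1 (h ▸ h8)
      · exact (Nat.dvd_add_right h8).1 (h ▸ h3)
  · omega
  · omega

theorem bad_k1 (S : Sh p 1 (t + 1) T d) (ht : 2 ≤ t) (rp : 3 ≠ p) (he : orderOf e = 3) (hd : d e = 8) :
    Good (Nz (zpowers e)) := by
  have hc : (orderOf e).Coprime p := he ▸ cop S Nat.prime_three rp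
  obtain ⟨m, hm, h1⟩ := S.bad1 rfl e hc hd
  obtain ⟨h, H, h2⟩ : ∃ h, Hi t h ∧ h ∣ m := by
    rcases hm with ⟨rfl, -⟩ | ⟨rfl, -⟩
    · exact ⟨_, .inl rfl, s3 t ▸ Dvd.intro_left _ rfl⟩
    · exact ⟨_, .inr rfl, sc t ▸ Dvd.intro_left _ rfl⟩
  obtain ⟨l, hl, h5, h3⟩ := H.big (by omega) (by rcases H with rfl | rfl <;> nlinarith)
  obtain ⟨x, hx, ho⟩ := exists_ord (centralizer {e}) hl (h1 ▸ (h3.trans h2).mul_left _ : l ∣ cn e)
  have hx' : (orderOf x).Coprime p := ho ▸ cop S hl (H.ne S hl h3)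
  have n1 : ¬ l ∣ t := fun h => not_dvd3 h5 (H.lo h3 h)
  have n2 : ¬ l ∣ t + 2 := fun h => not_dvd3 h5 (H.up h3 h)
  have hreg : d x = 1 + 1 := by
    rcases S.cls x hx' (ne_one_of ho.symm.dvd hl.ne_one) with h | h | ⟨-, h⟩ | ⟨-, h⟩
    · exact h
    · obtain ⟨n, hn, -, h6⟩ := S.mild _ hx' h
      have h7 := ho ▸ orderOf_dvd_of_pow_eq_one h6
      rw [pow_one] at hn
      rcases hn with rfl | rfl
      · exact (n1 h7).elim
      · exact (n2 h7).elim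
    · exact (not_dvd3 h5 (ho ▸ orderOf_dvd_of_pow_eq_one (h rfl))).elim
    · have := Nat.le_of_dvd (by decide) (ho ▸ orderOf_dvd_of_pow_eq_one h)
      omega
  obtain ⟨a1, -, a2, -⟩ := S.reg x hx' hreg
  have h4 : l ∣ cn x := ho ▸ ord_dvd (mem_cen.2 rfl)
  have h9 : ¬ 3 ^ 2 ∣ cn x := by
    rcases tor1 a2 with a | a | a | a | a <;> rw [a] at h4 ⊢
    · exact (n1 (hl.dvd_of_dvd_pow h4)).elim
    · exact (n2 (hl.dvd_of_dvd_pow h4)).elim
    · exact ((hl.dvd_mul.1 h4).elim n1 n2).elim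
    · exact Hi.nine (.inl rfl)
    · exact Hi.nine (.inr rfl)
  refine good_of_one (cen_le e hx) (fx_le_one fun g hg => mem_nz ?_)
  have h6 := comm_of_odd (pm S hc (by omega) hg) (by
    rw [show g⁻¹ * x * g = MulAut.conj g⁻¹ x by simp, MulEquiv.orderOf_eq, ho]; exact hl.odd_of_ne_two (by omega))
  have h7 : g * e * g⁻¹ ∈ centralizer {x} := mem_cen.2 (by
    calc g * e * g⁻¹ * x = g * (e * (g⁻¹ * x * g)) * g⁻¹ := by group
      _ = _ := by rw [← h6]; group)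
  have h8 : e ∈ centralizer {x} := mem_cen.2 (mem_cen.1 hx).symm
  exact mem_zp Nat.prime_three h8 h7 he (((MulAut.conj g).orderOf_eq e).trans he) (a1 _ h7 _ h8) h9

theorem cyc1 (S : Sh p 1 (u + 2 + 1) T d) (hr : r.Prime) (r2 : r ≠ 2) (rp : r ≠ p) (he : orderOf e = r) :
    Good (Nz (zpowers e)) := by
  have hc : (orderOf e).Coprime p := he ▸ cop S hr rp
  have h1 : e ≠ 1 := ne_one_of he.symm.dvd hr.ne_one
  rcases S.cls e hc h1 with hd | hd | ⟨hd, h3⟩ | ⟨-, hd⟩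
  · exact good_reg S (reg1 u) hc hd
  · exact mild_k1 S hr r2 rp he hd
  · obtain rfl := (Nat.prime_dvd_prime_iff_eq hr Nat.prime_three).1 (he ▸ orderOf_dvd_of_pow_eq_one (h3 rfl))
    exact bad_k1 S (by omega) rp he hd
  · exact (not_sq (he ▸ hr.odd_of_ne_two r2) h1 hd).elim

theorem tor' (S : Sh p k (t + 1) T d) (hE : EA r E) (r2 : r ≠ 2) (rp : r ≠ p) (hc : Nat.card E = r ^ 2) :
    E ≤ Cz E ∧ (∀ a ∈ Cz E, ∀ b ∈ Cz E, a * b = b * a) ∧ (Nat.card (Cz E)).Coprime p ∧ Tor k (t + 1) (Nat.card (Cz E)) ∧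
      Nz E ≤ Nz (Cz E) ∧ (Cz E).relIndex (Nz E) ∣ 192 ∧ Nat.card (Nz E) ≤ ww k * Nat.card (Cz E) := by
  obtain ⟨B, b1, b2, b3, b4, b5, b6, b7, b8, b9, -⟩ := S.tor r E hE rp hc
  obtain rfl : B = Cz E := le_antisymm b2 (b9 r2)
  exact ⟨b1, b3, b4, b5, b6, b7, (card_eq (Cz E) (Nz E)).trans_le (Nat.mul_le_mul b8 (card_le_of_le inf_le_left))⟩

theorem sq_k3 (S : Sh p 3 (u + 1 + 1) T d) (hE : EA r E) (r2 : r ≠ 2) (rp : r ≠ p) (hc : Nat.card E = r ^ 2) : Good (Nz E) := by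
  obtain ⟨b1, b2, b3, b4, -, -, b5⟩ := tor' S hE r2 rp hc
  have k : (∃ x ∈ Cz E, Sm p d x) → Good (Nz E) := fun ⟨x, hx, hs⟩ =>
    good_of_cn (centralizer_le_normalizer _ hx) (hs.le S) (S.card ▸ (Nat.mul_le_mul_left _
      (b5.trans (Nat.mul_le_mul_left _ (tor_le b4)))).trans (sq3 u))
  by_cases r3 : r = 3
  · subst r3
    have h9 : 3 ^ 2 ∣ Nat.card (Cz E) := hc ▸ card_dvd_of_le b1
    have k' : ∀ h, Hi (u + 1) h → h ≠ 3 → h ∣ Nat.card (Cz E) → Good (Nz E) := fun h H h3 h1 => by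
      obtain ⟨l, hl, h5, h2⟩ := H.big (by omega) h3
      exact k (sm_ye S hE rp b3 H hl h5 h2 (h2.trans h1))
    have n1 : (u + 1) ^ 2 + 3 * (u + 1) + 3 ≠ 3 := by omega
    by_cases hu : u = 0
    · subst hu
      have hp := p_two S
      subst hp
      have h27 : Nat.card (Cz E) = 3 ^ 2 ∨ Nat.card (Cz E) = 3 ^ 3 := by
        rcases tor3 b4 with a | a | a | a | a | a | a <;> rw [a] at h9 ⊢ <;> revert h9 <;> decide
      rcases h27 with a | a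
      · obtain ⟨x, hx, h1⟩ := sp9 S hE hc a
        refine good_of_cn hx h1 (S.card ▸ (Nat.mul_le_mul_left _ b5).trans ?_)
        rw [a]; decide
      · obtain ⟨y, hy, h1⟩ := exists_sq Nat.prime_three (Cz E) (fun _ => b2) (S.rk 3 Nat.prime_three r2 rp)
          (by rw [a]; decide) a.dvd
        exact k ⟨y, hy, sm9 S h1.1 h1.2⟩
    · have n2 : (u + 1) ^ 2 + (u + 1) + 1 ≠ 3 := by
        have : 2 * 2 ≤ (u + 1) ^ 2 := pow_two (u + 1) ▸ Nat.mul_le_mul (by omega) (by omega)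
        omega
      rcases tor3 b4 with a | a | a | a | a | a | a
      · exact k' _ (.inl rfl) n1 (a ▸ (Dvd.intro_left _ rfl).mul_right _)
      · exact k' _ (.inl rfl) n1 (a ▸ (Dvd.intro_left _ rfl).mul_right _)
      · exact k' _ (.inr rfl) n2 (a ▸ (Dvd.intro_left _ rfl).mul_right _)
      · exact k' _ (.inr rfl) n2 (a ▸ (Dvd.intro_left _ rfl).mul_right _)
      · exact k' _ (.inl rfl) n1 (a ▸ dvd_pow_self _ (by decide))
      · exact k' _ (.inr rfl) n2 (a ▸ dvd_pow_self _ (by decide))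
      · exfalso
        rw [a] at h9
        obtain ⟨c, b, hb, rfl⟩ : ∃ c b, b < 3 ∧ u = 3 * c + b := ⟨u / 3, u % 3, by omega, by omega⟩
        interval_cases b <;> ring_nf at h9 <;> omega
  · obtain ⟨x, hx, hs⟩ := sm_sq S hE (hE.prime.five_le_of_ne_two_of_ne_three r2 r3) rp hc
    exact k ⟨x, b1 hx, hs⟩

theorem sq_k1 (S : Sh p 1 (u + 2 + 1) T d) (hE : EA r E) (h5 : 5 ≤ r) (rp : r ≠ p) (hc : Nat.card E = r ^ 2) : Good (Nz E) := by
  obtain ⟨b1, b2, b3, b4, b6, b7, b5⟩ := tor' S hE (by omega) rp hc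
  obtain ⟨x, hx, h1⟩ := (E.bot_or_exists_ne_one).resolve_left hE.ne_bot
  have ho := ea_ord hE hx h1
  have hx' : (orderOf x).Coprime p := ho ▸ cop S hE.prime rp
  obtain ⟨g, hg⟩ := S.neg r E hE (by omega) rp
  have h2 : cn x ≤ cm 1 (u + 2 + 1) := by
    rcases S.cls x hx' h1 with h | h | ⟨-, h⟩ | ⟨-, h⟩
    · exact (cn_reg S hx' h).trans (cm_lt u).1
    · exact cn_mild S hx' h
    · exact (not_dvd3 h5 (ho ▸ orderOf_dvd_of_pow_eq_one (h rfl))).elim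
    · exact (not_sq (ho ▸ hE.prime.odd_of_ne_two (by omega)) h1 h).elim
  refine good_half (le_normalizer hx) (fun y hy hxy => mem_of_cop b6 hy ?_)
    (two_le (centralizer_le_normalizer _) (neg_mem hg) (neg_not hE (by omega) hg)) h2
    (S.card ▸ (Nat.mul_le_mul_left _ (tor_le b4)).trans (sq1 u))
  obtain ⟨c, rfl⟩ := isConj_iff.1 hxy
  rw [show orderOf (c * x * c⁻¹) = r from ((MulAut.conj c).orderOf_eq x).trans ho]
  refine Nat.Coprime.coprime_dvd_right b7 (Nat.Coprime.mul_right (m := 2 ^ 6) (n := 3) (Nat.Coprime.pow_right _ ?_) ?_)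
  · exact (Nat.coprime_primes hE.prime Nat.prime_two).2 (by omega)
  · exact (Nat.coprime_primes hE.prime Nat.prime_three).2 (by omega)

theorem no33 (S : Sh p 1 (u + 2 + 1) T d) {Γ : Subgroup (MulAut T)} (L : Loc Γ E 3) (rp : 3 ≠ p) (hc : Nat.card E = 3 ^ 2) :
    False := by
  obtain ⟨e, he, hd, h⟩ := S.g33 rfl rp.symm E L.toEA hc
  have h1 : e ≠ 1 := fun h1 => by
    have := S.unip e 0 (by rw [h1, one_pow])
    rw [pow_zero] at this
    omega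
  have ho := ea_ord L.toEA he h1
  have hi : Inv Γ (zpowers e) := by
    rintro σ hσ _ ⟨n, rfl⟩
    rw [map_zpow]
    refine zpow_mem (h _ (L.inv σ hσ e he) ?_) n
    have h2 : orderOf (σ e) = 3 := (σ.orderOf_eq e).trans ho
    have h3 : (orderOf (σ e)).Coprime p := h2 ▸ cop S Nat.prime_three rp
    obtain ⟨m, hm, h4⟩ := S.bad1 rfl e (ho ▸ cop S Nat.prime_three rp) hd
    have h5 : cm 1 (u + 2 + 1) < cn (σ e) := by
      rw [cn_congr σ e, h4]
      exact (cm_lt u).2.trans_le (Nat.mul_le_mul_left _ (by omega))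
    have h6 : σ e ≠ 1 := ne_one_of h2.symm.dvd (by decide)
    rcases S.cls _ h3 h6 with h | h | ⟨h, -⟩ | ⟨-, h⟩
    · exact absurd ((cn_reg S h3 h).trans (cm_lt u).1) (not_le.2 h5)
    · exact absurd (cn_mild S h3 h) (not_le.2 h5)
    · exact h
    · exact (not_sq (by rw [h2]; decide) h6 h).elim
  rcases L.min _ (zpowers_le.2 he) hi with h2 | h2
  · exact h1 (zpowers_eq_bot.1 h2)
  · rw [← h2, Nat.card_zpowers, ho] at hc
    omega

end LocO

open LocO Subgroup in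
/-- **odd local subgroups** -/
theorem boxLocO : BoxLocO := by
  intro p k q T _ _ _ d A Γ S C E r L r2
  have rp := L.ne C
  obtain rfl := L.norm C
  have := Fact.mk L.prime
  obtain ⟨j, hj⟩ := IsPGroup.iff_card.1 (ea_pgroup L.toEA)
  have h1 : j ≤ 2 := (Nat.pow_le_pow_iff_right L.prime.one_lt).1
    (hj ▸ S.rk r L.prime r2 rp E ⟨⟨fun x y => Subtype.ext (L.comm x x.2 y y.2)⟩⟩ L.pow)
  obtain ⟨e, he, h2⟩ := (E.bot_or_exists_ne_one).resolve_left L.ne_bot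
  have ho := ea_ord L.toEA he h2
  by_cases h3 : j = 2
  · subst h3
    rcases S.par with ⟨rfl, hq⟩ | ⟨rfl, hq⟩
    · obtain ⟨u, rfl⟩ : ∃ u, q = u + 2 + 1 := ⟨q - 3, by omega⟩
      by_cases r3 : r = 3
      · subst r3
        exact (no33 S L rp hj).elim
      · exact sq_k1 S L.toEA (L.prime.five_le_of_ne_two_of_ne_three r2 r3) rp hj
    · obtain ⟨u, rfl⟩ : ∃ u, q = u + 1 + 1 := ⟨q - 2, by omega⟩
      exact sq_k3 S L.toEA r2 rp hj
  · obtain rfl : zpowers e = E := eq_of_le_of_card_ge (zpowers_le.2 he) (by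
      rw [hj, Nat.card_zpowers, ho]
      exact (Nat.pow_le_pow_right L.prime.pos (by omega : j ≤ 1)).trans (pow_one r).le)
    rcases S.par with ⟨rfl, hq⟩ | ⟨rfl, hq⟩
    · obtain ⟨u, rfl⟩ : ∃ u, q = u + 2 + 1 := ⟨q - 3, by omega⟩
      exact cyc1 S L.prime r2 rp ho
    · obtain ⟨u, rfl⟩ : ∃ u, q = u + 1 + 1 := ⟨q - 2, by omega⟩
      exact cyc3 S L.prime r2 rp ho

end Cfsg.Agent.N2.G2
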