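import Cfsg.Agent.N2.G2.LocOA
import Cfsg.Agent.N2.G2.LocON

/-!
# N2-G2, odd local subgroups: elements with small centralisers (helper55)
-/

set_option autoImplicit false
set_option linter.unusedSectionVars false

namespace Cfsg.Agent.N2.G2.LocO

open Subgroup Cfsg Cfsg.Agent.FP3
open Cfsg.Agent.SB.Low (EA Nz Cz)

variable {p k q t u h l r : ℕ} {T : Type} [Group T] [Finite T] {d : T → ℕ} {x e : T} {E : Subgroup T}

theorem cn_reg (S : Sh p k (t + 1) T d) (hx : (orderOf x).Coprime p) (h : d x = k + 1) : cn x ≤ tau k (t + 1) :=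
  tor_le (S.reg x hx h).2.2.1

theorem cn_mild (S : Sh p k q T d) (hx : (orderOf x).Coprime p) (h : d x = k + 3) : cn x ≤ cm k q := by
  obtain ⟨m, hm, h1, -⟩ := S.mild x hx h
  rw [h1]
  exact Nat.mul_le_mul_left _ (by omega)

theorem p_dvd (S : Sh p k q T d) : p ∣ q := by
  obtain ⟨f, hf, h⟩ := S.pw
  exact h ▸ dvd_pow_self p hf.ne'

theorem p_two (S : Sh p k (1 + 1) T d) : p = 2 := (Nat.prime_dvd_prime_iff_eq S.prime Nat.prime_two).1 (p_dvd S)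

theorem cop (S : Sh p k q T d) (hl : l.Prime) (h : l ≠ p) : l.Coprime p := (Nat.coprime_primes hl S.prime).2 h

theorem Hi.ne (H : Hi t h) (S : Sh p k (t + 1) T d) (hl : l.Prime) (h1 : l ∣ h) : l ≠ p := fun e =>
  hl.ne_one (Nat.dvd_one.1 (H.mid h1 (e ▸ p_dvd S)))

theorem not_sq (ho : Odd (orderOf x)) (h1 : x ≠ 1) : x ^ 2 ≠ 1 := fun h =>
  h1 (orderOf_eq_one_iff.1 (Nat.eq_one_of_dvd_coprimes (Nat.coprime_two_right.2 ho) dvd_rfl (orderOf_dvd_of_pow_eq_one h)))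

theorem ne_one_of {n : ℕ} (h : n ∣ orderOf x) (hn : n ≠ 1) : x ≠ 1 := fun e => hn (by rwa [e, orderOf_one, Nat.dvd_one] at h)

/-- odd order, prime to `p`, not bad -/
structure Sm (p : ℕ) (d : T → ℕ) (x : T) : Prop where
  odd : Odd (orderOf x)
  cop : (orderOf x).Coprime p
  ne : x ≠ 1
  nb : d x ≠ 10

theorem Sm.le (S : Sh p 3 (u + 1 + 1) T d) (h : Sm p d x) : cn x ≤ cm 3 (u + 1 + 1) := by
  rcases S.cls x h.cop h.ne with h1 | h1 | ⟨h1, -⟩ | ⟨-, h1⟩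
  · exact (cn_reg S h.cop h1).trans (tau_cm u)
  · exact cn_mild S h.cop h1
  · exact (h.nb h1).elim
  · exact (not_sq h.odd h.ne h1).elim

theorem bad (S : Sh p 3 q T d) (hx : (orderOf x).Coprime p) (h : d x = 10) :
    ∃ m n, Bd q m n ∧ cn x = m * n ∧ orderOf x ∣ m := by
  obtain ⟨m, n, z, h1, h2, h3, h4, -⟩ := S.bad3 rfl x hx h
  exact ⟨m, n, h1, h2, h3 ▸ orderOf_dvd_of_mem_zpowers h4⟩

theorem ea_ord (h : EA r E) (hx : x ∈ E) (h1 : x ≠ 1) : orderOf x = r :=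
  have := Fact.mk h.prime
  orderOf_eq_prime (h.pow x hx) h1

theorem sm_sq (S : Sh p 3 q T d) (h : EA r E) (h5 : 5 ≤ r) (hp : r ≠ p) (hc : Nat.card E = r ^ 2) : ∃ x ∈ E, Sm p d x := by
  obtain ⟨x, hx, h1, h2⟩ := S.sq rfl r E h h5 hp hc
  have h3 := ea_ord h hx h1
  exact ⟨x, hx, h3 ▸ h.prime.odd_of_ne_two (by omega), h3 ▸ cop S h.prime hp, h1, by omega⟩

theorem k3 (S : Sh p 3 (t + 1) T d) (H : Hi t h) (hl : l.Prime) (h5 : 5 ≤ l) (h1 : l ∣ h) {K : Subgroup T}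
    (hK : h * h ∣ Nat.card K) : ∃ x ∈ K, Sm p d x := by
  have hp := H.ne S hl h1
  have h0 : h ≠ 0 := by rcases H with rfl | rfl <;> omega
  have h2 : l ^ (h.factorization l + 1) ∣ Nat.card K :=
    (pow_succ l _ ▸ mul_dvd_mul (Nat.ordProj_dvd h l) h1).trans hK
  rcases pg K hl (by omega) h2 with ⟨x, hx, ho⟩ | ⟨P, E, e1, e2, -, e3, e4, -⟩
  · have hc : (orderOf x).Coprime p := ho ▸ (cop S hl hp).pow_left _
    have h3 : l ∣ orderOf x := ho ▸ dvd_pow_self l (Nat.succ_ne_zero _)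
    refine ⟨x, hx, ho ▸ (hl.odd_of_ne_two (by omega)).pow, hc, ne_one_of h3 hl.ne_one, fun hd => ?_⟩
    obtain ⟨m, n, b1, -, b2⟩ := bad S hc hd
    rw [(H.bd h5 h1 b1 (h3.trans b2)).1, ho] at b2
    exact Nat.pow_succ_factorization_not_dvd h0 hl b2
  · obtain ⟨x, hx, h3⟩ := sm_sq S e3 h5 hp e4
    exact ⟨x, e2 (e1 hx), h3⟩

theorem sm9 (S : Sh p 3 (1 + 1) T d) {n : ℕ} (h1 : 3 ^ 2 ∣ orderOf x) (h2 : orderOf x ∣ 3 ^ n) : Sm p d x := by
  obtain rfl := p_two S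
  have hc : (orderOf x).Coprime 2 := (Nat.Coprime.pow_left n (by decide)).coprime_dvd_left h2
  refine ⟨Nat.coprime_two_right.1 hc, hc, ne_one_of h1 (by decide), fun hd => ?_⟩
  obtain ⟨m, n, b1, -, b2⟩ := bad S hc hd
  have := h1.trans b2
  rcases bd b1 with ⟨rfl | rfl, -⟩ | ⟨rfl, -⟩ | ⟨rfl, -⟩ <;> omega

theorem k9 (S : Sh p 3 (1 + 1) T d) {K : Subgroup T} (hK : 3 ^ 4 ∣ Nat.card K) : ∃ x ∈ K, Sm p d x := by
  have hp : 3 ≠ p := by rw [p_two S]; decide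
  rcases pg K Nat.prime_three (by decide) hK with ⟨x, hx, ho⟩ | ⟨P, E, -, e2, e5, e3, e4, e6⟩
  · exact ⟨x, hx, sm9 S (by rw [ho]; decide) ho.dvd⟩
  · obtain ⟨B, -, -, b1, -, -, b2, b3, -⟩ := S.tor 3 E e3 hp e4
    have h1 := card_eq B P
    have h2 : B.relIndex P ∣ 3 := by
      have h3 := Nat.dvd_gcd ((relIndex_dvd b2 e6).trans b3) (Dvd.intro _ (h1.symm.trans e5))
      exact h3
    have h4 := Nat.le_of_dvd (by decide) h2
    obtain ⟨y, hy, h5⟩ := exists_sq Nat.prime_three (B ⊓ P) (fun _ x hx y hy => b1 x hx.1 y hy.1)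
      (S.rk 3 Nat.prime_three (by decide) hp) (by rw [e5] at h1; nlinarith) (Dvd.intro_left _ (h1.symm.trans e5))
    exact ⟨y, e2 hy.2, sm9 S h5.1 h5.2⟩

theorem sm_mul (S : Sh p 3 q T d) (hr : r.Prime) (hl : l.Prime) (r2 : r ≠ 2) (l2 : l ≠ 2) (rp : r ≠ p) (lp : l ≠ p)
    (rl : r ≠ l) (he : orderOf e = r) (h1 : l ∣ cn e) (h2 : ∀ m n, Bd q m n → r ∣ m → ¬ l ∣ m) :
    ∃ x ∈ centralizer {e}, Sm p d x := by
  obtain ⟨y, hy, ho⟩ := exists_ord _ hl h1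
  have h3 : orderOf (e * y) = r * l := by
    rw [(show Commute e y from (mem_cen.1 hy).symm).orderOf_mul_eq_mul_orderOf_of_coprime
      (by rw [he, ho]; exact (Nat.coprime_primes hr hl).2 rl), he, ho]
  have hc : (orderOf (e * y)).Coprime p := h3 ▸ Nat.Coprime.mul_left (cop S hr rp) (cop S hl lp)
  refine ⟨e * y, mul_mem (mem_cen.2 rfl) hy, h3 ▸ (hr.odd_of_ne_two r2).mul (hl.odd_of_ne_two l2), hc,
    ne_one_of (h3 ▸ Dvd.intro _ rfl) hr.ne_one, fun hd => ?_⟩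
  obtain ⟨m, n, b1, -, b2⟩ := bad S hc hd
  rw [h3] at b2
  exact h2 m n b1 ((Dvd.intro _ rfl).trans b2) ((Dvd.intro_left _ rfl).trans b2)

theorem sm_bad (S : Sh p 3 (u + 1 + 1) T d) (hr : r.Prime) (r2 : r ≠ 2) (rp : r ≠ p) (he : orderOf e = r) (hd : d e = 10) :
    ∃ x ∈ centralizer {e}, Sm p d x := by
  obtain ⟨m, n, b1, b2, b3⟩ := bad S (he ▸ cop S hr rp) hd
  rw [he] at b3
  have n1 : ∀ {a : ℕ}, a.Prime → ¬ a ∣ 1 := fun ha h => ha.ne_one (Nat.dvd_one.1 h)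
  have n2 : ¬ r ∣ 2 := fun h => r2 ((Nat.prime_dvd_prime_iff_eq hr Nat.prime_two).1 h)
  have k : ∀ h, Hi (u + 1) h → h * h ∣ cn e → (h = 3 → 3 ^ 4 ∣ cn e) → ∃ x ∈ centralizer {e}, Sm p d x := fun h H h1 h2 => by
    by_cases h3 : h = 3
    · obtain rfl : u = 0 := by rcases H with H | H <;> nlinarith
      exact k9 S (h2 h3)
    · obtain ⟨l, hl, h5, h4⟩ := H.big (by omega) h3
      exact k3 S H hl h5 h4 h1
  generalize ht : u + 1 = t at *
  have a1 : ∀ {a : ℕ}, a ∣ t ^ 2 + t + 1 → a ∣ t → a ∣ 1 := fun h1 h2 => lin 1 1 (-(t + 1)) h1 h2 (by push_cast; ring)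
  have a2 : ∀ {a : ℕ}, a ∣ t ^ 2 + 3 * t + 3 → a ∣ t + 2 → a ∣ 1 := fun h1 h2 => lin 1 1 (-(t + 1)) h1 h2 (by push_cast; ring)
  have a3 : ∀ {a : ℕ}, a ∣ t + 2 → a ∣ t → a ∣ 2 := fun h1 h2 => (Nat.dvd_add_right h2).1 h1
  rcases bd b1 with ⟨rfl | rfl, rfl⟩ | ⟨rfl, rfl⟩ | ⟨rfl, rfl⟩
  · obtain ⟨l, hl, h1⟩ := Nat.exists_prime_and_dvd (n := m ^ 2 + m + 1) (by omega)
    refine sm_mul S hr hl r2 (fun e => Hi.odd (.inr rfl) (e ▸ h1)) rp (Hi.ne (.inr rfl) S hl h1)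
      (fun e => n1 hr (a1 (e ▸ h1) b3)) he (b2 ▸ ((h1.mul_left _).mul_left _).mul_left _) fun m' n' B h2 h3 => ?_
    rcases bd B with ⟨rfl | rfl, -⟩ | ⟨rfl, -⟩ | ⟨rfl, -⟩
    · exact n1 hl (a1 h1 h3)
    · exact n2 (a3 h2 b3)
    · exact hl.ne_one (both h3 h1)
    · exact n1 hr (a1 h2 b3)
  · obtain ⟨l, hl, h1⟩ := Nat.exists_prime_and_dvd (n := t ^ 2 + 3 * t + 3) (by omega)
    refine sm_mul S hr hl r2 (fun e => Hi.odd (.inl rfl) (e ▸ h1)) rp (Hi.ne (.inl rfl) S hl h1)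
      (fun e => n1 hr (a2 (e ▸ h1) b3)) he (b2 ▸ (((h1.mul_left _).mul_right _).mul_left _).mul_left _) fun m' n' B h2 h3 => ?_
    rcases bd B with ⟨rfl | rfl, -⟩ | ⟨rfl, -⟩ | ⟨rfl, -⟩
    · exact n2 (a3 b3 h2)
    · exact n1 hl (a2 h1 h3)
    · exact n1 hr (a2 h2 b3)
    · exact hl.ne_one (both h1 h3)
  · exact k _ (.inl rfl) (b2 ▸ mul_dvd_mul_left _ ((Dvd.intro_left _ rfl).mul_left _)) fun h => by omega
  · refine k _ (.inr rfl) (b2 ▸ mul_dvd_mul_left _ ((Dvd.intro_left _ rfl).mul_left _)) fun h => ?_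
    obtain rfl : t = 1 := by nlinarith
    rw [b2]; decide

theorem sm_ye (S : Sh p 3 (t + 1) T d) (hE : EA 3 E) (hp : 3 ≠ p) (hc : (Nat.card (Cz E)).Coprime p) (H : Hi t h) (hl : l.Prime)
    (h5 : 5 ≤ l) (h1 : l ∣ h) (h2 : l ∣ Nat.card (Cz E)) : ∃ x ∈ Cz E, Sm p d x := by
  by_contra hn
  obtain ⟨y, hy, ho⟩ := exists_ord _ hl h2
  have k : ∀ e ∈ E, centralizer {y * e} ≤ centralizer {y} ∧ ∃ m n, Bd (t + 1) m n ∧ cn (y * e) = m * n ∧ l ∣ m := fun e he => by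
    have c : y * e = e * y := (hy e he).symm
    have h3 : orderOf e ∣ 3 := orderOf_dvd_of_pow_eq_one (hE.pow e he)
    obtain ⟨j, hj⟩ := pow_left c (ho ▸ ((Nat.coprime_primes Nat.prime_three hl).2 (by omega)).coprime_dvd_left h3)
    have h4 : l ∣ orderOf (y * e) := by
      rw [← ho]; nth_rewrite 1 [← hj]; exact orderOf_pow_dvd j
    have h6 : orderOf (y * e) ∣ l * 3 :=
      (show Commute y e from c).orderOf_mul_dvd_mul_orderOf.trans (ho ▸ mul_dvd_mul_left _ h3)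
    have h7 := (Nat.Coprime.mul_left (cop S hl (H.ne S hl h1)) (cop S Nat.prime_three hp)).coprime_dvd_left h6
    have h8 : d (y * e) = 10 := by
      by_contra h8
      exact hn ⟨y * e, mul_mem hy fun z hz => hE.comm z hz e he,
        ((hl.odd_of_ne_two (by omega)).mul (by decide)).of_dvd_nat h6, h7, ne_one_of h4 hl.ne_one, h8⟩
    obtain ⟨m, n, b1, b2, b3⟩ := bad S h7 h8
    exact ⟨(cen_pow _ j).trans (by rw [hj]), m, n, b1, b2, h4.trans b3⟩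
  obtain ⟨-, m, n, b1, b2, b3⟩ := k 1 E.one_mem
  rw [mul_one] at b2
  have h3 : centralizer {y} ≤ Cz E := fun g hg e he => by
    obtain ⟨c1, m', n', c2, c3, c4⟩ := k e he
    have h4 : centralizer {y * e} = centralizer {y} := eq_of_le_of_card_ge c1
      (b2.trans (((H.bd h5 h1 b1 b3).2 m' n' c2 c4).symm.trans c3.symm)).le
    have h6 := mem_cen.1 (h4 ▸ hg : g ∈ centralizer {y * e})
    rw [← mul_assoc, mem_cen.1 hg, mul_assoc, mul_assoc] at h6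
    exact (mul_left_cancel h6).symm
  have h4 : p ∣ Nat.card (Cz E) := ((p_dvd S).trans ((bd_dvd b1).mul_left m)).trans (b2 ▸ card_dvd_of_le h3)
  exact S.prime.ne_one (Nat.eq_one_of_dvd_coprimes hc h4 dvd_rfl)

theorem no_big (S : Sh 2 3 (1 + 1) T d) {g y : T} (hg : orderOf g = 2) (hy : y ∈ centralizer {g}) {n : ℕ} (ho : orderOf y = n)
    (h1 : n.Coprime 2) (h2 : ¬ n ∣ 7) (h3 : ¬ n ∣ 9) : False := by
  subst ho
  have h0 : y ≠ 1 := ne_one_of dvd_rfl fun e => h2 (e ▸ one_dvd _)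
  rcases S.cls y h1 h0 with h | h | ⟨h, -⟩ | ⟨-, h⟩
  · have h4 : orderOf g ∣ cn y := ord_dvd (mem_cen.2 (mem_cen.1 hy).symm)
    have := Nat.eq_one_of_dvd_coprimes (S.reg y h1 h).2.1 (hg ▸ h4) dvd_rfl
    omega
  · obtain ⟨m, rfl | rfl, -, h4⟩ := S.mild y h1 h
    · exact h2 (orderOf_dvd_of_pow_eq_one h4)
    · exact h3 (orderOf_dvd_of_pow_eq_one h4)
  · obtain ⟨m, n, b1, -, b2⟩ := bad S h1 h
    rcases bd b1 with ⟨rfl | rfl, -⟩ | ⟨rfl, -⟩ | ⟨rfl, -⟩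
    · exact h2 (b2.trans (by decide))
    · exact h3 (b2.trans (by decide))
    · exact h2 (b2.trans (by decide))
    · exact h3 (b2.trans (by decide))
  · exact not_sq (Nat.coprime_two_right.1 h1) h0 h

theorem cn_six (S : Sh 2 3 (1 + 1) T d) {g h : T} (hg : orderOf g = 2) (hh : orderOf h = 3) (c : g * h = h * g) :
    cn (g * h) ≤ 72 := by
  obtain ⟨i, hi⟩ := pow_left c (by rw [hg, hh]; decide)
  obtain ⟨j, hj⟩ := pow_left c.symm (by rw [hg, hh]; decide)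
  have c1 : centralizer {g * h} ≤ centralizer {g} := (cen_pow _ i).trans (by rw [hi])
  have c2 : centralizer {g * h} ≤ centralizer {h} := (cen_pow _ j).trans (by rw [c, hj])
  have hc : (orderOf h).Coprime 2 := by rw [hh]; decide
  by_cases hd : d h = 10
  · obtain ⟨m, n, b1, b2, b3⟩ := bad S hc hd
    rw [hh] at b3
    have h1 : cn (g * h) ∣ 4536 := (card_dvd_of_le c2).trans (b2.dvd.trans (by
      rcases bd b1 with ⟨rfl | rfl, rfl⟩ | ⟨rfl, rfl⟩ | ⟨rfl, rfl⟩ <;> revert b3 <;> decide))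
    have h2 : ¬ 7 ∣ cn (g * h) := fun h2 => by
      obtain ⟨s, hs, ho⟩ := exists_ord _ Nat.prime_seven h2
      refine no_big S hg (mul_mem (mem_cen.2 c.symm) (c1 hs)) (n := 21) ?_ (by decide) (by decide) (by decide)
      rw [(show Commute h s from (mem_cen.1 (c2 hs)).symm).orderOf_mul_eq_mul_orderOf_of_coprime
        (by rw [hh, ho]; decide), hh, ho]
    have h3 : ¬ 3 ^ 3 ∣ cn (g * h) := fun h3 => by
      rcases pg _ Nat.prime_three (by decide) h3 with ⟨y, hy, ho⟩ | ⟨P, E, e1, e2, -, e3, e4, -⟩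
      · exact no_big S hg (c1 hy) ho (by decide) (by decide) (by decide)
      · obtain ⟨B, -, -, -, b4, -, -, -, -, b5, -⟩ := S.tor 3 E e3 (by decide) e4
        have h4 : orderOf g ∣ Nat.card B := ord_dvd (b5 (by decide) fun z hz => mem_cen.1 (c1 (e2 (e1 hz))))
        have := Nat.eq_one_of_dvd_coprimes b4 (hg ▸ h4) dvd_rfl
        omega
    obtain ⟨a, ha⟩ := h1
    by_contra h4
    have : a < 63 := by nlinarith
    interval_cases a <;> omega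
  · exact (card_le_of_le c2).trans ((Sm.le (u := 0) S ⟨by rw [hh]; decide, hc, ne_one_of hh.symm.dvd (by decide), hd⟩).trans
      (by decide))

theorem neg_mem {g : T} (hg : ∀ x ∈ E, g * x * g⁻¹ = x⁻¹) : g ∈ Nz E :=
  mem_normalizer_fintype fun x hx => hg x hx ▸ inv_mem hx

theorem neg_not (hE : EA r E) (r2 : r ≠ 2) {g : T} (hg : ∀ x ∈ E, g * x * g⁻¹ = x⁻¹) : g ∉ Cz E := fun h => by
  obtain ⟨x, hx, h1⟩ := (E.bot_or_exists_ne_one).resolve_left hE.ne_bot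
  have h2 := hg x hx
  rw [← h x hx, mul_inv_cancel_right] at h2
  exact not_sq (ea_ord hE hx h1 ▸ hE.prime.odd_of_ne_two r2) h1 (by rw [pow_two]; nth_rewrite 1 [h2]; exact inv_mul_cancel x)

theorem sp9 (S : Sh 2 3 (1 + 1) T d) (hE : EA 3 E) (h9 : Nat.card E = 3 ^ 2) (hC : Nat.card (Cz E) = 3 ^ 2) :
    ∃ x ∈ Nz E, cn x ≤ 72 := by
  have := Fact.mk Nat.prime_three
  have := Fact.mk Nat.prime_two
  obtain ⟨g, hg⟩ := S.neg 3 E hE (by decide) (by decide)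
  have e : E = Cz E := eq_of_le_of_card_ge (fun x hx z hz => hE.comm z hz x hx) (by rw [h9, hC])
  have k : ∀ a ∈ Nz E, a * g * a⁻¹ * g⁻¹ ∈ E ∧ g * g ∈ E := fun a ha => by
    constructor <;> rw [e] <;> intro x hx
    · have h1 := hg _ (conj_mem (inv_mem ha) (inv_mem hx))
      calc x * (a * g * a⁻¹ * g⁻¹) = a * (a⁻¹ * x⁻¹ * a⁻¹⁻¹)⁻¹ * (g * a⁻¹ * g⁻¹) := by group
        _ = a * g * a⁻¹ * g⁻¹ * (g * x⁻¹ * g⁻¹) * (g * (a * g⁻¹ * g * a⁻¹) * g⁻¹) := by rw [← h1]; group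
        _ = _ := by rw [hg _ (inv_mem hx)]; group
    · calc x * (g * g) = (g * x * g⁻¹)⁻¹⁻¹⁻¹ * (g * g) := by rw [hg x hx]; group
        _ = g * (g * x * g⁻¹) * g⁻¹ * (g * g) := by rw [hg x hx, hg _ (inv_mem hx)]; group
        _ = _ := by group
  have h1 : g * g = 1 := by
    have h2 := (k 1 (one_mem _)).2
    have h3 := hg _ h2
    have h4 := hE.pow _ h2
    rw [show g * (g * g) * g⁻¹ = g * g by group] at h3
    generalize g * g = z at h3 h4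
    rwa [pow_succ, pow_two, eq_inv_iff_mul_eq_one.1 h3, one_mul] at h4
  have h2 : orderOf g = 2 := orderOf_eq_prime (by rw [pow_two, h1]) fun h => neg_not hE (by decide) hg (h ▸ one_mem _)
  have h3 : 3 ^ (2 + 1) ∣ Nat.card (Nz E) := Sylow.prime_pow_dvd_card_normalizer (by rw [S.card]; decide) h9
  have h4 := relIndex_le (Nz E) g ((fun x => x * g) '' E) fun a ha => ⟨_, (k a ha).1, inv_mul_cancel_right _ _⟩
  have h5 : ((fun x => x * g) '' (E : Set T)).ncard ≤ 9 := (Set.ncard_image_le (Set.toFinite _)).trans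
    (by rw [← Nat.card_coe_set_eq]; exact h9.le)
  have h6 : 3 ∣ Nat.card (centralizer {g} ⊓ Nz E : Subgroup T) := by
    by_contra h6
    rw [card_eq (centralizer {g})] at h3
    have := Nat.le_of_dvd (Nat.pos_of_ne_zero index_ne_zero_of_finite)
      ((((Nat.Prime.coprime_iff_not_dvd Nat.prime_three).2 h6).pow_left _).dvd_of_dvd_mul_right h3)
    change _ ≤ (centralizer {g}).relIndex (Nz E) at this
    omega
  obtain ⟨h, hh, ho⟩ := exists_ord _ Nat.prime_three h6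
  exact ⟨g * h, mul_mem (neg_mem hg) hh.2, cn_six S h2 ho (mem_cen.1 hh.1).symm⟩

end Cfsg.Agent.N2.G2.LocO
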