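import Cfsg.Agent.N2.G2.Sc1
import Cfsg.Agent.KM.Ev.TD4
import Cfsg.Agent.SB.Low.Model
import Cfsg.Agent.N2.Ex.K.Scott

/-!
# N2 (S3519), `³D₄(q)`: the box [Sc] (helper5)

* `nf` : no fixed points on the fundamental group (`q` odd); `tp` : commuting `p'`-elements lie in a torus;
* `fix_four` : an element of odd order which centralises a four-group fixes its fixed space;
* **`N2.G2.boxSc`**.
-/

set_option autoImplicit false
set_option linter.unusedSectionVars false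

namespace Cfsg.Agent.N2.G2.Sc

open Matrix Module Cfsg Cfsg.Lie Cfsg.Agent.FP3 Cfsg.Agent.H316.U6 Cfsg.Agent.DL
open Cfsg.Agent.H469.Exc Cfsg.Agent.DS.Ex Cfsg.Agent.DS.Nt Cfsg.Agent.N2.Ex.K Cfsg.Agent.KM.Ev.TD
open Cfsg.Agent.SB.Low (EA Cz)

variable {p q : ℕ} [Fact p.Prime] {T : Type} [Group T] [Finite T] (m : MData Nodes.RGDTwD4.hp p q T)
  (hg : m.g = H720.TwFr.permE H720.TwFr.rho4) (hp : p ≠ 2)

theorem mem_Q (v : Fin 4 → ℤ) : v ∈ KM.Tor.E6.Q (SB.Low.dat m) ↔ QP v :=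
  (exists_congr fun β => (congrArg (v = ·) (funext fun j => Finset.sum_apply j _ _ :
    TO.X.Cn.cl (SB.Low.dat m) β = KM.Tor.co chevD4 4 β)).to_iff).trans (co_iff v)

include hg in
theorem mx_eq : (SB.Low.dat m).Mx = ((p : ℤ) ^ m.e) • KZ.DatX.P4 := by
  have h : ∀ i j : Fin 4, Tits.Roots.sr i (H720.TwFr.rho4 j) = KZ.DatX.P4 i j := by
    have h1 : ∀ i j : Fin 4, (if H720.TwFr.rho4 j = i then (1 : ℤ) else 0) = ![(Pi.single j 1 : Fin 4 → ℤ) 3,
      (Pi.single j 1 : Fin 4 → ℤ) 1, (Pi.single j 1 : Fin 4 → ℤ) 0, (Pi.single j 1 : Fin 4 → ℤ) 2] i := by decide +kernel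
    intro i j
    rw [Tits.Roots.sr, Pi.single_apply, h1, ← P4_vec, mulVec_single_one, col_apply]
  ext i j
  exact congrArg ((p : ℤ) ^ m.e * ·) ((congrArg (fun g : (Fin 4 → ℤ) ≃+ (Fin 4 → ℤ) => g.symm (Tits.Roots.sr i) j) hg).trans (h i j))

include hg hp

theorem nf : NF (SB.Low.dat m) := fun (μ : Fin 4 → ℤ) e => by
  obtain ⟨s, hs⟩ : Odd ((p : ℤ) ^ m.e) := (((Fact.out : p.Prime).odd_of_ne_two hp).natCast (R := ℤ)).pow
  have h := (mem_Q m _).1 e
  exact (mem_Q m μ).2 (q_nf (s := s) (hs ▸ (congrArg (fun A : Matrix (Fin 4) (Fin 4) ℤ => QP (A *ᵥ μ - μ)) (mx_eq m hg)).mp h))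

/-- commuting `p'`-elements lie in a torus -/
theorem tp {x y : T} (hx : ¬ p ∣ orderOf x) (hy : ¬ p ∣ orderOf y) (h : y * x = x * y) : Tp p (m.ι x) (m.ι y) := by
  have k : ∀ a, m.ι a ∈ GF m.σ ⊤ := fun a => mem_GF.2 ⟨Subgroup.mem_top _, m.fix a⟩
  obtain ⟨z, hz, hF, h1⟩ := TO.E6.exists_frame (SB.Low.dat m) (k x) (by rwa [orderOf_injective _ m.inj])
  have h2 := ((nf m hg hp).conj hz hF).cen h1 (m.fix x) (k y) (by rw [← map_mul, h, map_mul])
  have h3 := Set.singleton_subset_iff.2 h1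
  obtain ⟨g, h4, h5⟩ := KM.Tor.toral_cen h3 (Set.finite_singleton _) h2 (by rwa [orderOf_injective _ m.inj])
  have h6 := Subgroup.mem_centralizer_singleton_iff.1 (Datum.cen_le_centralizer _ h3 h4)
  rw [Datum.conj_T, Nodes.Reps.mem_cj] at h1 h5
  refine ⟨(g * z)⁻¹, ?_, ?_⟩
  · rw [inv_inv, _root_.mul_inv_rev, ← mul_assoc, mul_assoc z⁻¹, mul_assoc z⁻¹, mul_assoc g⁻¹, ← h6, inv_mul_cancel_left]
    exact h1
  · rw [inv_inv, _root_.mul_inv_rev, ← mul_assoc, mul_assoc z⁻¹, mul_assoc z⁻¹]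
    exact h5

/-- an element of odd order which centralises a four-group fixes its fixed space -/
theorem fix_four {a b g : T} (ha : a * a = 1) (hb : b * b = 1) (hab : a * b = b * a) (h1 : dfx (rho m a) = 12)
    (h2 : dfx (rho m b) = 12) (h3 : dfx (rho m (a * b)) = 12) (h4 : (orderOf g).Coprime (2 * p)) (h5 : a * g = g * a)
    (h6 : b * g = g * b) (v : chevD4.Idx → KK p) (h7 : rho m a v = v) (h8 : rho m b v = v) : rho m g v = v := by
  have h9 : (2 : KK p) ≠ 0 := fun e => hp ((Nat.prime_dvd_prime_iff_eq Fact.out Nat.prime_two).1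
    ((CharP.cast_eq_zero_iff (KK p) p 2).1 (by exact_mod_cast e)))
  have c1 : Commute a g := h5
  have o1 : ∀ c : T, c * c = 1 → orderOf c ∣ 2 := fun c e => orderOf_dvd_of_pow_eq_one ((sq c).trans e)
  have o2 : ¬ p ∣ 2 := fun e => hp ((Nat.prime_dvd_prime_iff_eq Fact.out Nat.prime_two).1 e)
  have o3 : (orderOf a).Coprime (orderOf g) := (h4.coprime_dvd_right ((o1 a ha).mul_right p)).symm
  obtain ⟨z, z1, z2⟩ := tp m hg hp (x := a * g) (y := b) (fun e => by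
    rw [c1.orderOf_mul_eq_mul_orderOf_of_coprime o3] at e
    rcases (Nat.Prime.dvd_mul Fact.out).1 e with e | e
    · exact o2 (e.trans (o1 a ha))
    · exact (Fact.out : p.Prime).one_lt.ne' (Nat.eq_one_of_dvd_coprimes h4 e (Dvd.intro_left 2 rfl))) (fun e => o2 (e.trans (o1 b hb))) (by rw [← mul_assoc, ← hab, mul_assoc, h6, mul_assoc])
  let L := LinearMap.funLeft (KK p) (KK p) (Sum.inr : Fin chevD4.nroots → chevD4.Idx)
  let W : Submodule (KK p) (chevD4.Idx → KK p) := (LinearMap.ker L).map (ad chevD4 p z⁻¹)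
  have k : ∀ c, z * m.ι c * z⁻¹ ∈ KFacts.RgdChevCoord.TT chevD4 (KK p) → W ≤ fixSp (rho m c) := by
    rintro c hc _ ⟨w, hw, rfl⟩
    have e := ad_T_T Nodes.RGDTwD4.hp hc (h := w) (congrFun hw)
    rw [mem_fixSp, rho_apply, ← rho_mul]
    conv_rhs => rw [← e, ← rho_mul, ← mul_assoc, ← mul_assoc, inv_mul_cancel, one_mul]
  have k1 := k _ z1
  have k2 : W ≤ fixSp (rho m a) ⊓ fixSp (rho m b) := le_inf (k1.trans (fix_le (by
    obtain ⟨n, hn⟩ := (Nat.coprime_two_right.1 (h4.coprime_dvd_right (Dvd.intro p rfl)))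
    refine ⟨(orderOf g : ℕ), ?_⟩
    simp only [zpow_natCast]
    rw [c1.mul_pow, pow_orderOf_eq_one, mul_one, hn, pow_succ, pow_mul, sq, ha, one_pow, one_mul]))) (k _ z2)
  have k3 := four_le (a := rho m a) (b := rho m b) h9 (fun v => by rw [← rho_mul, ha, rho_one])
    (fun v => by rw [← rho_mul, hb, rho_one]) fun v => by rw [← rho_mul, hab, rho_mul]
  rw [← map_mul, h1, h2, h3, finrank_ad] at k3
  have k4 : 4 ≤ finrank (KK p) W := by
    have a1 := LinearMap.finrank_range_add_finrank_ker L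
    have a2 : _ ≤ 24 := (Submodule.finrank_le (LinearMap.range L)).trans_eq
      ((Module.finrank_fintype_fun_eq_card _).trans (Fintype.card_fin _))
    rw [finrank_ad] at a1
    rw [← (Submodule.equivMapOfInjective _ (fun u w e => by rw [← Mx.ad_inv_ad z⁻¹ u, e, Mx.ad_inv_ad]) _).finrank_eq]
    exact Nat.le_of_add_le_add_left (a1.ge.trans (Nat.add_le_add_right a2 _) : 24 + 4 ≤ 24 + _)
  have k5 : v ∈ W := Submodule.eq_of_le_of_finrank_le k2 (by omega) ▸ ⟨mem_fixSp.2 h7, mem_fixSp.2 h8⟩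
  have k6 := mem_fixSp.1 (k1 k5)
  rwa [h5, rho_mul, h7] at k6

omit hg hp in
theorem exists_four {V : Subgroup T} (h : EA 2 V) (hc : Nat.card V = 4) :
    ∃ a ∈ V, ∃ b ∈ V, orderOf a = 2 ∧ orderOf b = 2 ∧ orderOf (a * b) = 2 := by
  obtain ⟨a, ha, -, h1⟩ := h.exists_ne
  obtain ⟨b, hb, h2⟩ := SetLike.exists_of_lt (lt_of_le_of_ne (Subgroup.zpowers_le.2 ha) fun e => by
    rw [← e, Nat.card_zpowers, h1] at hc
    omega)
  refine ⟨a, ha, b, hb, h1, orderOf_eq_prime (h.pow b hb) fun e => h2 (e ▸ one_mem _),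
    orderOf_eq_prime (h.pow _ (mul_mem ha hb)) fun e => h2 ?_⟩
  rw [eq_inv_of_mul_eq_one_right e]
  exact inv_mem (Subgroup.mem_zpowers a)

end Cfsg.Agent.N2.G2.Sc

namespace Cfsg.Agent.N2.G2

open Cfsg.Agent.FP3 Sc

/-- **[Sc]** -/
theorem boxSc : BoxSc := fun p _ k q T _ _ _ d hM hA _ => by
  refine ⟨fun hk hp x y h e => ?_, fun hk hp x y h e => ?_⟩
  all_goals
    obtain ⟨m, hd, hg, h1⟩ := (hM.resolve_left fun e => by have := e.1; omega).2.2.1
    have h2 : ∀ x, dfx (rho m x) = d x := fun x => (dfx_rho m x).trans (h1 x).symm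
  · have key : ∀ g, (orderOf g).Coprime (2 * p) → ∀ V, SB.Low.EA 2 V → Nat.card V = 4 → g ∈ SB.Low.Cz V → (∀ v, V ≤ stb (rho m) v →
        g ∈ stb (rho m) v) ∧ ∀ C, V ≤ cof (rho m) C → g ∈ cof (rho m) C := fun g h3 V h4 h5 h6 => by
      obtain ⟨a, ha, b, hb, a1, a2, a3⟩ := exists_four h4 h5
      have k : ∀ c, orderOf c = 2 → dfx (rho m c) = 12 := fun c e => by rw [h2, hA.inv hp c e, hk]
      have h7 := fix_four m hg hp ((sq a).symm.trans (h4.pow a ha)) ((sq b).symm.trans (h4.pow b hb)) (h4.comm a ha b hb)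
        (k _ a1) (k _ a2) (k _ a3) h3 (h6 a ha) (h6 b hb)
      exact ⟨fun v hv => h7 v (hv ha) (hv hb), fun C hC => com_four (a := rho m a) (b := rho m b)
        (fun e => hp ((Nat.prime_dvd_prime_iff_eq Fact.out Nat.prime_two).1 ((CharP.cast_eq_zero_iff _ p 2).1 (by exact_mod_cast e))))
        (fun v => by rw [← rho_mul, ← sq, h4.pow a ha, rho_one]) (fun v => by rw [← rho_mul, ← sq, h4.pow b hb, rho_one])
        (fun v => by rw [← rho_mul, h4.comm a ha b hb, rho_mul]) (fun v => by rw [← rho_mul, ← h6 a ha, rho_mul])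
        (fun v => by rw [← rho_mul, ← h6 b hb, rho_mul]) h7 (hC ha) (hC hb)⟩
    have h3 := scott_sup (ρ := rho m) e
      (fun v hv => (Subgroup.closure_le _).2 fun g ⟨a1, V, a2, a3, a4, a5⟩ => (key g a1 V a3 a4 a5).1 v (a2.trans hv))
      (fun C hC => (Subgroup.closure_le _).2 fun g ⟨a1, V, a2, a3, a4, a5⟩ => (key g a1 V a3 a4 a5).2 C (a2.trans hC))
      (stb_top m hd hg) (cof_top m hd hg)
    have h4 : Module.finrank _ (Rad p) = 0 := Submodule.finrank_eq_zero.2 (rad_eq hp)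
    rw [h2, h2, h2, finrank_ad, h4] at h3
    exact h.not_ge h3
  · have h3 := scott_sup (ρ := rho m) e
      (fun v hv => (Subgroup.closure_le _).2 fun z ⟨s, a1, a2, a3⟩ =>
        mem_fixSp.1 ((fix_eq a2 (by rw [h2, h2, a3])).ge (mem_fixSp.2 (hv a1))))
      (fun C hC => (Subgroup.closure_le _).2 fun z ⟨s, a1, a2, a3⟩ =>
        mem_cof'.2 ((com_eq a2 (by rw [h2, h2, a3])).ge.trans (mem_cof'.1 (hC a1))))
      (stb_top m hd hg) (cof_top m hd hg)
    have h4 := rad_le (p := p)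
    rw [h2, h2, h2, finrank_ad] at h3
    omega

end Cfsg.Agent.N2.G2
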