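import Cfsg.Agent.SB.Low.Model
import Cfsg.Agent.DS.Nt.Defs
import Cfsg.Agent.H892.FixDim

/-!
# N2, `³D₄(q)`, box U5: leading terms of unipotent elements of `D₄` on the adjoint module (helper95)

`E r` is the linear part of the root element `x_r (t)`; `Fl w k` the matrices which raise the degree by at least `k`
(`w = 1`: height, `w = 0`: the sum of the outer coefficients); `Ld w k g A` : `g = 1 + A +` terms of degree `≥ 2 k`.
-/

set_option autoImplicit false
set_option linter.unusedSectionVars false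

namespace Cfsg.Agent.N2.G2.U5

open Cfsg Cfsg.Lie Cfsg.Lie.ChevalleyDatum Cfsg.Agent.Nodes.RGDChev Cfsg.Agent.Nodes.BNOf Cfsg.Agent.Tits.Roots
  Cfsg.Agent.KFacts.RgdChevCoord Cfsg.Agent.H469.Exc.SigFr Cfsg.Agent.ChevalleyStructure.Elts

/-- the index set -/
abbrev Ix : Type := chevD4.Idx

/-- the roots -/
abbrev Rx : Type := Fin chevD4.nroots

/-- the linear part of a root element -/
def E (r : Rx) : Matrix Ix Ix ℤ := Matrix.of fun row col =>
  match col with
  | Sum.inl i => (match row with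
    | Sum.inl _ => 0
    | Sum.inr u => if u = r then -((chevD4.cartanSR.getD i.val #[]).getD r.val 0) else 0)
  | Sum.inr s =>
    if s = r then 0
    else if s.val = chevD4.negIdx.getD r.val 0 then (match row with
      | Sum.inl i => (chevD4.coroot.getD r.val #[]).getD i.val 0
      | Sum.inr _ => 0)
    else (match row with
      | Sum.inl _ => 0
      | Sum.inr u => ((chevD4.chainCoeff r.val s.val u.val).map fun km => km.2).sum)

/-- the degree of a root -/
def dr (w : ℤ) (s : Rx) : ℤ := vec chevD4 4 s 0 + w * vec chevD4 4 s 1 + vec chevD4 4 s 2 + vec chevD4 4 s 3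

/-- the degree of a basis vector -/
def dg (w : ℤ) : Ix → ℤ := Sum.elim (fun _ => 0) (dr w)

theorem chain_one : ∀ r s u : Rx, ∀ km ∈ chevD4.chainCoeff r.val s.val u.val, km.1 = 1 := by decide +kernel

theorem E_dg (r : Rx) (i j : Ix) (h : E r i j ≠ 0) : dg 0 i = dg 0 j + dr 0 r ∧ dg 1 i = dg 1 j + dr 1 r := by
  have key : ∀ (r : Rx) (i j : Ix),
      (E r i j == 0 || (dg 0 i == dg 0 j + dr 0 r && dg 1 i == dg 1 j + dr 1 r)) = true := by decide +kernel
  simpa [h] using key r i j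

theorem neg_dr : ∀ r s : Rx, s.val = chevD4.negIdx.getD r.val 0 → dr 0 s = -dr 0 r ∧ dr 1 s = -dr 1 r := by decide +kernel

theorem dg_bd : ∀ i : Ix, -3 ≤ dg 0 i ∧ dg 0 i ≤ 3 := by decide +kernel

variable {K : Type} [Field K]

/-- the linear part over the field -/
def EK (K : Type) [Field K] (r : Rx) : Matrix Ix Ix K := (E r).map (Int.cast : ℤ → K)

theorem sum_one (t : K) : ∀ l : List (ℕ × ℤ), (∀ km ∈ l, km.1 = 1) →
    (l.map fun km => ((km.2 : ℤ) : K) * t ^ km.1).sum = t * (((l.map fun km => km.2).sum : ℤ) : K)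
  | [], _ => by simp
  | a :: l, h => by
    rw [List.map_cons, List.map_cons, List.sum_cons, List.sum_cons, sum_one t l fun b hb => h b (List.mem_cons_of_mem _ hb),
      h a List.mem_cons_self, Int.cast_add]
    ring

theorem xMat_sub (r : Rx) (t : K) (i j : Ix) (h : (chevD4.xMat K r t - 1 - t • EK K r) i j ≠ 0) :
    i = Sum.inr r ∧ ∃ s : Rx, j = Sum.inr s ∧ s.val = chevD4.negIdx.getD r.val 0 := by
  by_contra k
  apply h
  rw [Matrix.sub_apply, Matrix.sub_apply, Matrix.smul_apply, smul_eq_mul, Matrix.one_apply, EK, Matrix.map_apply]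
  rcases j with j | s
  · rcases i with i | u
    · show (if i = j then (1 : K) else 0) - _ - t * ((0 : ℤ) : K) = 0
      simp only [Sum.inl.injEq]
      simp
    · show (if u = r then -(((chevD4.cartanSR.getD j.val #[]).getD r.val 0 : ℤ) : K) * t else 0) - _ -
        t * (((if u = r then -((chevD4.cartanSR.getD j.val #[]).getD r.val 0) else 0) : ℤ) : K) = 0
      rw [if_neg (Sum.inr_ne_inl : Sum.inr u ≠ Sum.inl j)]
      split_ifs
      · rw [Int.cast_neg]
        ring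
      · simp
  · by_cases h1 : s = r
    · rcases i with i | u
      · show (if s = r then (0 : K) else _) - _ - t * (((if s = r then 0 else _) : ℤ) : K) = 0
        rw [if_pos h1, if_pos h1, if_neg (Sum.inl_ne_inr : Sum.inl i ≠ Sum.inr s)]
        simp
      · show (if s = r then (if u = r then (1 : K) else 0) else _) - _ - t * (((if s = r then 0 else _) : ℤ) : K) = 0
        rw [if_pos h1, if_pos h1, h1]
        simp only [Sum.inr.injEq]
        simp
    · by_cases h2 : s.val = chevD4.negIdx.getD r.val 0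
      · rcases i with i | u
        · show (if s = r then (0 : K) else if s.val = chevD4.negIdx.getD r.val 0 then
            (((chevD4.coroot.getD r.val #[]).getD i.val 0 : ℤ) : K) * t else 0) - _ - t * (((if s = r then 0 else
              if s.val = chevD4.negIdx.getD r.val 0 then (chevD4.coroot.getD r.val #[]).getD i.val 0 else 0) : ℤ) : K) = 0
          rw [if_neg h1, if_neg h1, if_pos h2, if_pos h2, if_neg (Sum.inl_ne_inr : Sum.inl i ≠ Sum.inr s)]
          ring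
        · show (if s = r then (if u = r then (1 : K) else 0) else if s.val = chevD4.negIdx.getD r.val 0 then
            (if u = s then 1 else if u = r then -(t ^ 2) else 0) else _) - _ - t * (((if s = r then 0 else
              if s.val = chevD4.negIdx.getD r.val 0 then 0 else _) : ℤ) : K) = 0
          rw [if_neg h1, if_neg h1, if_pos h2, if_pos h2, if_neg (fun e : u = r => k ⟨e ▸ rfl, s, rfl, h2⟩)]
          simp only [Sum.inr.injEq]
          simp
      · rcases i with i | u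
        · show (if s = r then (0 : K) else if s.val = chevD4.negIdx.getD r.val 0 then _ else 0) - _ -
            t * (((if s = r then 0 else if s.val = chevD4.negIdx.getD r.val 0 then _ else 0) : ℤ) : K) = 0
          rw [if_neg h1, if_neg h1, if_neg h2, if_neg h2, if_neg (Sum.inl_ne_inr : Sum.inl i ≠ Sum.inr s)]
          simp
        · show (if s = r then (if u = r then (1 : K) else 0) else if s.val = chevD4.negIdx.getD r.val 0 then _ else
            (if u = s then 1 else 0) + ((chevD4.chainCoeff r.val s.val u.val).map fun km =>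
              ((km.2 : ℤ) : K) * t ^ km.1).sum) - _ - t * (((if s = r then 0 else
              if s.val = chevD4.negIdx.getD r.val 0 then _ else
                ((chevD4.chainCoeff r.val s.val u.val).map fun km => km.2).sum) : ℤ) : K) = 0
          rw [if_neg h1, if_neg h1, if_neg h2, if_neg h2, sum_one t _ (chain_one r s u)]
          simp only [Sum.inr.injEq]
          ring

/-- the matrices which raise the degree by at least `k` -/
def Fl (K : Type) [Field K] (w k : ℤ) : Submodule K (Matrix Ix Ix K) where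
  carrier := {A | ∀ i j, dg w i < dg w j + k → A i j = 0}
  zero_mem' := fun _ _ _ => rfl
  add_mem' := fun {A B} hA hB i j h => by rw [Matrix.add_apply, hA i j h, hB i j h, add_zero]
  smul_mem' := fun c A hA i j h => by rw [Matrix.smul_apply, hA i j h, smul_zero]

variable {w k k' : ℤ} {A B : Matrix Ix Ix K}

theorem Fl.mono (h : A ∈ Fl K w k) (hk : k' ≤ k) : A ∈ Fl K w k' := fun i j e => h i j (by omega)

theorem Fl.mul (hA : A ∈ Fl K w k) (hB : B ∈ Fl K w k') : A * B ∈ Fl K w (k + k') := fun i j e => by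
  rw [Matrix.mul_apply]
  refine Finset.sum_eq_zero fun m _ => ?_
  by_cases h : dg w i < dg w m + k
  · rw [hA i m h, zero_mul]
  · rw [hB m j (by omega), mul_zero]

theorem EK_mem (hw : w = 0 ∨ w = 1) (r : Rx) : EK K r ∈ Fl K w (dr w r) := fun i j e => by
  by_contra h
  have h1 := E_dg r i j fun h0 => h (by rw [EK, Matrix.map_apply, h0, Int.cast_zero])
  rcases hw with rfl | rfl <;> omega

/-- the matrix of a group element -/
def mx (g : ↥(chevD4.group K)) : Matrix Ix Ix K := ((g : GL Ix K) : Matrix Ix Ix K)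

theorem mx_mul (g g' : ↥(chevD4.group K)) : mx (g * g') = mx g * mx g' := rfl

theorem mx_one : mx (1 : ↥(chevD4.group K)) = 1 := rfl

/-- the leading term -/
def Ld (w k : ℤ) (g : ↥(chevD4.group K)) (A : Matrix Ix Ix K) : Prop := A ∈ Fl K w k ∧ mx g - 1 - A ∈ Fl K w (2 * k)

variable {g g' : ↥(chevD4.group K)}

theorem Ld.one : Ld w k (1 : ↥(chevD4.group K)) 0 := ⟨zero_mem _, by rw [mx_one, sub_self, sub_self]; exact zero_mem _⟩

theorem Ld.sub (h : Ld w k g A) (hk : 0 ≤ k) : mx g - 1 ∈ Fl K w k := by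
  rw [← sub_add_cancel (mx g - 1) A]
  exact add_mem (Fl.mono h.2 (by omega)) h.1

theorem Ld.mul (h : Ld w k g A) (h' : Ld w k g' B) (hk : 0 ≤ k) : Ld w k (g * g') (A + B) := by
  refine ⟨add_mem h.1 h'.1, ?_⟩
  rw [mx_mul, show mx g * mx g' - 1 - (A + B) = (mx g - 1 - A) + (mx g' - 1 - B) + (mx g - 1) * (mx g' - 1) by noncomm_ring]
  exact add_mem (add_mem h.2 h'.2) (Fl.mono (Fl.mul (h.sub hk) (h'.sub hk)) (by omega))

theorem Ld.x (hw : w = 0 ∨ w = 1) (r : Rx) (t : K) (h : t ≠ 0 → k ≤ dr w r) :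
    Ld w k (xs Nodes.RGDTwD4.hp.inList r t) (t • EK K r) := by
  have e : mx (xs Nodes.RGDTwD4.hp.inList r t) = chevD4.xMat K r t := dif_pos r.2
  by_cases h0 : t = 0
  · have e1 : xs Nodes.RGDTwD4.hp.inList r t = 1 := Subtype.ext (Units.ext (h0 ▸ x_zero Nodes.RGDTwD4.hp.inList r))
    rw [e1, h0, zero_smul]
    exact Ld.one
  refine ⟨Submodule.smul_mem _ _ (Fl.mono (EK_mem hw r) (h h0)), fun i j hij => ?_⟩
  by_contra h1
  obtain ⟨rfl, s, rfl, h2⟩ := xMat_sub r t i j (e ▸ h1)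
  have h3 := neg_dr r s h2
  have h4 := h h0
  have h5 : dr w r < dr w s + 2 * k := hij
  rcases hw with rfl | rfl <;> omega

theorem Ld.comm (h : Ld w 1 g A) (h' : Ld w 1 g' B) (hc : g * g' = g' * g) : A * B - B * A ∈ Fl K w 3 := by
  have h1 : mx g * mx g' = mx g' * mx g := by rw [← mx_mul, hc, mx_mul]
  have h2 : A * B - B * A = B * (mx g - 1 - A) + (mx g' - 1 - B) * (mx g - 1) - A * (mx g' - 1 - B) -
      (mx g - 1 - A) * (mx g' - 1) + (mx g * mx g' - mx g' * mx g) := by noncomm_ring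
  rw [h2, h1, sub_self, add_zero]
  exact sub_mem (sub_mem (add_mem (Fl.mul h'.1 h.2) (Fl.mul h'.2 (h.sub zero_le_one))) (Fl.mul h.1 h'.2))
    (Fl.mul h.2 (h'.sub zero_le_one))

theorem Ld.four (h : Ld 0 2 g A) : (mx g - 1) ^ 4 = 0 := by
  have h1 := h.sub zero_le_two
  have h2 := Fl.mul (Fl.mul h1 h1) (Fl.mul h1 h1)
  ext i j
  rw [show (mx g - 1) ^ 4 = (mx g - 1) * (mx g - 1) * ((mx g - 1) * (mx g - 1)) by noncomm_ring]
  have h3 := dg_bd i
  have h4 := dg_bd j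
  exact h2 i j (by omega)

/-- the linear part with the coordinates `t` -/
def lin (t : Rx → K) : Matrix Ix Ix K := ∑ s, t s • EK K s

/-- a root index -/
def rx (n : ℕ) (h : n < 24 := by decide) : Rx := ⟨n, h⟩

/-- a node -/
def nd (n : ℕ) (h : n < 4 := by decide) : Ix := Sum.inl ⟨n, h⟩

/-- the commutator with `E s'` has only one term at the place `(i, j)` -/
def Cm (s' : Rx) (i j : Ix) (s₀ : Rx) (n : ℤ) : Prop := ∀ s, (E s * E s' - E s' * E s) i j = if s = s₀ then n else 0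

theorem Cm.entry {s' s₀ : Rx} {i j : Ix} {n : ℤ} (h : Cm s' i j s₀ n) (t : Rx → K) :
    (lin t * EK K s' - EK K s' * lin t) i j = t s₀ * n := by
  have h1 : ∀ s, (EK K s * EK K s' - EK K s' * EK K s) i j = ((if s = s₀ then n else 0 : ℤ) : K) := fun s => by
    rw [← h s]
    simp only [EK, Matrix.sub_apply, Matrix.mul_apply, Matrix.map_apply, Int.cast_sub, Int.cast_sum, Int.cast_mul]
  rw [lin, Finset.sum_mul, Finset.mul_sum, ← Finset.sum_sub_distrib, Matrix.sum_apply, Finset.sum_eq_single s₀]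
  · rw [smul_mul_assoc, mul_smul_comm, ← smul_sub, Matrix.smul_apply, h1, if_pos rfl, smul_eq_mul]
  · intro s _ hs
    rw [smul_mul_assoc, mul_smul_comm, ← smul_sub, Matrix.smul_apply, h1, if_neg hs, Int.cast_zero, smul_zero]
  · exact fun h => absurd (Finset.mem_univ _) h

theorem Cm.three {s₁ s₂ s₃ r₁ r₂ r₃ : Rx} {i j : Ix} {n₁ n₂ n₃ : ℤ} (h₁ : Cm s₁ i j r₁ n₁) (h₂ : Cm s₂ i j r₂ n₂)
    (h₃ : Cm s₃ i j r₃ n₃) {t : Rx → K} {a b c : K} (h : Ld w 1 g (lin t))
    (h' : Ld w 1 g' (a • EK K s₁ + b • EK K s₂ + c • EK K s₃)) (hc : g * g' = g' * g) (hd : dg w i < dg w j + 3) :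
    a * (t r₁ * n₁) + b * (t r₂ * n₂) + c * (t r₃ * n₃) = 0 := by
  rw [← h₁.entry t, ← h₂.entry t, ← h₃.entry t, ← h.comm h' hc i j hd]
  simp only [Matrix.mul_add, Matrix.add_mul, smul_mul_assoc, mul_smul_comm, Matrix.sub_apply, Matrix.add_apply,
    Matrix.smul_apply, smul_eq_mul]
  ring

theorem tabA : Cm (rx 18) (.inr (rx 19)) (nd 0) (rx 14) (-1) ∧ Cm (rx 13) (.inr (rx 19)) (nd 0) (rx 0) 0 ∧
    Cm (rx 12) (.inr (rx 19)) (nd 0) (rx 0) 0 := by
  unfold Cm
  decide +kernel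

theorem tabB : (Cm (rx 18) (.inr (rx 21)) (nd 0) (rx 16) (-1) ∧ Cm (rx 13) (.inr (rx 21)) (nd 0) (rx 19) 1 ∧
    Cm (rx 12) (.inr (rx 21)) (nd 0) (rx 0) 0) ∧ (Cm (rx 18) (.inr (rx 20)) (nd 0) (rx 15) (-1) ∧
    Cm (rx 13) (.inr (rx 20)) (nd 0) (rx 0) 0 ∧ Cm (rx 12) (.inr (rx 20)) (nd 0) (rx 19) 1) ∧
    Cm (rx 18) (.inr (rx 17)) (nd 2) (rx 0) 0 ∧ Cm (rx 13) (.inr (rx 17)) (nd 2) (rx 15) 1 ∧
    Cm (rx 12) (.inr (rx 17)) (nd 2) (rx 16) 1 := by
  unfold Cm
  decide +kernel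

theorem tabC : (Cm (rx 19) (.inr (rx 21)) (nd 0) (rx 13) (-1) ∧ Cm (rx 16) (.inr (rx 21)) (nd 0) (rx 18) 1 ∧
    Cm (rx 15) (.inr (rx 21)) (nd 0) (rx 0) 0) ∧ (Cm (rx 19) (.inr (rx 20)) (nd 0) (rx 12) (-1) ∧
    Cm (rx 16) (.inr (rx 20)) (nd 0) (rx 0) 0 ∧ Cm (rx 15) (.inr (rx 20)) (nd 0) (rx 18) 1) ∧
    Cm (rx 19) (.inr (rx 17)) (nd 2) (rx 0) 0 ∧ Cm (rx 16) (.inr (rx 17)) (nd 2) (rx 12) (-1) ∧
    Cm (rx 15) (.inr (rx 17)) (nd 2) (rx 13) (-1) := by
  unfold Cm
  decide +kernel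

theorem ld_list (f : (Fin 4 → ℤ) → ↥(chevD4.group K)) : ∀ L : List (Fin 4 → ℤ),
    (∀ a ∈ L, IsRoot coxeterD4.toCoxeterSystem Nodes.RGDTwD4.hp.isCartan a ∧ f a ∈ XX chevD4 4 K a) → L.Nodup →
    ∃ t : Rx → K, (∀ s : Rx, vec chevD4 4 s ∉ L → t s = 0) ∧
      ∀ w k, (w = 0 ∨ w = 1) → 0 ≤ k → (∀ s, t s ≠ 0 → k ≤ dr w s) → Ld w k (L.map f).prod (lin t)
  | [], _, _ => ⟨0, fun _ _ => rfl, fun w k _ _ _ => by
      rw [show lin (0 : Rx → K) = 0 from Finset.sum_eq_zero fun s _ => zero_smul _ _]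
      exact Ld.one⟩
  | a :: L, h, hn => by
    classical
    obtain ⟨t, h0, ht⟩ := ld_list f L (fun b hb => h b (List.mem_cons_of_mem _ hb)) (List.nodup_cons.1 hn).2
    obtain ⟨h1, h2⟩ := h a List.mem_cons_self
    obtain ⟨r, hr, rfl⟩ := (isRoot_iff Nodes.RGDTwD4.hp _ a).1 h1
    obtain ⟨τ, hτ⟩ := (LangThm.mem_XX_vec Nodes.RGDTwD4.hp hr).1 h2
    have h3 : t ⟨r, hr⟩ = 0 := h0 _ (List.nodup_cons.1 hn).1
    refine ⟨Function.update t ⟨r, hr⟩ τ, fun s hs => ?_, fun w k hw hk hs => ?_⟩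
    · rw [Function.update_of_ne (fun e => hs (by rw [e]; exact List.mem_cons_self))]
      exact h0 s fun e => hs (List.mem_cons_of_mem _ e)
    · have e : lin (Function.update t ⟨r, hr⟩ τ) = τ • EK K ⟨r, hr⟩ + lin t := by
        rw [lin, lin, ← Finset.add_sum_erase _ _ (Finset.mem_univ (⟨r, hr⟩ : Rx)),
          ← Finset.add_sum_erase _ _ (Finset.mem_univ (⟨r, hr⟩ : Rx)), Function.update_self, h3, zero_smul, zero_add]
        exact congrArg _ (Finset.sum_congr rfl fun s hs => by rw [Function.update_of_ne (Finset.ne_of_mem_erase hs)])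
      rw [List.map_cons, List.prod_cons, e,
        show f (vec chevD4 4 r) = xs Nodes.RGDTwD4.hp.inList (⟨r, hr⟩ : Rx) τ from Subtype.ext hτ]
      refine (Ld.x hw ⟨r, hr⟩ τ fun e => hs _ (by rwa [Function.update_self])).mul (ht w k hw hk fun s e => hs s ?_) hk
      rwa [Function.update_of_ne fun e' : s = ⟨r, hr⟩ => e (e' ▸ h3)]

/-- a product of three root elements -/
def x3 (s₁ s₂ s₃ : Rx) (a b c : K) : ↥(chevD4.group K) :=
  xs Nodes.RGDTwD4.hp.inList s₁ a * xs Nodes.RGDTwD4.hp.inList s₂ b * xs Nodes.RGDTwD4.hp.inList s₃ c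

theorem Ld.x3 (hw : w = 0 ∨ w = 1) {s₁ s₂ s₃ : Rx} (h : 1 ≤ dr w s₁ ∧ 1 ≤ dr w s₂ ∧ 1 ≤ dr w s₃) (a b c : K) :
    Ld w 1 (x3 s₁ s₂ s₃ a b c) (a • EK K s₁ + b • EK K s₂ + c • EK K s₃) :=
  ((Ld.x hw s₁ a fun _ => h.1).mul (Ld.x hw s₂ b fun _ => h.2.1) zero_le_one).mul (Ld.x hw s₃ c fun _ => h.2.2) zero_le_one

theorem tabD : ∀ s : Rx, 0 ≤ vec chevD4 4 s → 1 ≤ dr 1 s ∧ (s = rx 14 ∨ 1 ≤ dr 0 s) ∧
    (s = rx 14 ∨ s = rx 18 ∨ s = rx 13 ∨ s = rx 12 ∨ s = rx 19 ∨ s = rx 16 ∨ s = rx 15 ∨ 2 ≤ dr 0 s) := by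
  have key : ∀ s : Rx, (∀ i, 0 ≤ vec chevD4 4 s i) → 1 ≤ dr 1 s ∧ (s = rx 14 ∨ 1 ≤ dr 0 s) ∧
      (s = rx 14 ∨ s = rx 18 ∨ s = rx 13 ∨ s = rx 12 ∨ s = rx 19 ∨ s = rx 16 ∨ s = rx 15 ∨ 2 ≤ dr 0 s) := by decide +kernel
  exact key

theorem sys (h2 : (2 : K) ≠ 0) {a b c x y z : K} (ha : a ≠ 0) (hb : b ≠ 0) (hc : c ≠ 0) (e₁ : a * y = b * x)
    (e₂ : a * z = c * x) (e₃ : b * z + c * y = 0) : x = 0 ∧ y = 0 ∧ z = 0 := by
  have hx : x = 0 := by
    have h : 2 * b * c * x = 0 := by linear_combination a * e₃ - b * e₂ - c * e₁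
    exact (mul_eq_zero.1 h).resolve_left (mul_ne_zero (mul_ne_zero h2 hb) hc)
  rw [hx, mul_zero] at e₁ e₂
  exact ⟨hx, (mul_eq_zero.1 e₁).resolve_left ha, (mul_eq_zero.1 e₂).resolve_left ha⟩

/-- an element of `U` which commutes with elements of the relative root groups `X_b`, `X_(a + b)` -/
theorem core (h2 : (2 : K) ≠ 0) {t : Rx → K} (h0 : ∀ s : Rx, t s ≠ 0 → 0 ≤ vec chevD4 4 s)
    (ht : ∀ w k, (w = 0 ∨ w = 1) → 0 ≤ k → (∀ s, t s ≠ 0 → k ≤ dr w s) → Ld w k g (lin t)) {a b c a' b' c' : K}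
    (ha : a ≠ 0) (hb : b ≠ 0) (hc : c ≠ 0) (ha' : a' ≠ 0) (hb' : b' ≠ 0) (hc' : c' ≠ 0)
    (e : g * x3 (rx 18) (rx 13) (rx 12) a b c = x3 (rx 18) (rx 13) (rx 12) a b c * g)
    (e' : g * x3 (rx 19) (rx 16) (rx 15) a' b' c' = x3 (rx 19) (rx 16) (rx 15) a' b' c' * g) : (mx g - 1) ^ 4 = 0 := by
  have l1 := ht 1 1 (Or.inr rfl) zero_le_one fun s h => (tabD s (h0 s h)).1
  have a1 := Cm.three tabA.1 tabA.2.1 tabA.2.2 l1 (Ld.x3 (Or.inr rfl) (by decide +kernel) a b c) e (by decide +kernel)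
  have h14 : t (rx 14) = 0 := by
    have h : a * t (rx 14) = 0 := by push_cast at a1; linear_combination -a1
    exact (mul_eq_zero.1 h).resolve_left ha
  have l0 := ht 0 1 (Or.inl rfl) zero_le_one fun s h => (tabD s (h0 s h)).2.1.resolve_left fun e => h (e ▸ h14)
  have y := Ld.x3 (K := K) (s₁ := rx 18) (s₂ := rx 13) (s₃ := rx 12) (Or.inl rfl) (by decide +kernel) a b c
  have y' := Ld.x3 (K := K) (s₁ := rx 19) (s₂ := rx 16) (s₃ := rx 15) (Or.inl rfl) (by decide +kernel) a' b' c'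
  have b1 := Cm.three tabB.1.1 tabB.1.2.1 tabB.1.2.2 l0 y e (by decide +kernel)
  have b2 := Cm.three tabB.2.1.1 tabB.2.1.2.1 tabB.2.1.2.2 l0 y e (by decide +kernel)
  have b3 := Cm.three tabB.2.2.1 tabB.2.2.2.1 tabB.2.2.2.2 l0 y e (by decide +kernel)
  have c1 := Cm.three tabC.1.1 tabC.1.2.1 tabC.1.2.2 l0 y' e' (by decide +kernel)
  have c2 := Cm.three tabC.2.1.1 tabC.2.1.2.1 tabC.2.1.2.2 l0 y' e' (by decide +kernel)
  have c3 := Cm.three tabC.2.2.1 tabC.2.2.2.1 tabC.2.2.2.2 l0 y' e' (by decide +kernel)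
  push_cast at b1 b2 b3 c1 c2 c3
  obtain ⟨h19, h16, h15⟩ := sys h2 ha hb hc (x := t (rx 19)) (y := t (rx 16)) (z := t (rx 15))
    (by linear_combination -b1) (by linear_combination -b2) (by linear_combination b3)
  obtain ⟨h18, h13, h12⟩ := sys h2 ha' hb' hc' (x := t (rx 18)) (y := t (rx 13)) (z := t (rx 12))
    (by linear_combination -c1) (by linear_combination -c2) (by linear_combination -c3)
  refine Ld.four (ht 0 2 (Or.inl rfl) zero_le_two fun s h => ?_)
  rcases (tabD s (h0 s h)).2.2 with rfl | rfl | rfl | rfl | rfl | rfl | rfl | k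
  exacts [absurd h14 h, absurd h18 h, absurd h13 h, absurd h12 h, absurd h19 h, absurd h16 h, absurd h15 h, k]

end Cfsg.Agent.N2.G2.U5
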