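import Cfsg.Agent.N2.G2.U5A
import Cfsg.Agent.N2.G2.U5B
import Cfsg.Agent.N2.G2.Num
import Cfsg.Agent.TitsThree.KExcBase
import Cfsg.Agent.H123.ExcRoot

/-!
# N2 (S3519), `³D₄(5 ^ f)`: the box [U5] (helper95)
-/

set_option autoImplicit false
set_option linter.unusedSectionVars false

namespace Cfsg.Agent.N2.G2

open Subgroup Cfsg Cfsg.Lie Cfsg.Lie.ChevalleyDatum Module Cfsg.Agent.Nodes.RGDChev Cfsg.Agent.Nodes.BNOf Cfsg.Agent.Tits.Roots
  Cfsg.Agent.KFacts.RgdChevCoord Cfsg.Agent.H469.Exc.SigFr Cfsg.Agent.ChevalleyStructure.Elts Cfsg.Agent.H316.U6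
  Cfsg.Agent.H469.Exc Cfsg.Agent.DS.NT Cfsg.Agent.DL Cfsg.Agent.N2.G2.LocO

namespace U5

section x3

variable {K : Type} [Field K]

/-- three commuting root groups -/
def C3 (s₁ s₂ s₃ : Rx) : Prop := ∀ r ∈ [s₁, s₂, s₃], ∀ s ∈ [s₁, s₂, s₃], s ≠ r → s.val ≠ chevD4.neg r ∧ chevD4.commTerms r s = []

theorem xs_add (r : Rx) (a b : K) : xs Nodes.RGDTwD4.hp.inList r (a + b) =
    xs Nodes.RGDTwD4.hp.inList r a * xs Nodes.RGDTwD4.hp.inList r b :=
  Subtype.ext (xG_add Nodes.RGDTwD4.hp.inList r a b).symm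

theorem C3.comm {s₁ s₂ s₃ r s : Rx} (h : C3 s₁ s₂ s₃) (hr : r ∈ [s₁, s₂, s₃]) (hs : s ∈ [s₁, s₂, s₃]) (a b : K) :
    Commute (xs Nodes.RGDTwD4.hp.inList r a) (xs Nodes.RGDTwD4.hp.inList s b) := by
  by_cases e : s = r
  · rw [e, Commute, SemiconjBy, ← xs_add, ← xs_add, add_comm]
  · exact Subtype.ext (TitsThree.KExcBase.comm_nil Nodes.RGDTwD4.hp.inList r.2 s.2 (fun k => e (Fin.ext k)) (h r hr s hs e).1
      (h r hr s hs e).2 a b)

theorem C3.add {s₁ s₂ s₃ : Rx} (h : C3 s₁ s₂ s₃) (a b c a' b' c' : K) :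
    x3 s₁ s₂ s₃ (a + a') (b + b') (c + c') = x3 s₁ s₂ s₃ a b c * x3 s₁ s₂ s₃ a' b' c' := by
  rw [x3, x3, x3, xs_add, xs_add, xs_add, (h.comm (by simp) (by simp) a' b).mul_mul_mul_comm,
    ((h.comm (by simp) (by simp) a' c).mul_left (h.comm (by simp) (by simp) b' c)).mul_mul_mul_comm]

theorem C3.rot {s₁ s₂ s₃ : Rx} (h : C3 s₁ s₂ s₃) (a b c : K) : x3 s₂ s₃ s₁ b c a = x3 s₁ s₂ s₃ a b c := by
  rw [x3, x3, mul_assoc (xs _ s₁ a)]
  exact ((h.comm (by simp) (by simp) b a).mul_left (h.comm (by simp) (by simp) c a)).eq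

end x3

variable {p q : ℕ} [Fact p.Prime] {T : Type} [Group T] [Finite T] (m : MData Nodes.RGDTwD4.hp p q T)

theorem ev_frob (x : T) (c : KK p) :
    ev ((DS.Nt.ad chevD4 p).comp m.ι) x c ≤ ev ((DS.Nt.ad chevD4 p).comp m.ι) x (c ^ q) := by
  obtain ⟨J, hJ⟩ := m.frob
  have h1 := hJ (m.ι x)
  rw [m.fix, eq_mul_inv_iff_mul_eq] at h1
  have h2 : mx (m.ι x) * (J : Matrix Ix Ix (KK p)) = J * (mx (m.ι x)).map (iterateFrobenius (KK p) p m.e) :=
    congrArg Units.val h1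
  let φ := iterateFrobeniusEquiv (KK p) p m.e
  have h3 : ∀ (a : KK p) (v : Ix → KK p), (iterateFrobenius (KK p) p m.e) ∘ (a • v) =
      φ a • (iterateFrobenius (KK p) p m.e) ∘ v := fun a v => funext fun i => map_mul _ _ _
  let j : ((DS.Nt.ad chevD4 p).comp m.ι x).eigenspace c →+ ((DS.Nt.ad chevD4 p).comp m.ι x).eigenspace (c ^ q) :=
    { toFun := fun v => ⟨(J : Matrix Ix Ix (KK p)).mulVec (iterateFrobenius (KK p) p m.e ∘ v.1), by
        have h4 : (mx (m.ι x)).mulVec v.1 = c • v.1 := End.mem_eigenspace_iff.1 v.2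
        refine End.mem_eigenspace_iff.2 (show (mx (m.ι x)).mulVec _ = _ from ?_)
        rw [Matrix.mulVec_mulVec, h2, ← Matrix.mulVec_mulVec, ← Matrix.mulVec_smul]
        congr 1
        funext i
        rw [← RingHom.map_mulVec, h4]
        exact (congrFun (h3 c v.1) i).trans (by rw [iterateFrobeniusEquiv_def, m.hq])⟩
      map_zero' := Subtype.ext ((congrArg (J : Matrix Ix Ix (KK p)).mulVec
        (funext fun _ => map_zero (iterateFrobenius (KK p) p m.e))).trans (Matrix.mulVec_zero _))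
      map_add' := fun v w => Subtype.ext ((congrArg (J : Matrix Ix Ix (KK p)).mulVec
        (funext fun i => map_add (iterateFrobenius (KK p) p m.e) (v.1 i) (w.1 i))).trans
          (Matrix.mulVec_add _ (iterateFrobenius (KK p) p m.e ∘ v.1) (iterateFrobenius (KK p) p m.e ∘ w.1))) }
  have h5 := rank_le_of_surjective_injective φ j φ.surjective (fun v w e => Subtype.ext (funext fun i => φ.injective
    (congrFun (Matrix.mulVec_injective_of_isUnit J.isUnit (congrArg Subtype.val e)) i))) fun a v => Subtype.ext (by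
      show (J : Matrix Ix Ix (KK p)).mulVec (iterateFrobenius (KK p) p m.e ∘ (a • v.1)) =
        φ a • (J : Matrix Ix Ix (KK p)).mulVec (iterateFrobenius (KK p) p m.e ∘ v.1)
      rw [h3, Matrix.mulVec_smul])
  exact Cardinal.toNat_le_toNat h5 (rank_lt_aleph0 _ _)

/-- the fixed points in `U` -/
noncomputable def PU : Subgroup T :=
  (RGD.Sup (XX chevD4 4 (KK p)) (RGD.Pos coxeterD4.toCoxeterSystem Nodes.RGDTwD4.hp.isCartan)).comap m.ι

theorem card_PU (h : m.dd = 1) : Nat.card (PU m) = p ^ (Nat.card T).factorization p := by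
  have hq : (SB.Low.dat m).QS := fun a _ ha => m.pos ha
  have : Finite m.ι.range := Finite.of_surjective _ m.ι.rangeRestrict_surjective
  have h1 := St.card_U (SB.Low.dat m).sbn (St.aut_qs hq) (H := m.ι.range)
    (fun g => ⟨fun k => ⟨trivial, ((SB.Low.md m h).range g).2 k⟩, fun k => ((SB.Low.md m h).range g).1 k.2⟩)
    (SB.Low.dat m).isPGroup_U (fun _ => St.eq_one_of_pow _) (St.move hq)
  rw [Nat.card_congr (MonoidHom.ofInjective m.inj).toEquiv, ← h1, ← card_map_of_injective m.inj, PU, map_comap_eq, inf_comm]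
  rfl

theorem act {s s' : Rx} (h : vec chevD4 4 s' = m.g (vec chevD4 4 s)) : ∃ c : KK p, c ≠ 0 ∧ ∀ t,
    m.σ (xs Nodes.RGDTwD4.hp.inList s t) = xs Nodes.RGDTwD4.hp.inList s' (c * t ^ p ^ m.e) := by
  obtain ⟨r, h1, h2, c, h3, h4, -⟩ := m.act s s.2
  rw [vec_inj Nodes.RGDTwD4.hp h2 s'.2 (h1.trans h.symm)] at h4
  exact ⟨c, h3, fun t => by rw [m.hq, h4]⟩

/-- a relative root group which meets the centraliser trivially -/
theorem bound (h : m.dd = 1) {s₁ s₂ s₃ : Rx} (h₁ : vec chevD4 4 s₂ = m.g (vec chevD4 4 s₁))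
    (h₂ : vec chevD4 4 s₃ = m.g (vec chevD4 4 s₂)) (h₃ : vec chevD4 4 s₁ = m.g (vec chevD4 4 s₃)) (hc : C3 s₁ s₂ s₃)
    (h0 : 0 ≤ vec chevD4 4 s₁) {u : T} (hu : centralizer {u} ≤ PU m) (H : ∀ a b c : KK p, a ≠ 0 → b ≠ 0 → c ≠ 0 →
      m.ι u * x3 s₁ s₂ s₃ a b c ≠ x3 s₁ s₂ s₃ a b c * m.ι u) : q ^ 3 * cn u ≤ Nat.card (PU m) := by
  obtain ⟨c₁, k₁, e₁⟩ := act m h₁
  obtain ⟨c₂, k₂, e₂⟩ := act m h₂
  obtain ⟨c₃, k₃, e₃⟩ := act m h₃
  let y : KK p → DS.Ex.YY chevD4 p := fun a => x3 s₁ s₂ s₃ a (c₁ * a ^ p ^ m.e) (c₂ * (c₁ * a ^ p ^ m.e) ^ p ^ m.e)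
  have y1 : ∀ a b, y (a + b) = y a * y b := fun a b => by
    simp only [y]
    rw [← hc.add, add_pow_char_pow, mul_add, add_pow_char_pow, mul_add]
  have k : c₃ * (c₂ * c₁ ^ p ^ m.e) ^ p ^ m.e ≠ 0 := mul_ne_zero k₃ (pow_ne_zero _ (mul_ne_zero k₂ (pow_ne_zero _ k₁)))
  have y2 : ∀ a : {s : KK p // c₃ * (c₂ * c₁ ^ p ^ m.e) ^ p ^ m.e * s ^ p ^ (m.e * 3) = s}, ∃ x ∈ PU m, m.ι x = y a := by
    rintro ⟨a, ha⟩
    obtain ⟨x, hx⟩ := ((SB.Low.md m h).range (y a)).1 (by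
      have e : c₃ * (c₂ * (c₁ * a ^ p ^ m.e) ^ p ^ m.e) ^ p ^ m.e = a := by
        refine Eq.trans ?_ ha
        rw [pow_mul p]
        ring
      refine Eq.trans ?_ (hc.rot _ _ _)
      simp only [y]
      rw [x3, x3, map_mul, map_mul, e₁, e₂, e₃, e])
    refine ⟨x, mem_comap.2 ?_, hx⟩
    rw [hx]
    exact mul_mem (mul_mem (xs_mem_Sup_Pos Nodes.RGDTwD4.hp s₁.2 h0 _) (xs_mem_Sup_Pos Nodes.RGDTwD4.hp s₂.2 (h₁ ▸ m.pos h0) _))
      (xs_mem_Sup_Pos Nodes.RGDTwD4.hp s₃.2 (h₂ ▸ m.pos (h₁ ▸ m.pos h0)) _)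
  choose x hx1 hx2 using y2
  have h4 := H123.ExcRoot.card_sol (Nat.mul_pos m.he three_pos) k
  rw [show q ^ 3 = p ^ (m.e * 3) by rw [pow_mul, m.hq], ← h4, cn, ← Nat.card_prod]
  refine Nat.card_le_card_of_injective (fun z => (⟨x z.1 * z.2, mul_mem (hx1 _) (hu z.2.2)⟩ : PU m)) ?_
  rintro ⟨a, c⟩ ⟨a', c'⟩ e
  have h5 : x a * c = x a' * c' := congrArg Subtype.val e
  have h6 : y (a - a') = m.ι (c' * (c : T)⁻¹) := by
    have h7 := congrArg m.ι h5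
    rw [map_mul, map_mul, hx2, hx2, ← add_sub_cancel (a' : KK p) a, y1, mul_assoc, mul_right_inj] at h7
    rw [map_mul, map_inv, ← h7, mul_inv_cancel_right]
  have h8 : a = a' := by
    by_contra k
    have h9 : (a : KK p) - a' ≠ 0 := sub_ne_zero.2 fun e => k (Subtype.ext e)
    refine H _ _ _ h9 (mul_ne_zero k₁ (pow_ne_zero _ h9)) (mul_ne_zero k₂ (pow_ne_zero _ (mul_ne_zero k₁ (pow_ne_zero _ h9))))
      (show m.ι u * y _ = y _ * m.ι u from ?_)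
    rw [h6, ← map_mul, ← map_mul, mem_cen.1 (mul_mem c'.2 (inv_mem c.2))]
  rw [h8] at h5 ⊢
  exact Prod.ext rfl (Subtype.ext (mul_left_cancel h5))

theorem index (h : m.dd = 1) (hg : m.g = H720.TwFr.permE H720.TwFr.rho4) (h2 : (2 : KK p) ≠ 0) {u : T}
    (hu : centralizer {u} ≤ PU m) (h6 : DS.Nt.dd p (m.ι u) ≤ 6) : q ^ 3 * cn u ≤ Nat.card (PU m) := by
  by_contra k
  have k1 := mt (bound m h (s₁ := rx 18) (s₂ := rx 13) (s₃ := rx 12) (by rw [hg]; decide +kernel) (by rw [hg]; decide +kernel)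
    (by rw [hg]; decide +kernel) (by unfold C3; decide +kernel) (Pi.le_def.2 (by decide +kernel)) hu) k
  have k2 := mt (bound m h (s₁ := rx 19) (s₂ := rx 16) (s₃ := rx 15) (by rw [hg]; decide +kernel) (by rw [hg]; decide +kernel)
    (by rw [hg]; decide +kernel) (by unfold C3; decide +kernel) (Pi.le_def.2 (by decide +kernel)) hu) k
  push Not at k1 k2
  obtain ⟨a, b, c, ha, hb, hc, e⟩ := k1
  obtain ⟨a', b', c', ha', hb', hc', e'⟩ := k2
  obtain ⟨L, hL⟩ := (SB.Low.dat m).uni_pos.exists_ord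
  obtain ⟨κ, -, hκ⟩ := hL.ex (SB.Low.dat m).cl_pos subset_rfl (u := m.ι u) (hu (mem_cen.2 rfl))
  obtain ⟨t, t0, ht⟩ := ld_list (fun a => (SB.Low.dat m).x a (κ a)) L
    (fun a ha => ⟨hL.root a ha, (SB.Low.dat m).x_mem (hL.root a ha) _⟩) hL.nodup
  have h4 := core h2 (g := m.ι u) (fun s hs => ((hL.mem _).1 (by_contra fun k => hs (t0 s k))).2) (hκ ▸ ht) ha hb hc ha' hb' hc'
    e e'
  have h5 := H892.FixDim.finrank_le_of_pow_eq_zero (g := DS.Nt.ad chevD4 p (m.ι u) - 1) (n := 4) (by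
    rw [show DS.Nt.ad chevD4 p (m.ι u) - 1 = Matrix.toLinAlgEquiv' (mx (m.ι u) - 1) by rw [map_sub, map_one]; rfl, ← map_pow,
      h4, map_zero])
  rw [(finrank_fintype_fun_eq_card _).trans (by decide +kernel : _ = 28)] at h5
  rw [DS.Nt.dd, ev, End.eigenspace_def, one_smul] at h6
  exact absurd (h5.trans (Nat.mul_le_mul_left 4 h6)) (by decide)

end U5

/-- **[U5]** -/
theorem boxU5 : BoxU5 := by
  rintro p _ k q T _ _ _ d (⟨rfl, -⟩ | ⟨-, -, ⟨m, h, hg, hd⟩, -⟩) A B L hk rfl u hu h6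
  · exact absurd hk (by decide)
  subst hk
  have h1 := U5.pgrp (ρ := (DS.Nt.ad chevD4 5).comp m.ι) hd ((finrank_fintype_fun_eq_card _).trans (by decide +kernel))
    (U5.ev_frob m) A B L hu h6
  obtain ⟨Q, hQ⟩ := h1.exists_le_sylow
  obtain ⟨g, hg'⟩ := MulAction.exists_smul_eq T Q (Sylow.ofCard (U5.PU m) (U5.card_PU m h))
  have h2 : centralizer {g * u * g⁻¹} ≤ U5.PU m := fun x hx => by
    have h3 : x ∈ ((g • Q : Sylow 5 T) : Subgroup T) := by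
      rw [Sylow.coe_subgroup_smul, mem_pointwise_smul_iff_inv_smul_mem, ← map_inv]
      refine hQ (mem_cen.2 ?_)
      have h4 := mem_cen.1 hx
      show g⁻¹ * x * g⁻¹⁻¹ * u = u * (g⁻¹ * x * g⁻¹⁻¹)
      calc g⁻¹ * x * g⁻¹⁻¹ * u = g⁻¹ * (x * (g * u * g⁻¹)) * g := by group
        _ = u * (g⁻¹ * x * g⁻¹⁻¹) := by rw [h4]; group
    rwa [hg'] at h3
  have h3 := U5.index m h hg (fun e => absurd ((CharP.cast_eq_zero_iff (KK 5) 5 2).1 e) (by decide)) h2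
    ((hd _).symm.trans_le ((A.conj u g).trans_le h6))
  obtain ⟨n, h4, h5, -⟩ := ord_eq L.par
  obtain ⟨f, h7, h8⟩ := L.pw
  have h9 : Nat.card (U5.PU m) ∣ q ^ 12 := by
    refine Nat.Coprime.dvd_of_dvd_mul_right ?_ ((card_subgroup_dvd_card _).trans (L.card.trans h4).dvd)
    rw [U5.card_PU m h]
    exact (h5.symm.coprime_dvd_left (h8 ▸ dvd_pow_self 5 h7.ne')).pow_left _
  have h10 : 0 < q := h8 ▸ pow_pos (by decide) f
  rw [← cn_congr (MulAut.conj g) u]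
  refine Nat.le_of_mul_le_mul_left (h3.trans ((Nat.le_of_dvd (pow_pos h10 12) h9).trans_eq ?_)) (pow_pos h10 3)
  rw [← pow_add]

end Cfsg.Agent.N2.G2
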