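import Cfsg.Agent.FP3.Aff.Scott

/-!
# N2 (S3519), `³D₄(q)`: Scott's inequality, the linear algebra (helper5)

* `stb ρ v`, `cof ρ C` : the stabiliser of a vector, the elements which act trivially modulo a subspace;
* `scott_le` : Scott's inequality for `x`, `y` with bounds for the fixed and cofixed spaces;
* `scott_sup` : the same if `⟨x, y⟩ ⊔ Z = ⊤` and `Z` has the fixed vectors and covectors of `⟨x, y⟩`;
* `fix_eq`, `com_eq` : powers with the same fixed dimension; `four_le`, `com_four` : four-groups.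
-/

set_option autoImplicit false
set_option linter.unusedSectionVars false

namespace Cfsg.Agent.N2.G2.Sc

open Module Cfsg.Agent.FP3

variable {K V T : Type*} [Field K] [AddCommGroup V] [Module K V] [FiniteDimensional K V] [Group T]
  (ρ : T →* Module.End K V)

theorem rho_mul (a b : T) (v : V) : ρ (a * b) v = ρ a (ρ b v) := by rw [map_mul, Module.End.mul_apply]

theorem rho_one (v : V) : ρ 1 v = v := by rw [map_one, Module.End.one_apply]

/-- the stabiliser of a vector -/
def stb (v : V) : Subgroup T where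
  carrier := {g | ρ g v = v}
  one_mem' := rho_one ρ v
  mul_mem' {a b} ha hb := (rho_mul ρ a b v).trans ((congrArg (ρ a) hb).trans ha)
  inv_mem' {a} ha := by
    have h : ρ a⁻¹ (ρ a v) = v := by rw [← rho_mul, inv_mul_cancel, rho_one]
    rwa [show ρ a v = v from ha] at h

/-- the elements which act trivially modulo `C` -/
def cof (C : Submodule K V) : Subgroup T where
  carrier := {g | ∀ v, ρ g v - v ∈ C}
  one_mem' v := by rw [rho_one, sub_self]; exact C.zero_mem
  mul_mem' {a b} ha hb v := by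
    rw [rho_mul, ← sub_add_sub_cancel _ (ρ b v)]
    exact C.add_mem (ha _) (hb _)
  inv_mem' {a} ha v := by
    have h := C.neg_mem (ha (ρ a⁻¹ v))
    rwa [← rho_mul, mul_inv_cancel, rho_one, neg_sub] at h

variable {ρ}

theorem mem_stb {v : V} {g : T} : g ∈ stb ρ v ↔ ρ g v = v := Iff.rfl

theorem mem_cof {C : Submodule K V} {g : T} : g ∈ cof ρ C ↔ ∀ v, ρ g v - v ∈ C := Iff.rfl

theorem mem_cof' {C : Submodule K V} {g : T} : g ∈ cof ρ C ↔ comSp (ρ g) ≤ C :=
  ⟨fun h _ hw => let ⟨v, e⟩ := mem_comSp.1 hw; e ▸ h v, fun h v => h (sub_mem_comSp _ v)⟩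

/-- Scott's inequality with bounds for the fixed and the cofixed space -/
theorem scott_le (x y : T) {a b : ℕ} (hf : ∀ F : Submodule K V, (∀ v ∈ F, Subgroup.closure {x, y} ≤ stb ρ v) → finrank K F ≤ a)
    (hc : ∀ C : Submodule K V, Subgroup.closure {x, y} ≤ cof ρ C → finrank K V ≤ finrank K C + b) :
    dfx (ρ x) + dfx (ρ y) + dfx (ρ (x * y)) ≤ finrank K V + a + b := by
  have h1 := scott' (ρ x) (ρ y)
  have h2 := hf (fixSp (ρ x) ⊓ fixSp (ρ y)) fun v hv => (Subgroup.closure_le _).2 (by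
    rintro _ (rfl | rfl)
    exacts [mem_fixSp.1 hv.1, mem_fixSp.1 hv.2])
  have h3 := hc (comSp (ρ x) ⊔ comSp (ρ y)) ((Subgroup.closure_le _).2 (by
    rintro _ (rfl | rfl)
    exacts [mem_cof'.2 le_sup_left, mem_cof'.2 le_sup_right]))
  rw [map_mul]
  omega

/-- Scott's inequality if a supplement of `⟨x, y⟩` has its fixed vectors and covectors -/
theorem scott_sup {x y : T} {Z : Subgroup T} (h : Subgroup.closure {x, y} ⊔ Z = ⊤)
    (hf : ∀ v, Subgroup.closure {x, y} ≤ stb ρ v → Z ≤ stb ρ v)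
    (hc : ∀ C, Subgroup.closure {x, y} ≤ cof ρ C → Z ≤ cof ρ C) {F : Submodule K V} (h1 : ∀ v, ⊤ ≤ stb ρ v → v ∈ F)
    (h2 : ∀ C, ⊤ ≤ cof ρ C → C = ⊤) : dfx (ρ x) + dfx (ρ y) + dfx (ρ (x * y)) ≤ finrank K V + finrank K F :=
  scott_le (b := 0) x y (fun _ e => Submodule.finrank_mono fun v hv => h1 v (h ▸ sup_le (e v hv) (hf v (e v hv))))
    fun C e => by rw [h2 C (h ▸ sup_le e (hc C e)), finrank_top, add_zero]

theorem fix_le {s z : T} (h : s ∈ Subgroup.zpowers z) : fixSp (ρ z) ≤ fixSp (ρ s) := fun v hv =>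
  mem_fixSp.2 ((Subgroup.zpowers_le.2 (show z ∈ stb ρ v from mem_fixSp.1 hv)) h)

theorem com_le {s z : T} (h : s ∈ Subgroup.zpowers z) : comSp (ρ s) ≤ comSp (ρ z) :=
  mem_cof'.1 ((Subgroup.zpowers_le.2 (mem_cof'.2 le_rfl)) h)

theorem fix_eq {s z : T} (h : s ∈ Subgroup.zpowers z) (e : dfx (ρ z) = dfx (ρ s)) : fixSp (ρ z) = fixSp (ρ s) :=
  Submodule.eq_of_le_of_finrank_eq (fix_le h) e

theorem com_eq {s z : T} (h : s ∈ Subgroup.zpowers z) (e : dfx (ρ z) = dfx (ρ s)) : comSp (ρ s) = comSp (ρ z) := by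
  refine Submodule.eq_of_le_of_finrank_eq (com_le h) ?_
  have h1 := finrank_comSp_add_dfx (ρ s)
  have h2 := finrank_comSp_add_dfx (ρ z)
  omega

section four

variable {a b : Module.End K V} (h2 : (2 : K) ≠ 0) (ha : ∀ v, a (a v) = v) (hb : ∀ v, b (b v) = v)
  (hc : ∀ v, a (b v) = b (a v))

include h2 ha hb hc

/-- the fixed space of a four-group -/
theorem four_le : finrank K V + 2 * finrank K ↥(fixSp a ⊓ fixSp b) ≤ dfx a + dfx b + dfx (a * b) := by
  have h1 := Submodule.finrank_sup_add_finrank_inf_eq (fixSp a) (fixSp b)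
  have h3 := Submodule.finrank_sup_add_finrank_inf_eq (fixSp a ⊔ fixSp b) (fixSp (a * b))
  have h4 : fixSp a ⊓ fixSp b ≤ (fixSp a ⊔ fixSp b) ⊓ fixSp (a * b) := fun v hv =>
    ⟨Submodule.mem_sup_left hv.1, mem_fixSp.2 (by rw [Module.End.mul_apply, mem_fixSp.1 hv.2, mem_fixSp.1 hv.1])⟩
  have h5 : fixSp a ⊔ fixSp b ⊔ fixSp (a * b) = ⊤ := eq_top_iff.2 fun v _ => by
    have e : v = (2 : K)⁻¹ • ((v + b v) - (b v + a (b v)) + (v + a (b v))) := by
      rw [eq_inv_smul_iff₀ h2, two_smul]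
      abel
    rw [e]
    refine Submodule.smul_mem _ _ (add_mem (Submodule.mem_sup_left (sub_mem (Submodule.mem_sup_right (mem_fixSp.2 ?_))
      (Submodule.mem_sup_left (mem_fixSp.2 ?_)))) (Submodule.mem_sup_right (mem_fixSp.2 ?_)))
    · rw [map_add, hb, add_comm]
    · rw [map_add, ha, add_comm]
    · rw [Module.End.mul_apply, map_add, map_add, ← hc, hb, ha, add_comm]
  have h6 := Submodule.finrank_mono h4
  rw [h5, finrank_top] at h3
  unfold dfx
  omega

/-- an endomorphism which centralises a four-group and its fixed space -/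
theorem com_four {g : Module.End K V} (h3 : ∀ v, g (a v) = a (g v)) (h4 : ∀ v, g (b v) = b (g v))
    (h5 : ∀ v, a v = v → b v = v → g v = v) {C : Submodule K V} (h6 : ∀ v, a v - v ∈ C) (h7 : ∀ v, b v - v ∈ C) (v : V) :
    g v - v ∈ C := by
  have h8 := h5 (v + a v + b v + a (b v)) (by simp only [map_add, ha]; abel) (by simp only [map_add, ← hc, hb]; abel)
  simp only [map_add, h3, h4] at h8
  have e : g v - v = (2 : K)⁻¹ • (2 : K)⁻¹ • -((a (g v - v) - (g v - v)) + (b (g v - v) - (g v - v)) + (b (g v - v) - (g v - v)) +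
      (a (b (g v - v)) - b (g v - v))) := by
    rw [eq_inv_smul_iff₀ h2, eq_inv_smul_iff₀ h2, two_smul, two_smul]
    simp only [map_sub]
    linear_combination (norm := abel) h8
  rw [e]
  exact C.smul_mem _ (C.smul_mem _ (C.neg_mem (add_mem (add_mem (add_mem (h6 _) (h7 _)) (h7 _)) (h6 _))))

end four

end Cfsg.Agent.N2.G2.Sc
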