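import Cfsg.Agent.N2.G2.Defs
import Cfsg.Agent.N2.G2.Sc0
import Cfsg.Agent.N2.Ex.K.CoTab
import Cfsg.Agent.TitsThree.KExcBase

/-!
# N2 (S3519), `³D₄(q)`: fixed vectors and covectors on the adjoint module (helper5)

* `col_chain`, `col_fix`, `col_neg` : columns of root elements;
* `rho m` : the adjoint module of the finite group, `dfx_rho`;
* `exists_long`, `exists_short` : root elements of the finite group;
* **`cof_top`** : no fixed covectors; **`stb_top`** : the fixed vectors lie in the radical `Rad p` of the invariant form;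
  `rad_le`, `rad_eq` : its dimension.
-/

set_option autoImplicit false
set_option linter.unusedSectionVars false

namespace Cfsg.Agent.N2.G2.Sc

open Matrix Module Cfsg Cfsg.Lie Cfsg.Lie.ChevalleyDatum Cfsg.Agent.FP3 Cfsg.Agent.H316.U6
open Cfsg.Agent.ChevalleyStructure.GraphColumns Cfsg.Agent.ChevalleyStructure.Elts Cfsg.Agent.H469.Exc
  Cfsg.Agent.H469.Exc.SigFr Cfsg.Agent.DS.Ex Cfsg.Agent.DS.Nt Cfsg.Agent.Nodes.RGDChev Cfsg.Agent.N2.Ex.K

section col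

variable {D : ChevalleyDatum} {K : Type} [Field K] {r s u : Fin D.nroots}

theorem col_chain {ε : ℤ} (h1 : s ≠ r) (h2 : s.val ≠ D.negIdx.getD r 0)
    (h3 : ∀ w : Fin D.nroots, D.chainCoeff r s w = if w = u then [(1, ε)] else []) (t : K) :
    D.xMat K r t *ᵥ Pi.single (Sum.inr s) 1 - Pi.single (Sum.inr s) 1 = ((ε : K) * t) • Pi.single (Sum.inr u) 1 := by
  funext a
  rw [Pi.sub_apply, mulVec_single_one, col_apply]
  rcases a with i | w
  · rw [xMat_lr, if_neg h1, if_neg h2]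
    simp
  · rw [xMat_rr, if_neg h1, if_neg h2, h3]
    by_cases e : w = u <;> simp [e, Pi.single_apply]

theorem col_fix (h1 : s ≠ r) (h2 : s.val ≠ D.negIdx.getD r 0) (h3 : ∀ w : Fin D.nroots, D.chainCoeff r s w = []) (t : K) :
    D.xMat K r t *ᵥ Pi.single (Sum.inr s) 1 = Pi.single (Sum.inr s) 1 := by
  funext a
  rw [mulVec_single_one, col_apply]
  rcases a with i | w
  · rw [xMat_lr, if_neg h1, if_neg h2]
    simp
  · rw [xMat_rr, if_neg h1, if_neg h2, h3]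
    simp [Pi.single_apply]

theorem col_neg (h1 : s ≠ r) (h2 : s.val = D.negIdx.getD r 0) (t : K) (i : Fin D.rank) :
    (D.xMat K r t *ᵥ Pi.single (Sum.inr s) 1 - Pi.single (Sum.inr s) 1 : D.Idx → K) (Sum.inl i) =
      (((D.coroot.getD r #[]).getD i 0 : ℤ) : K) * t := by
  rw [Pi.sub_apply, mulVec_single_one, col_apply, xMat_lr, if_neg h1, if_pos h2]
  simp

theorem mem_of_tor {C : Submodule K (D.Idx → K)} (h : ∀ s, Pi.single (Sum.inr s) 1 ∈ C) {w : D.Idx → K} (hw : w ∈ C)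
    {i : Fin D.rank} {t : K} (ht : t ≠ 0) (e : ∀ j, w (Sum.inl j) = ((if j = i then 1 else 0 : ℤ) : K) * t) :
    Pi.single (Sum.inl i) 1 ∈ C := by
  have h1 : t • (Pi.single (Sum.inl i) 1 : D.Idx → K) = w - ∑ s, w (Sum.inr s) • Pi.single (Sum.inr s) 1 := by
    funext a
    rcases a with j | s <;> simp [Finset.sum_apply, Pi.single_apply, e]
  exact (C.smul_mem_iff ht).1 (h1 ▸ C.sub_mem hw (C.sum_mem fun s _ => C.smul_mem _ (h s)))

theorem fin4 {P : Fin 4 → Prop} (h0 : P 0) (h1 : P 1) (h2 : P 2) (h3 : P 3) (i : Fin 4) : P i := by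
  fin_cases i
  exacts [h0, h1, h2, h3]

theorem exists_sol [IsAlgClosed K] {c : K} (hc : c ≠ 0) {n : ℕ} (hn : 2 ≤ n) : ∃ t : K, t ≠ 0 ∧ c * t ^ n = t := by
  obtain ⟨n, rfl⟩ : ∃ k, n = k + 1 := ⟨n - 1, by omega⟩
  obtain ⟨t, ht⟩ := IsAlgClosed.exists_pow_nat_eq c⁻¹ (n := n) (by omega)
  refine ⟨t, fun e => ?_, by rw [pow_succ, ht, mul_inv_cancel_left₀ hc]⟩
  rw [e, zero_pow (by omega)] at ht
  exact inv_ne_zero hc ht.symm

end col

section gen

variable {D : ChevalleyDatum} {l : ℕ} {M : CoxeterMatrix (Fin l)} {hp : IsType D l M} {p q : ℕ} [Fact p.Prime]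
  {T : Type} [Group T] (m : MData hp p q T)

/-- the adjoint module of the finite group -/
noncomputable def rho : T →* Module.End (KK p) (D.Idx → KK p) := (ad D p).comp m.ι

theorem rho_apply (x : T) (v : D.Idx → KK p) : rho m x v = ad D p (m.ι x) v := rfl

theorem dfx_rho (x : T) : dfx (rho m x) = dd p (m.ι x) := by
  rw [dfx, dd, DS.NT.ev, Module.End.eigenspace_def, one_smul]
  rfl

theorem ad_xs (hD : InList D) (r : Fin D.nroots) (t : KK p) (v : D.Idx → KK p) :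
    ad D p (xs hD r t) v = D.xMat (KK p) r t *ᵥ v := by
  rw [← ChevalleyStructure.Elts.x_of_lt r.2]
  rfl

include m in
theorem two_le : 2 ≤ q := m.hq ▸ (Fact.out : p.Prime).two_le.trans (Nat.le_self_pow m.he.ne' p)

theorem exists_pre (h : m.dd = 1) {y : YY D p} (hy : m.σ y = y) : ∃ x, m.ι x = y := by
  have := m.pow_dd y hy
  rwa [h, pow_one] at this

/-- root elements for a fixed root -/
theorem exists_long (h : m.dd = 1) {s : ℕ} (hs : ActF hp.inList m.σ q s s) :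
    (∃ t x, t ≠ 0 ∧ m.ι x = xs hp.inList s t) ∧ ∃ t x, t ≠ 0 ∧ m.ι x = xs hp.inList (D.neg s) t := by
  obtain ⟨-, c, hc, h1, h2⟩ := hs
  obtain ⟨t, ht, e⟩ := exists_sol hc (two_le m)
  obtain ⟨t', ht', e'⟩ := exists_sol (inv_ne_zero hc) (two_le m)
  obtain ⟨x, hx⟩ := exists_pre m h ((h1 t).trans (by rw [e]))
  obtain ⟨x', hx'⟩ := exists_pre m h ((h2 t').trans (by rw [e']))
  exact ⟨⟨t, x, ht, hx⟩, t', x', ht', hx'⟩

end gen

theorem t_act : ∀ s ∈ [(14, 14), (23, 23), (18, 13), (13, 12), (12, 18)], ∀ u < 24,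
    (∀ i : Fin 4, vec chevD4 4 u i = vec chevD4 4 s.1 (H720.TwFr.rho4.symm i)) → u = s.2 := by decide +kernel

theorem t_chain : ∀ u : Fin chevD4.nroots, ∃ r : Fin chevD4.nroots, r.val ∈ [14, chevD4.neg 14, 23, chevD4.neg 23] ∧
    ∃ s : Fin chevD4.nroots, s ≠ r ∧ s.val ≠ chevD4.negIdx.getD r 0 ∧ ∃ ε ∈ [(1 : ℤ), -1],
      ∀ w : Fin chevD4.nroots, chevD4.chainCoeff r s w = if w = u then [(1, ε)] else [] := by decide +kernel

/-- indices of roots -/
def ix (n : ℕ) (h : n < 24 := by decide) : Fin chevD4.nroots := ⟨n, h⟩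

theorem t_fix : ∀ a ∈ [(ix 13, ix 5), (ix 12, ix 5), (ix 18, ix 10), (ix 12, ix 10), (ix 18, ix 11), (ix 13, ix 11)],
    a.2 ≠ a.1 ∧ a.2.val ≠ chevD4.negIdx.getD a.1 0 ∧ ∀ w : Fin chevD4.nroots, chevD4.chainCoeff a.1 a.2 w = [] := by
  decide +kernel

theorem t_neg : ∀ a ∈ [(ix 18, ix 5, (0 : Fin 4)), (ix 14, ix 9, 1), (ix 13, ix 10, 2), (ix 12, ix 11, 3)],
    a.2.1 ≠ a.1 ∧ a.2.1.val = chevD4.negIdx.getD a.1 0 ∧
      ∀ j : Fin 4, (chevD4.coroot.getD a.1 #[]).getD j 0 = if j = a.2.2 then 1 else 0 := by decide +kernel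

theorem t_comm : ∀ a ∈ [(18, 13), (18, 12), (13, 12)], a.1 < chevD4.nroots ∧ a.2 < chevD4.nroots ∧ a.2 ≠ a.1 ∧
    a.2 ≠ chevD4.neg a.1 ∧ chevD4.commTerms a.1 a.2 = [] := by decide +kernel

theorem okD : Co.OkA chevD4 fun _ => 1 := by decide +kernel

theorem t_fa : ∀ i j : Fin 4, Co.fa chevD4 (fun _ => 1) i j =
    ![![2, -1, 0, 0], ![-1, 2, -1, -1], ![0, -1, 2, 0], ![0, -1, 0, 2]] i j := by decide +kernel

variable {p q : ℕ} [Fact p.Prime] {T : Type} [Group T] (m : MData Nodes.RGDTwD4.hp p q T)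

theorem xs_comm {a : ℕ × ℕ} (ha : a ∈ [(18, 13), (18, 12), (13, 12)]) (t u : KK p) :
    xs Nodes.RGDTwD4.hp.inList a.1 t * xs Nodes.RGDTwD4.hp.inList a.2 u =
      xs Nodes.RGDTwD4.hp.inList a.2 u * xs Nodes.RGDTwD4.hp.inList a.1 t :=
  let ⟨h1, h2, h3, h4, h5⟩ := t_comm a ha
  Subtype.ext (TitsThree.KExcBase.comm_nil Nodes.RGDTwD4.hp.inList h1 h2 h3 h4 h5 t u)

variable (hd : m.dd = 1) (hg : m.g = H720.TwFr.permE H720.TwFr.rho4)

include hg in
theorem act {s : ℕ × ℕ} (hs : s ∈ [(14, 14), (23, 23), (18, 13), (13, 12), (12, 18)]) :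
    ActF Nodes.RGDTwD4.hp.inList m.σ q s.1 s.2 := by
  obtain ⟨u, h1, h2⟩ := m.act s.1 ((by decide : ∀ s ∈ [(14, 14), (23, 23), (18, 13), (13, 12), (12, 18)], s.1 < 24) s hs)
  rw [hg] at h1
  exact t_act s hs u h2.1 (congrFun h1) ▸ h2

include hd hg

/-- a short root element -/
theorem exists_short : ∃ (a b c : KK p) (x : T), a ≠ 0 ∧ b ≠ 0 ∧ c ≠ 0 ∧ m.ι x =
    xs Nodes.RGDTwD4.hp.inList 18 a * xs Nodes.RGDTwD4.hp.inList 13 b * xs Nodes.RGDTwD4.hp.inList 12 c := by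
  obtain ⟨-, a, ha, h1, -⟩ := act m hg (s := (18, 13)) (by decide)
  obtain ⟨-, b, hb, h2, -⟩ := act m hg (s := (13, 12)) (by decide)
  obtain ⟨-, c, hc, h3, -⟩ := act m hg (s := (12, 18)) (by decide)
  have h4 := two_le m
  obtain ⟨t, ht, e⟩ := exists_sol (c := c * (b * a ^ q) ^ q) (n := q * q * q)
    (mul_ne_zero hc (pow_ne_zero _ (mul_ne_zero hb (pow_ne_zero _ ha)))) (by nlinarith [Nat.mul_le_mul h4 h4])
  obtain ⟨x, hx⟩ := exists_pre m hd (y := xs _ 18 t * xs _ 13 (a * t ^ q) * xs _ 12 (b * (a * t ^ q) ^ q)) (by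
    rw [map_mul, map_mul, h1, h2, h3, show c * (b * (a * t ^ q) ^ q) ^ q = t from Eq.trans (by ring) e, mul_assoc,
      ← xs_comm (a := (18, 12)) (by decide), ← mul_assoc, ← xs_comm (a := (18, 13)) (by decide)])
  exact ⟨t, _, _, x, ht, mul_ne_zero ha (pow_ne_zero _ ht),
    mul_ne_zero hb (pow_ne_zero _ (mul_ne_zero ha (pow_ne_zero _ ht))), hx⟩

/-- **no fixed covectors** -/
theorem cof_top (C : Submodule (KK p) (chevD4.Idx → KK p)) (h : ⊤ ≤ cof (rho m) C) : C = ⊤ := by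
  have h0 : ∀ x v, ad chevD4 p (m.ι x) v - v ∈ C := fun x => h (Subgroup.mem_top x)
  have h1 := exists_long m hd (act m hg (s := (14, 14)) (by decide))
  have h2 := exists_long m hd (act m hg (s := (23, 23)) (by decide))
  have h3 : ∀ u, Pi.single (Sum.inr u) 1 ∈ C := fun u => by
    obtain ⟨r, hr, s, a1, a2, ε, hε, a3⟩ := t_chain u
    obtain ⟨t, x, ht, e⟩ : ∃ t x, t ≠ 0 ∧ m.ι x = xs Nodes.RGDTwD4.hp.inList r t := by
      simp only [List.mem_cons, List.not_mem_nil, or_false] at hr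
      rcases hr with e | e | e | e <;> rw [e]
      exacts [h1.1, h1.2, h2.1, h2.2]
    have h4 := h0 x (Pi.single (Sum.inr s) 1)
    rw [e, ad_xs, col_chain a1 a2 a3] at h4
    refine (C.smul_mem_iff (mul_ne_zero ?_ ht)).1 h4
    simp only [List.mem_cons, List.not_mem_nil, or_false] at hε
    rcases hε with rfl | rfl <;> simp
  have h4 : ∀ a ∈ [(ix 18, ix 5, (0 : Fin 4)), (ix 14, ix 9, 1), (ix 13, ix 10, 2), (ix 12, ix 11, 3)], ∀ t x, t ≠ 0 →
      ad chevD4 p (m.ι x) (Pi.single (Sum.inr a.2.1) 1) =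
        ad chevD4 p (xs Nodes.RGDTwD4.hp.inList a.1 t) (Pi.single (Sum.inr a.2.1) 1) →
      Pi.single (Sum.inl a.2.2) 1 ∈ C := fun a ha t x ht e => by
    obtain ⟨a1, a2, a3⟩ := t_neg a ha
    have h5 := h0 x (Pi.single (Sum.inr a.2.1) 1)
    rw [e, ad_xs] at h5
    exact mem_of_tor h3 h5 ht fun j => (col_neg a1 a2 t j).trans (congrArg (fun z : ℤ => (z : KK p) * t) (a3 j))
  have h5 : ∀ a ∈ [(ix 13, ix 5), (ix 12, ix 5), (ix 18, ix 10), (ix 12, ix 10), (ix 18, ix 11), (ix 13, ix 11)], ∀ t : KK p,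
      ad chevD4 p (xs Nodes.RGDTwD4.hp.inList a.1 t) (Pi.single (Sum.inr a.2) 1) = Pi.single (Sum.inr a.2) 1 :=
    fun a ha t => let ⟨a1, a2, a3⟩ := t_fix a ha; (ad_xs _ _ _ _).trans (col_fix a1 a2 a3 t)
  obtain ⟨a, b, c, x, ha, hb, hc, e⟩ := exists_short m hd hg
  obtain ⟨t, y, ht, e'⟩ := h1.1
  have k0 := h4 (ix 18, ix 5, 0) (by decide) a x ha (by
    rw [e, rho_mul, rho_mul]
    exact congrArg _ ((congrArg _ (h5 (ix 12, ix 5) (by decide) c)).trans (h5 (ix 13, ix 5) (by decide) b)))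
  have k1 := h4 (ix 14, ix 9, 1) (by decide) t y ht (by rw [e']; rfl)
  have k2 := h4 (ix 13, ix 10, 2) (by decide) b x hb (by
    rw [e, xs_comm (a := (18, 13)) (by decide), rho_mul, rho_mul]
    exact congrArg _ ((congrArg _ (h5 (ix 12, ix 10) (by decide) c)).trans (h5 (ix 18, ix 10) (by decide) a)))
  have k3 := h4 (ix 12, ix 11, 3) (by decide) c x hc (by
    rw [e, mul_assoc, xs_comm (a := (13, 12)) (by decide), ← mul_assoc, xs_comm (a := (18, 12)) (by decide), rho_mul, rho_mul]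
    exact congrArg _ ((congrArg _ (h5 (ix 13, ix 11) (by decide) b)).trans (h5 (ix 18, ix 11) (by decide) a)))
  refine eq_top_iff.2 fun v _ => ?_
  rw [pi_eq_sum_univ' v]
  refine C.sum_mem fun i _ => C.smul_mem _ ?_
  rcases i with i | s
  · exact fin4 (P := fun i => Pi.single (Sum.inl i) 1 ∈ C) k0 k1 k2 k3 i
  · exact h3 s

omit hd hg

variable (p) in
/-- the radical of the invariant form -/
noncomputable def Rad : Submodule (KK p) (chevD4.Idx → KK p) := LinearMap.ker (toLin' (Co.fm chevD4 (fun _ => 1) (KK p)))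

theorem rad_eqs {v : chevD4.Idx → KK p} (h : v ∈ Rad p) : (∀ s, v (Sum.inr s) = 0) ∧
    2 * v (Sum.inl (0 : Fin 4)) - v (Sum.inl (1 : Fin 4)) = 0 ∧
    2 * v (Sum.inl (1 : Fin 4)) - v (Sum.inl (0 : Fin 4)) - v (Sum.inl (2 : Fin 4)) - v (Sum.inl (3 : Fin 4)) = 0 ∧
    2 * v (Sum.inl (2 : Fin 4)) - v (Sum.inl (1 : Fin 4)) = 0 ∧ 2 * v (Sum.inl (3 : Fin 4)) - v (Sum.inl (1 : Fin 4)) = 0 := by
  have h0 : Co.fm chevD4 (fun _ => 1) (KK p) *ᵥ v = 0 := h
  have h1 : ∀ i : Fin 4, ∑ j : Fin 4, ((![![2, -1, 0, 0], ![-1, 2, -1, -1], ![0, -1, 2, 0], ![0, -1, 0, 2]] i j : ℤ) : KK p) *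
      v (Sum.inl j) = 0 := fun i => by
    simp only [← t_fa]
    exact (Co.fm_l (D := chevD4) i v).symm.trans (congrFun h0 _)
  refine ⟨fun s => ?_, ?_, ?_, ?_, ?_⟩
  · have h2 := (Co.fm_r (D := chevD4) s.rev v).symm.trans (congrFun h0 _)
    simpa using h2
  · have h2 := h1 0
    simp [Fin.sum_univ_four] at h2
    linear_combination h2
  · have h2 := h1 1
    simp [Fin.sum_univ_four] at h2
    linear_combination h2
  · have h2 := h1 2
    simp [Fin.sum_univ_four] at h2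
    linear_combination h2
  · have h2 := h1 3
    simp [Fin.sum_univ_four] at h2
    linear_combination h2

theorem eq_zero {v : chevD4.Idx → KK p} (h : ∀ s, v (Sum.inr s) = 0) (h0 : v (Sum.inl (0 : Fin 4)) = 0)
    (h1 : v (Sum.inl (1 : Fin 4)) = 0) (h2 : v (Sum.inl (2 : Fin 4)) = 0) (h3 : v (Sum.inl (3 : Fin 4)) = 0) : v = 0 := by
  funext i
  rcases i with i | s
  · exact fin4 (P := fun i => v (Sum.inl i) = 0) h0 h1 h2 h3 i
  · exact h s

theorem rad_eq (hp : p ≠ 2) : Rad p = ⊥ := eq_bot_iff.2 fun v hv => by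
  obtain ⟨h, h0, h1, h2, h3⟩ := rad_eqs hv
  have h4 : (2 : KK p) ≠ 0 := fun e => hp ((Nat.prime_dvd_prime_iff_eq Fact.out Nat.prime_two).1
    ((CharP.cast_eq_zero_iff (KK p) p 2).1 (by exact_mod_cast e)))
  have h5 : v (Sum.inl (1 : Fin 4)) = 0 := by linear_combination 2 * h1 + h0 + h2 + h3
  exact eq_zero h (mul_left_cancel₀ h4 (by linear_combination h0 + h5)) h5
    (mul_left_cancel₀ h4 (by linear_combination h2 + h5)) (mul_left_cancel₀ h4 (by linear_combination h3 + h5))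

theorem rad_le : finrank (KK p) (Rad p) ≤ 2 := by
  refine (LinearMap.finrank_le_finrank_of_injective (f := (LinearMap.funLeft (KK p) (KK p)
    (![Sum.inl (0 : Fin 4), Sum.inl (2 : Fin 4)] : Fin 2 → chevD4.Idx)) ∘ₗ (Rad p).subtype)
    ((injective_iff_map_eq_zero _).2 fun v hv => Subtype.ext ?_)).trans (by simp)
  obtain ⟨h, h0, h1, -, -⟩ := rad_eqs v.2
  have a0 : v.1 (Sum.inl (0 : Fin 4)) = 0 := congrFun hv 0
  have a2 : v.1 (Sum.inl (2 : Fin 4)) = 0 := congrFun hv 1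
  exact eq_zero h a0 (by linear_combination 2 * a0 - h0) a2 (by linear_combination 3 * a0 - 2 * h0 - h1 - a2)

/-- a vector fixed by `H` lies in the radical if `H` has no fixed covectors -/
theorem mem_rad {H : Subgroup T} (h : ∀ C, H ≤ cof (rho m) C → C = ⊤) {v : chevD4.Idx → KK p} (hv : H ≤ stb (rho m) v) :
    v ∈ Rad p := by
  have h1 := h (LinearMap.ker (dotProductBilin (KK p) (KK p) (Co.fm chevD4 (fun _ => 1) (KK p) *ᵥ v))) fun x hx w => by
    have h2 := (Co.fm_inv Nodes.RGDTwD4.hp.inList okD (K := KK p) (fun _ _ => by simp) (m.ι x)).1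
    have h3 : Co.rh chevD4 (KK p) (m.ι x) *ᵥ v = v := hv hx
    change (Co.fm chevD4 (fun _ => 1) (KK p) *ᵥ v) ⬝ᵥ (Co.rh chevD4 (KK p) (m.ι x) *ᵥ w - w) = 0
    rw [dotProduct_sub, dotProduct_mulVec, ← mulVec_transpose, sub_eq_zero]
    conv_lhs => rw [← h3, mulVec_mulVec, mulVec_mulVec, h2]
  change Co.fm chevD4 (fun _ => 1) (KK p) *ᵥ v = 0
  exact dotProduct_eq_zero _ fun w => (eq_top_iff.1 h1 (Submodule.mem_top (x := w)) :)

include hd hg in
/-- **the fixed vectors** -/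
theorem stb_top (v : chevD4.Idx → KK p) (hv : ⊤ ≤ stb (rho m) v) : v ∈ Rad p := mem_rad m (cof_top m hd hg) hv

theorem finrank_ad : finrank (KK p) (chevD4.Idx → KK p) = 28 := by
  rw [Module.finrank_fintype_fun_eq_card, Fintype.card_sum, Fintype.card_fin, Fintype.card_fin]
  rfl

end Cfsg.Agent.N2.G2.Sc
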