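import Cfsg.Agent.N2.G2.WhyF
import Cfsg.Agent.N2.G2.Sc1
import Cfsg.Agent.H169.RG.Toral

/-!
# N2 (S3519), `³D₄(q)`: the box [Why] (helper75)
-/

set_option autoImplicit false
set_option linter.unusedSectionVars false

namespace Cfsg.Agent.N2.G2

open Subgroup CoxeterSystem Cfsg Cfsg.Lie Cfsg.Lie.ChevalleyDatum Cfsg.Agent.FP3 Cfsg.Agent.H316.U6
open Cfsg.Agent.ChevalleyStructure Cfsg.Agent.ChevalleyStructure.Elts Cfsg.Agent.ChevalleyStructure.CoxeterGeom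
  Cfsg.Agent.ChevalleyStructure.CoxeterGeomTypes
open Cfsg.Agent.Tits.Roots Cfsg.Agent.Nodes Cfsg.Agent.Nodes.Reps Cfsg.Agent.Nodes.BNOf Cfsg.Agent.Nodes.RGDChev
  Cfsg.Agent.Nodes.Coroot Cfsg.Agent.Nodes.RGDTwD4
open Cfsg.Agent.KFacts.RgdField Cfsg.Agent.KFacts.RgdChevCoord Cfsg.Agent.BpExc.LangFr
open Cfsg.Agent.H469.Exc Cfsg.Agent.H129.TorusChar Cfsg.Agent.DS.Ex Cfsg.Agent.DS.Ex.Tor Cfsg.Agent.DS.Nt
  Cfsg.Agent.N2.Ex Cfsg.Agent.H81.TorOrth Cfsg.Agent.H605.MX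
open Cfsg.Agent.SB.Low (Cz Md im Sat RD boxTabD boxNS comm_of_orth)
open Cfsg.Agent.ChevalleyStructure.SL2Hom (up lo mem_closure_SL2)
open Cfsg.Agent.Nodes.RGDFoldSL (hS)

namespace Wy

variable {e : ℕ} {α : MulAut (YY chevD4 2)} {θ : (Fin 4 → ℤ) ≃+ (Fin 4 → ℤ)} (he : 0 < e) (hα : IsFrob 2 e α)
  (F : FR hp 2 α θ)

/-- the datum of the frame -/
noncomputable abbrev dt : DL.Datum 2 (chevD4.group (KK 2)).subtype α ⊤ := DL.Ex.chevFr hp (locFin 2) he hα F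

theorem chi {t : YY chevD4 2} (ht : t ∈ TT chevD4 (KK 2)) (a : Fin 4 → ℤ) : (dt he hα F).χ a t = cX hp t a := by
  obtain ⟨c, rfl⟩ := (DL.Ex.mem_TT_iff hp t).1 ht
  exact ((dt he hα F).χ_τ a c).trans (DL.Ex.cX_tau hp c a).symm

theorem sat (Z : Set (YY chevD4 2)) : Sat 2 ((dt he hα F).Lam Z) := fun x hx z hz => by
  have h := hx z hz
  rw [(dt he hα F).χ_zsmul, zpow_ofNat, sq_eq_one_iff, CharTwo.neg_eq, or_self] at h
  exact h

theorem X_le {t : YY chevD4 2} (ht : t ∈ TT chevD4 (KK 2)) {b : Fin 4 → ℤ} (hb : RT hp b) (h : cX hp t b = 1) :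
    XX chevD4 4 (KK 2) b ≤ centralizer {t} := fun x hx => by
  obtain ⟨u, rfl⟩ := (K.mem_XX hp hb).1 hx
  have h1 := K.T_conj_xc hp ht hb u
  rw [h, one_mul] at h1
  exact mem_centralizer_singleton_iff.2 (mul_inv_eq_iff_eq_mul.1 h1).symm

theorem up_ne {E : Type} [Field E] : (up 1 : Matrix.SpecialLinearGroup (Fin 2) E) ≠ 1 := fun h => by
  simpa [up] using congrFun (congrFun (congrArg Subtype.val h) 0) 1

theorem hv_neg (r : Fin chevD4.nroots) : hv chevD4 2 (chevD4.neg r) = -hv chevD4 2 r := by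
  have h : ∀ (r : Fin chevD4.nroots) (i : Fin chevD4.rank), Columns.cor chevD4 (chevD4.neg r) i = -Columns.cor chevD4 r i := by
    decide +kernel
  funext i
  rcases i with i | s
  · exact (congrArg Int.cast (h r i)).trans (Int.cast_neg _)
  · exact neg_zero.symm

include he hα F in
/-- the group `SL₂(q³)` -/
theorem psi (h4 : 4 ≤ 2 ^ e) {c : Fin 4 → ℤ} (hc : RT hp c) (h3 : θ (θ (θ c)) = c)
    (h1 : cpr coxeterD4.toCoxeterSystem hp.isCartan (θ c) c = 0)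
    (h2 : cpr coxeterD4.toCoxeterSystem hp.isCartan (θ (θ c)) c = 0) :
    ∃ (ψ : Matrix.SpecialLinearGroup (Fin 2) (GaloisField 2 (e * 3)) →* YY chevD4 2) (g : _) (ζ : KK 2),
      (∀ g, α (ψ g) = ψ g) ∧ (∀ g, ψ g ∈ MS chevD4 2 {c, -c, θ c, -θ c, θ (θ c), -θ (θ c)}) ∧
      ψ (up 1) ∈ MS chevD4 2 {c, θ c, θ (θ c)} ∧ IsPrimitiveRoot ζ ((2 ^ e) ^ 3 - 1) ∧ ψ g ∈ TT chevD4 (KK 2) ∧
      ∀ x, cX hp (ψ g) x = ζ ^ (cpr coxeterD4.toCoxeterSystem hp.isCartan x c +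
        (2 ^ e : ℕ) * cpr coxeterD4.toCoxeterSystem hp.isCartan x (θ c) +
        (2 ^ e : ℕ) ^ 2 * cpr coxeterD4.toCoxeterSystem hp.isCartan x (θ (θ c))) := by
  obtain ⟨s, hs, rfl⟩ := (isRoot_iff hp _ c).1 hc
  have := Fintype.ofFinite (GaloisField 2 (e * 3))
  have hE : Fintype.card (GaloisField 2 (e * 3)) = (2 ^ e) ^ 3 := by
    rw [← Nat.card_eq_fintype_card, GaloisField.card 2 _ (by omega), pow_mul]
  let j : GaloisField 2 (e * 3) →+* KK 2 := (IsAlgClosed.lift : GaloisField 2 (e * 3) →ₐ[ZMod 2] KK 2).toRingHom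
  have hr : ∀ {a}, RT hp a → RT hp (θ a) := fun ha => (F.root _).2 ha
  obtain ⟨ψ, p1, p2, p3, -, p4, -⟩ := exists_psi hp coxeterD4.toCoxeterSystem (locFin 2) hα F hs (a := 3)
    (Nat.one_lt_pow three_ne_zero (by omega)) h3 (fun i h0 h5 => by
      interval_cases i
      exacts [so_of hc (hr hc) h1, so_of hc (hr (hr hc)) h2]) hE j
  obtain ⟨z, hz⟩ := IsCyclic.exists_ofOrder_eq_natCard (α := (GaloisField 2 (e * 3))ˣ)
  rw [Nat.card_units, Nat.card_eq_fintype_card, hE] at hz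
  have z0 : j z ≠ 0 := (map_ne_zero j).2 z.ne_zero
  refine ⟨ψ, hS z, j z, p1, fun g => ?_, ?_, (IsPrimitiveRoot.coe_units_iff.2 (hz ▸ IsPrimitiveRoot.orderOf z)).map_of_injective j.injective,
    p3 _ z.ne_zero ▸ hTh_mem hp coxeterD4.toCoxeterSystem (locFin 2) hα F hs 3 z0, fun x => ?_⟩
  · obtain ⟨g', h⟩ := p2 g
    rw [h]
    refine dl_mem fun i hi => ?_
    obtain ⟨s', hs', h5, h6⟩ := pow_ps hp coxeterD4.toCoxeterSystem (locFin 2) hα F hs i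
    obtain ⟨g'', h7⟩ := h6 g'
    rw [h7]
    refine ps_mem hs' (RGD.le_Sup ?_) (RGD.le_Sup ?_) _ <;> rw [h5] <;> interval_cases i <;> simp
  · obtain ⟨u, h, -⟩ := p4 1
    have h5 := xs_mem hp hs u
    have h6 := (F.map _ hc _).2 h5
    have h7 := (F.map _ (hr hc) _).2 h6
    rw [h]
    refine dl_mem fun i hi => ?_
    rw [ps_up]
    interval_cases i
    exacts [RGD.le_Sup (Or.inl rfl) h5, RGD.le_Sup (Or.inr (Or.inl rfl)) h6, RGD.le_Sup (Or.inr (Or.inr rfl)) h7]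
  · rw [p3 _ z.ne_zero, cX_hTh hp coxeterD4.toCoxeterSystem (locFin 2) hα F hs 3 z0]
    congr 1
    simp [Finset.sum_range_succ]

variable {w : coxeterD4.Group}
  (hθ : ∀ x, θ x = rep coxeterD4.toCoxeterSystem hp.isCartan w (H720.TwFr.permE H720.TwFr.rho4 x))
  {T : Type} [Group T] [Finite T] {ι : T →* YY chevD4 2} (hi : Function.Injective ι) (hR : ∀ y, α y = y ↔ ∃ x, ι x = y)
  {s : T} (ht : ι s ∈ TT chevD4 (KK 2)) (hpos : ∀ a, RT hp a → cX hp (ι s) a = 1 → 0 ≤ a → 0 ≤ θ a)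

include he hα F hθ hi hR ht hpos in
theorem frame (h4 : 4 ≤ 2 ^ e) (ho : orderOf s = 2 ^ e + 1) (hd : dd 2 (ι s) = 10)
    (hn : cn s = (2 ^ e + 1) * ((2 ^ e) ^ 3 * ((2 ^ e) ^ 6 - 1))) :
    Nat.card (Mc s) = (2 ^ e) ^ 3 * ((2 ^ e) ^ 6 - 1) ∧ ¬ Group.IsSolvable (Cz (Mc s)) ∧ ∃ (f : _ →ₗ[KK 2] KK 2) (h : _),
      ∀ g ∈ Cz (Mc s), ι g ∈ Gm (ad chevD4 2) (fixSp (ad chevD4 2 (ι s)) ⊓ LinearMap.ker f)
        (comSp (ad chevD4 2 (ι s)) ⊔ Submodule.span (KK 2) {h}) := by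
  have := finite_W hp coxeterD4.toCoxeterSystem
  have hM : Md e (dt he hα F) ι θ.toAddMonoidHom :=
    ⟨SB.Exc.CI.fq he hα, hi, hR, fun _ _ => rfl, Function.bijective_id, fun _ => rfl⟩
  obtain ⟨a, c, ha, hc, a1, c3, ⟨p0, p1, p2⟩, ⟨o1, o2, o3⟩, ⟨t0, t1, t2⟩, hb⟩ :=
    roots hα F hθ ht (hM.fix s) hpos h4 ((orderOf_injective ι hi s).trans ho) hd
  have hr : ∀ {a}, RT hp a → RT hp (θ a) := fun ha => (F.root _).2 ha
  obtain ⟨ψ, g₀, ζ, q1, q2, q3, hζ, q4, q5⟩ := psi he hα F h4 hc c3 o1 o2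
  have six : ∀ b ∈ ({c, -c, θ c, -θ c, θ (θ c), -θ (θ c)} : Set (Fin 4 → ℤ)), RT hp b ∧ cX hp (ι s) b = 1 := by
    rintro _ (rfl | rfl | rfl | rfl | rfl | rfl)
    exacts [⟨hc, t0⟩, ⟨hc.neg, (Lm ht).neg_mem t0⟩, ⟨hr hc, t1⟩, ⟨(hr hc).neg, (Lm ht).neg_mem t1⟩, ⟨hr (hr hc), t2⟩,
      ⟨(hr (hr hc)).neg, (Lm ht).neg_mem t2⟩]
  have reg : ∀ b, RT hp b → cX hp (ψ g₀) b = 1 → b = a ∨ b = -a := fun b h1 h2 => by
    by_contra h3
    rw [not_or] at h3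
    refine no_pow hζ ?_ h4 ((q5 b).symm.trans h2)
    by_cases h5 : cX hp (ι s) b = 1
    swap
    · exact Or.inr (Or.inr (Or.inr ((hb b h1).2.2 h5 h3.1 h3.2)))
    have s1 := (rd.symm _ _ hc (hr hc)).trans o1
    have s2 := (rd.symm _ _ hc (hr (hr hc))).trans o2
    have s3 := (rd.symm _ _ (hr hc) (hr (hr hc))).trans o3
    rcases (hb b h1).2.1 h5 with rfl | rfl | rfl | rfl | rfl | rfl <;>
      simp [cpr_neg _ _ _ hc, cpr_neg _ _ _ (hr hc), cpr_neg _ _ _ (hr (hr hc)), cpr_self _ _ hc, cpr_self _ _ (hr hc),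
        cpr_self _ _ (hr (hr hc)), o1, o2, o3, s1, s2, s3]
  have hE : Nat.card (GaloisField 2 (e * 3)) = (2 ^ e) ^ 3 := by rw [GaloisField.card 2 _ (by omega), pow_mul]
  have hs := H320.Kill.simple_sl (F := GaloisField 2 (e * 3)) CharTwo.two_eq_zero
    (hE ▸ h4.trans (Nat.le_self_pow three_ne_zero _))
  have hψ : Function.Injective ψ := (MonoidHom.ker_eq_bot_iff ψ).1
    ((IsSimpleGroup.eq_bot_or_eq_top_of_normal _ inferInstance).resolve_right fun h => by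
      have h1 : ψ g₀ = 1 := h.ge (mem_top g₀)
      have h2 := (hb c hc).1.1 t0
      rcases reg c hc (by rw [h1, cX_one]) with rfl | rfl
      · rw [cpr_self _ _ ha] at h2
        omega
      · rw [cpr_neg _ _ _ ha, cpr_self _ _ ha] at h2
        omega)
  let φ : _ →* T := (MonoidHom.ofInjective hi).symm.toMonoidHom.comp (ψ.codRestrict ι.range fun g => (hR _).1 (q1 g))
  have hφ : ∀ g, ι (φ g) = ψ g := fun g => MonoidHom.apply_ofInjective_symm hi _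
  have cen : ∀ {y : YY chevD4 2}, (∀ b, RT hp b → cX hp (ι s) b = 1 → XX chevD4 4 (KK 2) b ≤ centralizer {y}) →
      ∀ g, ψ g * y = y * ψ g := fun h g => mem_centralizer_singleton_iff.1
        ((RGD.Sup_le fun b hb' => h b (six b hb').1 (six b hb').2 : _ ≤ centralizer {_}) (q2 g))
  have orth : ∀ y ∈ MS chevD4 2 {a, -a}, ∀ g, ψ g * y = y * ψ g := fun y hy => cen fun b h1 h2 x hx =>
    mem_centralizer_singleton_iff.2 (comm_of_orth (D := dt he hα F) rd h1 ha ((hb b h1).1.1 h2) x (mem_sup_left hx) y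
      ((RGD.Sup_le (by
        rintro _ (rfl | rfl)
        exacts [le_sup_left, le_sup_right]) : _ ≤ (dt he hα F).X a ⊔ (dt he hα F).X (-a)) hy))
  have hcard : Nat.card (Matrix.SpecialLinearGroup (Fin 2) (GaloisField 2 (e * 3))) = (2 ^ e) ^ 3 * ((2 ^ e) ^ 6 - 1) := by
    have := Fintype.ofFinite (GaloisField 2 (e * 3))
    rw [ClassicalGeometry.PSL2Basic.card_SL2, ← Nat.card_eq_fintype_card, hE, ← pow_mul (2 ^ e)]
  have hφi : Function.Injective φ := fun x y h => hψ (by rw [← hφ, ← hφ, h])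
  rw [mc_eq H320.Kill.not_comm_sl hφi (fun g => hi (by
    rw [map_mul, map_mul, hφ]
    exact cen (fun b => X_le ht) g)) (by rw [hn, ho, hcard])]
  refine ⟨(Nat.card_congr (MonoidHom.ofInjective hφi).toEquiv).symm.trans hcard, fun hsol => ?_, ?_⟩
  · refine boxNS 2 _ _ _ _ α ⊤ (dt he hα F) e 1 a hM.ex ha one_pos (by rwa [pow_one]) a1 (fun i _ i' _ _ => by omega)
      (hM.solv hsol fun g hg => mem_centralizer_iff.2 ?_)
    rintro _ ⟨x, rfl⟩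
    refine hi ?_
    rw [map_mul, map_mul, hφ]
    refine orth _ (RGD.Sup_mono ?_ hg) x
    rintro b ⟨i, h1, h2⟩
    obtain rfl : i = 0 := by omega
    exact h2
  obtain ⟨r, rfl⟩ := K.exists_idx hp ha
  refine ⟨rf hp (vec chevD4 4 r), hv chevD4 2 r, fun g hg => ?_⟩
  have h1 : ∀ x, ψ x * ι g = ι g * ψ x := fun x => by rw [← hφ, ← map_mul, ← map_mul, mem_centralizer_iff.1 hg _ ⟨x, rfl⟩]
  have hZ : im ι (zpowers (φ g₀)) ⊆ (dt he hα F).T := by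
    rintro _ ⟨_, ⟨i, rfl⟩, rfl⟩
    rw [map_zpow, hφ]
    exact zpow_mem q4 i
  obtain ⟨u, hu, t, h2, h3⟩ := ((dt he hα F).mem_TS (dt he hα F).Sz_root).1 (hM.mem_cen hZ rd.pp (sat he hα F _)
    (show g ∈ Cz (zpowers (φ g₀)) from centralizer_le (zpowers_le.2 (show φ g₀ ∈ φ.range from ⟨g₀, rfl⟩)) hg))
  have h5 : u ∈ MS chevD4 2 {vec chevD4 4 r, -vec chevD4 4 r} := RGD.Sup_mono (fun b h => reg b h.1 (by
    rw [← chi he hα F q4, ← hφ]
    exact h.2 _ ⟨_, mem_zpowers _, rfl⟩)) hu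
  have h6 : ψ (up 1) * t = t * ψ (up 1) := by
    have h7 := h1 (up 1)
    rw [h3, ← mul_assoc, orth u h5, mul_assoc, mul_assoc] at h7
    exact mul_left_cancel h7
  have h7 : ∀ t, ψ (up 1) * t = t * ψ (up 1) → ψ (up 1) * α t = α t * ψ (up 1) := fun t h => by
    rw [← q1, ← map_mul, ← map_mul, h]
  have k1 := (F.tor t).2 h2
  have k2 := (F.tor _).2 k1
  have k3 : ∀ t ∈ TT chevD4 (KK 2), ∀ x, cX hp (α t) (θ x) = 1 → cX hp t x = 1 := fun t ht x h => by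
    rw [cX_sigma hp coxeterD4.toCoxeterSystem hα F ht, ← one_pow (2 ^ e)] at h
    exact (iterateFrobenius (KK 2) 2 e).injective h
  have h8 : cX hp t c = 1 ∧ cX hp t (θ c) = 1 ∧ cX hp t (θ (θ c)) = 1 := by
    by_contra h8
    have hZ' : ({ι s, t, α t, α (α t)} : Set (YY chevD4 2)) ⊆ (dt he hα F).T := by
      rintro _ (rfl | rfl | rfl | rfl) <;> assumption
    have h9 : ψ (up 1) ∈ (dt he hα F).S _ := ((dt he hα F).uni_pos.inf_centralizer hZ').le ⟨RGD.Sup_mono (by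
      rintro _ (rfl | rfl | rfl)
      exacts [⟨hc, p0⟩, ⟨hr hc, p1⟩, ⟨hr (hr hc), p2⟩]) q3, by
      rintro _ (rfl | rfl | rfl | rfl)
      exacts [(cen (fun b => X_le ht) _).symm, h6.symm, (h7 _ h6).symm, (h7 _ (h7 _ h6)).symm]⟩
    refine up_ne (hψ ((mem_bot.1 ((RGD.Sup_le fun b hb' => (h8 ?_).elim : _ ≤ ⊥) h9)).trans (map_one ψ).symm))
    obtain ⟨b1, b2⟩ := hb'
    have e0 := (chi he hα F ht b).symm.trans (b2.2 _ (Or.inl rfl))
    have e1 := (chi he hα F h2 b).symm.trans (b2.2 _ (Or.inr (Or.inl rfl)))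
    have e2 := (chi he hα F k1 b).symm.trans (b2.2 _ (Or.inr (Or.inr (Or.inl rfl))))
    have e3 := (chi he hα F k2 b).symm.trans (b2.2 _ (Or.inr (Or.inr (Or.inr rfl))))
    have n : ∀ x, RT hp x → 0 ≤ x → b ≠ -x := fun x hx x0 h => hx.not_pos_neg x0 (neg_nonneg.1 (h ▸ b1.2))
    rcases (hb b b1.1).2.1 e0 with h | h | h | h | h | h
    · rw [h] at e1
      rw [h, ← c3] at e2 e3
      exact ⟨e1, k3 _ h2 _ (k3 _ k1 _ e3), k3 _ h2 _ e2⟩
    · exact (n _ hc p0 h).elim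
    · rw [h] at e1 e2
      rw [h, ← c3] at e3
      exact ⟨k3 _ h2 _ e2, e1, k3 _ h2 _ (k3 _ k1 _ e3)⟩
    · exact (n _ (hr hc) p1 h).elim
    · rw [h] at e1 e2 e3
      exact ⟨k3 _ h2 _ (k3 _ k1 _ e3), k3 _ h2 _ e2, e1⟩
    · exact (n _ (hr (hr hc)) p2 h).elim
  rw [h3]
  refine mul_mem ((RGD.Sup_le ?_ : _ ≤ Gm _ _ _) h5) (T_mem hp ht h2 (fun b b1 b2 => ?_) _ _)
  · rintro _ (rfl | rfl)
    · exact X_mem hp ht rd.symm r fun b b1 b2 => (hb b b1).1.1 b2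
    · have v := vec_neg hp r.2
      have h9 := X_mem hp ht rd.symm ⟨_, NPerm.neg_lt hp.inList r.2⟩ fun b b1 b2 => by
        rw [v, cpr_neg_right _ _ _ ha, (hb b b1).1.1 b2, neg_zero]
      rw [v, hv_neg, show rf hp (-vec chevD4 4 r) = -rf (p := 2) hp (vec chevD4 4 r) from
        LinearMap.ext fun x => map_neg (K.rl hp x) _, LinearMap.ker_neg, ← Set.neg_singleton, Submodule.span_neg] at h9
      exact h9
  · rcases (hb b b1).2.1 b2 with rfl | rfl | rfl | rfl | rfl | rfl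
    exacts [h8.1, (Lm h2).neg_mem h8.1, h8.2.1, (Lm h2).neg_mem h8.2.1, h8.2.2, (Lm h2).neg_mem h8.2.2]

theorem not_dvd {q m n : ℕ} (h4 : 4 ≤ q) (h : Bd q m n) (hd : q + 1 ∣ m) : m = q + 1 ∧ n = q ^ 3 * (q ^ 6 - 1) := by
  rcases h with ⟨rfl | rfl, h⟩ | ⟨rfl, -⟩ | ⟨rfl, -⟩
  · exact absurd (Nat.le_of_dvd (by omega) hd) (by omega)
  · exact ⟨rfl, h⟩
  · rw [show q ^ 2 + q + 1 = (q + 1) * q + 1 by ring, Nat.dvd_add_right (dvd_mul_right _ _)] at hd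
    exact absurd (Nat.le_of_dvd one_pos hd) (by omega)
  · obtain ⟨t, rfl⟩ := Nat.exists_eq_add_of_le' h4
    rw [show (t + 4) ^ 2 - (t + 4) + 1 = (t + 4 + 1) * (t + 2) + 3 by
      rw [show (t + 4) ^ 2 = t * t + 7 * t + 12 + (t + 4) by ring, Nat.add_sub_cancel]; ring,
      Nat.dvd_add_right (dvd_mul_right _ _)] at hd
    exact absurd (Nat.le_of_dvd three_pos hd) (by omega)

end Wy

open Wy

/-- **[Why]** -/
theorem boxWhy : BoxWhy := by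
  rintro p _ k q T _ _ _ d hM - hB - rfl rfl h4 s ho h10
  obtain ⟨h, -⟩ | ⟨-, -, ⟨m, hd, hg, hm⟩, -⟩ := hM
  · omega
  have hq := m.hq
  have hc : (q + 1).Coprime 2 := by
    rw [Nat.coprime_two_right, ← hq]
    exact (Nat.even_pow.2 ⟨even_two, m.he.ne'⟩).add_one
  obtain ⟨a, n, z, h1, h2, h3, h5, -⟩ := hB.bad3 rfl s (ho ▸ hc) h10
  obtain ⟨rfl, rfl⟩ := not_dvd h4 h1 (by rw [← ho, ← h3]; exact orderOf_dvd_of_mem_zpowers h5)
  obtain ⟨f⟩ := H169.RG.exists_torForm m (m.fix s) (Nat.succ_ne_zero _) hc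
    (by rw [← map_pow, Nat.succ_eq_add_one, ← ho, pow_orderOf_eq_one, map_one])
  let ι : T →* YY chevD4 2 := (MulAut.conj f.z⁻¹).toMonoidHom.comp m.ι
  have hι : ∀ x, ι x = f.z⁻¹ * m.ι x * f.z⁻¹⁻¹ := fun _ => rfl
  have hs : ι s = f.t := (congrArg (fun y => f.z⁻¹ * y * f.z⁻¹⁻¹) f.eq).trans (by group)
  have hdd : ∀ x, dd 2 (ι x) = d x := fun x => by rw [hι, dd_conj, hm]
  obtain ⟨r1, r2, φ, h, r3⟩ := frame m.he f.frob f.fr (w := f.w) (fun x => by rw [f.hθ, hg]) (ι := ι)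
    ((MulAut.conj f.z⁻¹).injective.comp m.inj) (fun y => ⟨fun hy => by
      obtain ⟨x, hx⟩ := Sc.exists_pre m hd ((f.fix_iff' y).2 hy)
      exact ⟨x, by rw [hι, hx]; group⟩, by
      rintro ⟨x, rfl⟩
      rw [hι, inv_inv]
      exact (f.fix_iff _).2 (m.fix x)⟩) (s := s) (hs ▸ f.mem)
    (fun a ha h => f.pos a ⟨ha, by rwa [hs, cX_root hp coxeterD4.toCoxeterSystem f.mem ha] at h⟩) (h4.trans hq.ge) (by rw [hq, ho])
    ((hdd s).trans h10) (by rw [hq, h2])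
  rw [hq] at r1
  refine ⟨r1, r2, fun x y hxy h32 ht => ?_⟩
  have k : ∀ g v, ad chevD4 2 (m.ι g) (ad chevD4 2 f.z v) = ad chevD4 2 f.z (ad chevD4 2 (ι g) v) := fun g v => by
    rw [← ad_mul, ← ad_mul, hι, inv_inv, ← mul_assoc, mul_inv_cancel_left]
  have k' : ∀ v, ad chevD4 2 f.z (ad chevD4 2 f.z⁻¹ v) = v := fun v => by rw [← ad_mul, mul_inv_cancel, ad_one]
  have k'' : ∀ v, ad chevD4 2 f.z⁻¹ (ad chevD4 2 f.z v) = v := fun v => by rw [← ad_mul, inv_mul_cancel, ad_one]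
  have h6 := scott_key ((ad chevD4 2).comp ι) hxy φ h r3 ht (n := 2) (fun X hX => le_trans
    (LinearMap.finrank_le_finrank_of_injective (f := (ad chevD4 2 f.z ∘ₗ X.subtype).codRestrict (Sc.Rad 2) fun v =>
      Sc.stb_top m hd hg _ fun g _ => (k g v).trans (congrArg _ (hX g v v.2))) fun v w e =>
        Subtype.ext ((k'' _).symm.trans ((congrArg (fun u : Sc.Rad 2 => ad chevD4 2 f.z⁻¹ u) e).trans (k'' _)))) Sc.rad_le)
    fun V hV => eq_top_iff.2 fun v _ => by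
      have h7 := (Sc.cof_top m hd hg (V.comap (ad chevD4 2 f.z⁻¹)) fun g _ u => by
        show ad chevD4 2 f.z⁻¹ (ad chevD4 2 (m.ι g) u - u) ∈ V
        rw [← k' u, k, map_sub, k'', k'']
        exact hV g _).ge (Submodule.mem_top (x := ad chevD4 2 f.z v))
      rwa [Submodule.mem_comap, k''] at h7
  simp only [MonoidHom.comp_apply, ← Ln.dd_eq, hdd, Sc.finrank_ad] at h6
  omega

end Cfsg.Agent.N2.G2
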