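import Cfsg.Agent.OddCyclic.ClaimC.SzIso

/-!
# N2 (S3519) : the two models of the Suzuki group over the field of eight elements (helper87)
-/

set_option autoImplicit false

namespace Cfsg.Agent.N2.G2

open Cfsg

theorem sz_eq {F : Type} [Field F] [Fintype F] (h : Fintype.card F = 8) : Cfsg.Sz F 4 = Cfsg.Sz F 1 := by
  have h1 : ∀ x : F, x ^ 2 ^ (4 + 1) = x ^ 2 ^ (1 + 1) := fun x => by
    rw [show 2 ^ (4 + 1) = 8 * 2 ^ (1 + 1) by norm_num, pow_mul, ← h, FiniteField.pow_card]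
  have h2 : suzukiOvoid F 4 = suzukiOvoid F 1 := by
    simp only [suzukiOvoid, pow_add _ (2 ^ _), h1]
  rw [Cfsg.Sz, h2]

/-- the group `Cfsg.Sz F 4` of `pX` is the Suzuki group -/
theorem sz_four {F : Type} [Field F] [Fintype F] (h : Fintype.card F = 8) : Nonempty (Cfsg.Sz F 4 ≃* Lie.Sz F 4) :=
  sz_eq h ▸ OddCyclic.ClaimC.SzIso.iso (m := 1) le_rfl h

end Cfsg.Agent.N2.G2
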