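import Cfsg.Agent.N2.G2.X2
import Cfsg.Agent.N2.G2.SzE
import Cfsg.Agent.H501.Szep.Basic
import Cfsg.Agent.H867.TitsOut
import Cfsg.Agent.S1074
import Cfsg.Agent.Omega.SQK.Rank
import Cfsg.Agent.Omega.SQK.RowPSU2
import Cfsg.Agent.Omega.Quasithin.Row.Chev

/-!
# N2, `G₂(q)` and `³D₄(q)`: `boxX : BoxSim pX` (helper67)
-/

set_option autoImplicit false
set_option linter.unusedSectionVars false

namespace Cfsg.Agent.N2.G2

open Subgroup Cfsg Cfsg.Lie Cfsg.Agent.FP3 Cfsg.Agent.N2C.N4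
open Cfsg.Agent.H129.CycCard (CycCard cycCard_of_exact)
open Cfsg.Agent.H129.CycT (CycExact)
open Cfsg.Agent.Omega.SQK.Rank (not_of_mulEquiv)
open Cfsg.Agent.Omega.Quasithin.Row.Chev (not_chev three_G2 not_twistedD4 not_ree)

namespace X

theorem cn_sub {G : Type*} [Group G] [Finite G] (H : Subgroup G) (z : H) : cn z ≤ cn (z : G) :=
  Nat.card_le_card_of_injective (fun c => ⟨c.1.1, mem_centralizer_singleton_iff.2
    (congrArg Subtype.val (mem_centralizer_singleton_iff.1 c.2))⟩) fun _ _ e => Subtype.ext (Subtype.ext (Subtype.mk.inj e))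

theorem cx_sub {G H : Type*} [Group G] [Group H] (K : Subgroup H) (e : G ≃* K) {r M : ℕ} (h : CX K r M) : CX G r M :=
  h.congr e

theorem card_tits : Nat.card TitsGroup = 17971200 := S1074.result.2.2.2

theorem cx_tits : CX TitsGroup 13 78 := by
  have h0 : Nat.Prime 13 := by norm_num
  have := Fact.mk h0
  have : Finite TitsGroup := Nat.finite_of_card_ne_zero (by rw [card_tits]; decide)
  obtain ⟨z, hz⟩ := exists_prime_orderOf_dvd_card' (G := TitsGroup) 13 (by rw [card_tits]; decide)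
  refine cx_of_cn (cy1_of_prime (n := 1382400) h0 card_tits (by decide) ?_) hz ?_
  · rintro d ⟨j, hj⟩ h1
    by_contra h2
    have h3 : j < 6 := by
      by_contra h3
      have := Nat.mul_le_mul_left d (not_lt.1 h3)
      omega
    interval_cases j <;> omega
  · have h1 : CycExact (twistedF4 (ZMod 2) 1) 13 := H129.CycCard.exact_tF4_plus (m := 0) (ZMod.card 2) (by norm_num)
    have h2 : orderOf (z.1) = 13 := (orderOf_coe z).trans hz
    have h3 := H501.SzExc.card_cent h1 h0 dvd_rfl (a := z.1) (fun k => by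
      rw [k, orderOf_one] at h2
      omega) (by
      rw [← h2, ← Nat.card_zpowers]
      exact card_dvd_of_le (zpowers_le.2 (mem_centralizer_singleton_iff.2 rfl)))
    exact lt_of_le_of_lt (Nat.mul_le_mul_left 2 ((cn_sub _ z).trans h3.le)) (by decide)

variable {p k q : ℕ} {T : Type} [Group T] [Finite T] [IsSimpleGroup T] {d : T → ℕ} {A S : Subgroup T}
  {Γ : Subgroup (MulAut T)}

theorem good_tits (h : Sh p k q T d) (C : Cx p A Γ) (hS : Sim A Γ S) (hp : p = 2) (e : IsoTits S) : Good A := by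
  have h1 : Nat.card (MulAut S) ∣ 2 * Nat.card S := (aut_dvd_out _).trans (Nat.mul_dvd_mul_right (by
    have h2 := H867.TitsOut.card_out_le e
    have h3 : 0 < Nat.card (Out S) := Nat.card_pos
    interval_cases Nat.card (Out S) <;> decide) _)
  obtain ⟨e⟩ := e
  have h2 := (Nat.card_congr e.toEquiv).trans card_tits
  have h3 := card_subgroup_dvd_card S
  rw [h2, h.card] at h3
  have h6 : CX S 13 78 := cx_sub _ e cx_tits
  clear e
  have h4 : 390625 ≤ q ^ (4 * (k + 1)) → Good A := fun h5 =>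
    crit' h C hS h1 (by norm_num) (by norm_num) (by omega) h6 (by decide)
      (le_trans (by rw [h2]; norm_num) (Nat.mul_le_mul_left _ h5))
  rcases h.par with ⟨rfl, hq⟩ | ⟨rfl, hq⟩
  · by_cases h5 : 5 ≤ q
    · exact h4 (le_trans (by norm_num) (Nat.pow_le_pow_left h5 8))
    · obtain rfl | rfl : q = 3 ∨ q = 4 := by omega
      · exact absurd h3 (by decide)
      · exact crit h C hS h1 (by norm_num) (by norm_num) (by omega) h6 (by decide) (by rw [h2]; decide)
  · by_cases h5 : 3 ≤ q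
    · exact h4 (le_trans (by norm_num) (Nat.pow_le_pow_left h5 16))
    · obtain rfl : q = 2 := by omega
      exact absurd h3 (by decide)

theorem good_sz8 (h : Sh p k q T d) (C : Cx p A Γ) (hS : Sim A Γ S) {F : Type} [Field F] [Fintype F]
    (hF : Fintype.card F = 8) (e : S ≃* Cfsg.Sz F 1) : Good A := by
  obtain ⟨e'⟩ := OddCyclic.ClaimC.SzIso.iso (m := 1) le_rfl hF
  have h1 : Nat.card (Cfsg.Sz F 1) = 29120 := (Nat.card_congr e'.toEquiv).trans (H438.SzMax.card_sz (m := 1) hF)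
  have h2 := (Nat.card_congr e.toEquiv).trans h1
  have h3 : Nat.card (MulAut S) ∣ 3 * Nat.card S := by
    rw [Nat.card_congr (MulAut.congr (e.trans e')).toEquiv, Nat.card_congr (e.trans e').toEquiv]
    have k := aut_dvd_out (Lie.Sz F (2 ^ (1 + 1)))
    rwa [S2126.result (m := 1) le_rfl hF] at k
  by_cases hp : p = 13
  · have h4 : CX (Cfsg.Sz F 1) 5 (4 * 5) := cx_of_card (z := 5824) Nat.prime_five
      (cycCard_of_exact (sz_exact le_rfl hF (.inr rfl)) Nat.prime_five dvd_rfl) (by rw [h1]; rfl) (by decide) (by decide) (by decide)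
    refine crit' h C hS h3 Nat.prime_five (by norm_num) (by omega) (h4.congr e) (by decide) ?_
    obtain ⟨f, hf, hq⟩ := h.pw
    have h5 : 13 ≤ q := hq ▸ hp ▸ Nat.le_self_pow hf.ne' p
    have h6 : 13 ^ 8 ≤ q ^ (4 * (k + 1)) := (Nat.pow_le_pow_left h5 8).trans (Nat.pow_le_pow_right (by omega) (by
      rcases h.par with e | e <;> omega))
    rw [h2]
    omega
  · have h0 : Nat.Prime 13 := by norm_num
    have h4 : CX (Cfsg.Sz F 1) 13 (4 * 13) := cx_of_card (z := 2240) h0
      (cycCard_of_exact (sz_exact le_rfl hF (.inl rfl)) h0 dvd_rfl) (by rw [h1]; rfl) (by decide) (by decide) (by decide)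
    refine crit' h C hS h3 h0 (by norm_num) (Ne.symm hp) (h4.congr e) (by decide) ?_
    have h6 : 6561 ≤ q ^ (4 * (k + 1)) := by
      rcases h.par with ⟨rfl, hq⟩ | ⟨rfl, hq⟩
      exacts [le_trans (by norm_num) (Nat.pow_le_pow_left hq 8), le_trans (by norm_num) (Nat.pow_le_pow_left hq 16)]
    rw [h2]
    omega

theorem char_eq (h : Sh p k q T d) (S : Subgroup T) {r : ℕ} (hr : r.Prime) (h1 : ¬ PRankLE r 2 S) (h2 : r = 2 → p = 2) :
    r = p := by
  by_contra k
  exact h1 (prank_sub (h.rk r hr (fun e => k (e.trans (h2 e).symm)) k) S)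

end X

open X in
/-- **box X** -/
theorem boxX : BoxSim pX := by
  intro p k q T _ _ _ d A Γ h C S hS hP
  rcases hP with ⟨F, _, _, h1, ⟨e⟩⟩ | ⟨K, _, _, n, h1, hK, ⟨e⟩⟩ | ⟨K, _, _, m, hm, hK, ⟨e⟩⟩ | ⟨rfl, F, _, _, m, hm, hF, ⟨e⟩⟩ |
    ⟨F, _, _, hF, e⟩ | ⟨rfl, ⟨F, _, _, _, hF, ⟨e⟩⟩ | ⟨F, _, _, n, hn, hF, ⟨e⟩⟩ | ⟨F, _, _, hF, ⟨e⟩⟩ | ⟨K, _, _, m, hm, hK, ⟨e⟩⟩ | e⟩
  · obtain ⟨r, hr⟩ := CharP.exists F
    have h2 := CharP.char_is_prime F r
    obtain rfl := char_eq h S h2 (not_of_mulEquiv e (not_chev (by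
      simp only [ChevalleyStructure.Elts.InList, List.mem_cons, true_or]) three_G2 h2)) (by
      rintro rfl
      obtain ⟨a, -, ha⟩ := FiniteField.card F 2
      exact (h1.resolve_left (Nat.not_odd_iff_even.2 (ha ▸ even_two.pow_of_ne_zero a.ne_zero))).1)
    refine ((own_g2 h2 ?_).congr e).good h C hS
    have := Fintype.one_lt_card (α := F)
    rcases h1 with ⟨a, ha⟩ | ⟨-, ha⟩ <;> omega
  · obtain ⟨r, hr⟩ := CharP.exists K
    have h2 := CharP.char_is_prime K r
    have := Fact.mk h2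
    obtain ⟨a, -, ha⟩ := FiniteField.card K r
    obtain ⟨f, -, rfl⟩ := (Nat.dvd_prime_pow h2).1 (ha ▸ hK ▸ dvd_pow_self n three_ne_zero : n ∣ r ^ (a : ℕ))
    have hf : 0 < f := Nat.pos_of_ne_zero (by
      rintro rfl
      exact Fintype.one_lt_card.ne' hK)
    obtain rfl := char_eq h S h2 (not_of_mulEquiv e (not_twistedD4 h2 (h2.isPrimePow.pow hf.ne') hK)) (by
      rintro rfl
      exact h1.resolve_left (Nat.not_odd_iff_even.2 (even_two.pow_of_ne_zero hf.ne')))
    exact ((own_d4 h2 hf hK).congr e).good h C hS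
  · obtain rfl := char_eq h S Nat.prime_three (not_of_mulEquiv e (not_ree hm hK)) (by omega)
    exact ((own_ree hm hK).congr e).good h C hS
  · exact ((own_sz hm hF).congr e).good h C hS
  · rw [sz_eq hF] at e
    exact good_sz8 h C hS hF e.some
  · exact ((own_sp hF).congr e).good h C hS
  · obtain ⟨r, h1, h2, h3⟩ := Omega.SQK.RowPSU2.psu 4 (2 ^ n) (even_two.pow_of_ne_zero (by omega)) hF le_rfl
    exact absurd (char_eq h S h1 (not_of_mulEquiv e h3) fun _ => rfl) h2
  · obtain ⟨r, h1, h2, h3⟩ := Omega.SQK.RowPSU2.psu 5 4 (by decide) hF (by decide)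
    exact absurd (char_eq h S h1 (not_of_mulEquiv e h3) fun _ => rfl) h2
  · exact ((own_f4 hm hK).congr e).good h C hS
  · exact good_tits h C hS rfl e

end Cfsg.Agent.N2.G2
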