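import Cfsg.Agent.N2.G2.Num
import Cfsg.Agent.H146.KW.Psl
import Cfsg.Agent.H376.SpEmb
import Cfsg.Agent.ClassicalGeometry.PSL2Basic
import Cfsg.Agent.S0204

/-!
# N2, `G₂(q)` and `³D₄(q)`, several components: group theory, `SL₂(2^b)` and numbers (helper45)
-/

set_option autoImplicit false
set_option linter.unusedSectionVars false

namespace Cfsg.Agent.N2.G2.MuB

open Subgroup Cfsg Cfsg.Agent.FP3

section gen

variable {T : Type} [Group T] [Finite T] {S S' : Subgroup T}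

/-- a simple subgroup which is not abelian -/
structure NS (S : Subgroup T) : Prop where
  simple : IsSimpleGroup S
  nonab : ¬ IsMulCommutative S

theorem NS.cen (h : NS S) {y : T} (hy : y ∈ S) (hc : ∀ x ∈ S, x * y = y * x) : y = 1 := by
  have h1 : (⟨y, hy⟩ : S) ∈ center S := mem_center_iff.2 fun x => Subtype.ext (hc x x.2)
  rcases h.simple.eq_bot_or_eq_top_of_normal (center S) inferInstance with h2 | h2
  · exact Subtype.ext_iff.1 (mem_bot.1 (h2.le h1))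
  · exact absurd ⟨⟨fun a b => mem_center_iff.1 (h2.ge (mem_top b)) a⟩⟩ h.nonab

theorem NS.not_le (h : NS S) {B : Subgroup T} (hB : ∀ a ∈ B, ∀ b ∈ B, a * b = b * a) : ¬ S ≤ B := fun k =>
  h.nonab ⟨⟨fun a b => Subtype.ext (hB _ (k a.2) _ (k b.2))⟩⟩

theorem exists_ord {r : ℕ} (hr : r.Prime) (h : r ∣ Nat.card S) : ∃ y ∈ S, orderOf y = r := by
  have := Fact.mk hr
  obtain ⟨y, hy⟩ := exists_prime_orderOf_dvd_card' r h
  exact ⟨y, y.2, by rw [orderOf_coe, hy]⟩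

theorem NS.elt (h : NS S) {a : ℕ} (ha : a.Prime) : ∃ y ∈ S, (orderOf y).Prime ∧ orderOf y ≠ 2 ∧ orderOf y ≠ a := by
  obtain ⟨r, h1, h2, h3, h4⟩ := H146.KW.exists_third_prime h.simple h.nonab Nat.prime_two ha
  obtain ⟨y, h5, rfl⟩ := exists_ord h1 h4
  exact ⟨y, h5, h1, h2, h3⟩

theorem NS.four (h : NS S) : ∃ V ≤ S, Nat.card V = 4 ∧ ∀ x ∈ V, x ^ 2 = 1 := by
  have := h.simple
  obtain ⟨V, hV⟩ := S0204.result (G := S) fun k => h.nonab inferInstance
  refine ⟨V.map S.subtype, map_subtype_le V, (card_map_of_injective S.subtype_injective).trans hV.card_four, ?_⟩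
  rintro _ ⟨x, hx, rfl⟩
  rw [← map_pow, show x ^ 2 = 1 from congrArg Subtype.val (hV.exponent_two ▸ Monoid.pow_exponent_eq_one (⟨x, hx⟩ : V)),
    map_one]

theorem exists_prod {U V : Subgroup T} (hc : ∀ x ∈ U, ∀ y ∈ V, x * y = y * x) (hd : ∀ x ∈ U, x ∈ V → x = 1) :
    ∃ E : Subgroup T, Nat.card E = Nat.card U * Nat.card V ∧ ∀ g, g ∈ E ↔ ∃ u ∈ U, ∃ v ∈ V, u * v = g := by
  let f : U × V →* T := MonoidHom.noncommCoprod U.subtype V.subtype fun a b => hc _ a.2 _ b.2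
  have hf : Function.Injective f := (injective_iff_map_eq_one f).2 fun ⟨a, b⟩ hab => by
    have h1 : (a : T) * b = 1 := hab
    have h2 := hd a a.2 (eq_inv_of_mul_eq_one_left h1 ▸ inv_mem b.2)
    rw [h2, one_mul] at h1
    exact Prod.ext (Subtype.ext h2) (Subtype.ext h1)
  refine ⟨f.range, (Nat.card_congr (MonoidHom.ofInjective hf).toEquiv).symm.trans (Nat.card_prod _ _), fun g =>
    ⟨fun ⟨x, hx⟩ => ⟨x.1, x.1.2, x.2, x.2.2, hx⟩, fun ⟨u, hu, v, hv, e⟩ => ⟨(⟨u, hu⟩, ⟨v, hv⟩), e⟩⟩⟩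

theorem NS.dvd_cn (h : NS S) {z : T} (hz : S ≤ centralizer {z}) : Nat.card S * orderOf z ∣ cn z := by
  have h1 : ∀ x ∈ S, ∀ y ∈ zpowers z, x * y = y * x := fun x hx y ⟨i, hi⟩ =>
    hi ▸ ((show Commute x z from mem_centralizer_singleton_iff.1 (hz hx)).zpow_right i).eq
  obtain ⟨E, h2, h3⟩ := exists_prod h1 fun x hx hx' => h.cen hx fun y hy => h1 y hy x hx'
  rw [← Nat.card_zpowers, ← h2]
  refine card_dvd_of_le fun g hg => ?_
  obtain ⟨u, hu, v, hv, rfl⟩ := (h3 g).1 hg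
  exact mul_mem (hz hu) (zpowers_le.2 (mem_centralizer_singleton_iff.2 rfl) hv)

theorem card_le_fib {X : Type} [Finite X] (A C : Subgroup T) (f : A → X) (h : ∀ a b, f a = f b → (a : T)⁻¹ * b ∈ C) :
    Nat.card A ≤ Nat.card X * Nat.card C := by
  have := Nonempty.intro (1 : A)
  rw [← Nat.card_prod]
  refine Nat.card_le_card_of_injective (fun a => (f a, ⟨_, h (Function.invFun f (f a)) a (Function.invFun_eq ⟨a, rfl⟩)⟩))
    fun a b e => ?_
  obtain ⟨h1, h2⟩ := Prod.mk.inj e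
  have h3 := congrArg Subtype.val h2
  dsimp only at h3
  rw [h1] at h3
  exact Subtype.ext (mul_left_cancel h3)

theorem half (S : Subgroup T) {y : T} (ho : Odd (orderOf y)) (h : ∀ z, IsConj y z → ¬ IsConj y (z ^ 2)) :
    2 * Nat.card {z // z ∈ S ∧ IsConj y z} ≤ Nat.card S := by
  rw [two_mul, ← Nat.card_sum]
  refine Nat.card_le_card_of_injective (β := S) (Sum.elim (fun z => ⟨z.1, z.2.1⟩) fun z => ⟨z.1 ^ 2, pow_mem z.2.1 2⟩) ?_
  obtain ⟨m, hm⟩ := ho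
  have h1 : ∀ z, IsConj y z → (z ^ 2) ^ (m + 1) = z := fun z hz => by
    obtain ⟨c, rfl⟩ := isConj_iff.1 hz
    rw [← pow_mul, conj_pow, show 2 * (m + 1) = orderOf y + 1 by omega, pow_succ, pow_orderOf_eq_one, one_mul]
  rintro (a | a) (b | b) e
  · exact congrArg _ (Subtype.ext (congrArg Subtype.val e :))
  · have h2 : a.1 = b.1 ^ 2 := congrArg Subtype.val e
    exact absurd (h2 ▸ a.2.2) (h _ b.2.2)
  · have h2 : a.1 ^ 2 = b.1 := congrArg Subtype.val e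
    exact absurd (h2 ▸ b.2.2) (h _ a.2.2)
  · have h2 : a.1 ^ 2 = b.1 ^ 2 := congrArg Subtype.val e
    exact congrArg _ (Subtype.ext (by rw [← h1 _ a.2.2, h2, h1 _ b.2.2]))

/-- two commuting simple subgroups -/
structure Pr (S S' : Subgroup T) : Prop where
  a : NS S
  b : NS S'
  comm : ∀ x ∈ S, ∀ y ∈ S', x * y = y * x

theorem Pr.symm (h : Pr S S') : Pr S' S := ⟨h.b, h.a, fun x hx y hy => (h.comm y hy x hx).symm⟩

theorem Pr.le_cent (h : Pr S S') {y : T} (hy : y ∈ S) : S' ≤ centralizer {y} := fun x hx =>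
  mem_centralizer_singleton_iff.2 (h.comm y hy x hx).symm

/-- products of elementary abelian subgroups -/
theorem Pr.prod (h : Pr S S') {U V : Subgroup T} (hU : U ≤ S) (hV : V ≤ S') {r : ℕ} (h1 : ∀ x ∈ U, x ^ r = 1)
    (h2 : ∀ x ∈ V, x ^ r = 1) (h3 : ∀ x ∈ U, ∀ y ∈ U, x * y = y * x) (h4 : ∀ x ∈ V, ∀ y ∈ V, x * y = y * x) :
    ∃ E : Subgroup T, Nat.card E = Nat.card U * Nat.card V ∧ (∀ x ∈ E, x ^ r = 1) ∧ (∀ x ∈ E, ∀ y ∈ E, x * y = y * x) ∧
      ∀ g, (∀ x ∈ U, x * g = g * x) → (∀ x ∈ V, x * g = g * x) → g ∈ centralizer (E : Set T) := by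
  have h5 : ∀ x ∈ U, ∀ y ∈ V, x * y = y * x := fun x hx y hy => h.comm x (hU hx) y (hV hy)
  obtain ⟨E, h6, h7⟩ := exists_prod h5 fun x hx hx' => h.a.cen (hU hx) fun y hy => h.comm y hy x (hV hx')
  have h8 : ∀ g, (∀ x ∈ U, x * g = g * x) → (∀ x ∈ V, x * g = g * x) → ∀ x ∈ E, x * g = g * x := fun g k1 k2 x hx => by
    obtain ⟨u, hu, v, hv, rfl⟩ := (h7 x).1 hx
    exact (Commute.mul_left (k1 u hu) (k2 v hv)).eq
  refine ⟨E, h6, fun x hx => ?_, fun x hx y hy => ?_, h8⟩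
  · obtain ⟨u, hu, v, hv, rfl⟩ := (h7 x).1 hx
    rw [(show Commute u v from h5 u hu v hv).mul_pow, h1 u hu, h2 v hv, one_mul]
  · obtain ⟨u, hu, v, hv, rfl⟩ := (h7 y).1 hy
    exact (Commute.mul_right (h8 u (fun a ha => h3 a ha u hu) (fun a ha => (h5 u hu a ha).symm) x hx)
      (h8 v (fun a ha => h5 a ha v hv) (fun a ha => h4 a ha v hv) x hx)).eq

/-- the centraliser of the product is smaller -/
theorem Pr.drop (h : Pr S S') {y z : T} (hy : y ∈ S) (hz : z ∈ S') (h1 : z ≠ 1) (hp : y ∈ zpowers (y * z)) :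
    2 * cn (y * z) ≤ cn y := by
  have h2 : centralizer {y * z} ≤ centralizer {y} := fun g hg => by
    obtain ⟨i, hi⟩ := hp
    exact mem_centralizer_singleton_iff.2
      (hi ▸ ((show Commute g (y * z) from mem_centralizer_singleton_iff.1 hg).zpow_right i).eq)
  obtain ⟨c, hc⟩ : cn (y * z) ∣ cn y := card_dvd_of_le h2
  have h3 : 0 < cn y := Nat.card_pos
  have h4 : c ≠ 1 := fun e => h1 (h.b.cen hz fun x hx => by
    have h5 := mem_centralizer_singleton_iff.1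
      ((eq_of_le_of_card_ge h2 (hc.trans (by rw [e, mul_one]; rfl)).le).ge (h.le_cent hy hx))
    rw [← mul_assoc, ← h.comm y hy x hx, mul_assoc, mul_assoc] at h5
    exact mul_left_cancel h5)
  have h5 : c ≠ 0 := fun e => by rw [e, mul_zero] at hc; omega
  rw [hc, mul_comm]
  exact Nat.mul_le_mul_left _ (by omega)

/-! ### `SL₂` -/

theorem trace_three {F : Type} [Field F] {g : Matrix.SpecialLinearGroup (Fin 2) F} (h : orderOf g = 3) :
    g 0 0 + g 1 1 = -1 := by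
  have h1 : g * g = g⁻¹ := eq_inv_of_mul_eq_one_left (by rw [← pow_three', ← h, pow_orderOf_eq_one])
  rw [Matrix.SpecialLinearGroup.SL2_inv_expl] at h1
  have h2 := fun i j => congrArg (fun x : Matrix.SpecialLinearGroup (Fin 2) F => x i j) h1
  have h3 := h2 0 0
  have h4 := h2 0 1
  have h5 := h2 1 0
  have h6 := g.det_coe
  simp only [Matrix.SpecialLinearGroup.coe_mul, Matrix.mul_apply, Fin.sum_univ_two, Matrix.det_fin_two, Matrix.cons_val',
    Matrix.cons_val_zero, Matrix.cons_val_one, Matrix.cons_val_fin_one] at h3 h4 h5 h6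
  by_contra h7
  have h8 : g 0 0 + g 1 1 + 1 ≠ 0 := fun e => h7 (by linear_combination e)
  have h9 : g 0 1 = 0 := mul_left_cancel₀ h8 (by linear_combination h4)
  have h10 : g 1 0 = 0 := mul_left_cancel₀ h8 (by linear_combination h5)
  rw [h9] at h3 h6
  have h11 : g 0 0 = 1 := by
    have h12 : (g 0 0 + g 1 1 + 1) * (g 0 0 - 1) = 0 := by linear_combination h3 + h6
    linear_combination (mul_eq_zero.1 h12).resolve_left h8
  have h12 : g = 1 := by
    ext i j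
    fin_cases i <;> fin_cases j
    exacts [h11, h9, h10, (by rw [h11] at h6; linear_combination h6 : g 1 1 = 1)]
  rw [h12, orderOf_one] at h
  omega

theorem card_three (F : Type) [Field F] [Fintype F] :
    Nat.card {g : Matrix.SpecialLinearGroup (Fin 2) F // orderOf g = 3} ≤ 2 * Fintype.card F ^ 2 := by
  classical
  rw [two_mul, pow_two, ← Nat.card_eq_fintype_card, ← Nat.card_prod, ← Nat.card_sum]
  refine Nat.card_le_card_of_injective (fun g => if g.1 0 1 = 0 then .inl (g.1 0 0, g.1 1 0) else .inr (g.1 0 0, g.1 0 1))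
    fun g g' e => ?_
  have h1 := trace_three g.2
  have h2 := trace_three g'.2
  have h3 := g.1.det_coe
  have h4 := g'.1.det_coe
  rw [Matrix.det_fin_two] at h3 h4
  have h5 : g.1 0 0 = g'.1 0 0 ∧ g.1 0 1 = g'.1 0 1 ∧ g.1 1 0 = g'.1 1 0 := by
    dsimp only at e
    split_ifs at e with k k'
    · obtain ⟨a, b⟩ := Prod.mk.inj (Sum.inl.inj e)
      exact ⟨a, k.trans k'.symm, b⟩
    · obtain ⟨a, b⟩ := Prod.mk.inj (Sum.inr.inj e)
      refine ⟨a, b, mul_left_cancel₀ k ?_⟩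
      rw [← a, ← b] at h4
      rw [← a] at h2
      linear_combination h4 - h3 + g.1 0 0 * (h1 - h2)
  refine Subtype.ext (Matrix.SpecialLinearGroup.ext _ _ fun i j => ?_)
  fin_cases i <;> fin_cases j
  exacts [h5.1, h5.2.1, h5.2.2, (by linear_combination h1 - h2 - h5.1 : g.1 1 1 = g'.1 1 1)]

/-- what is used about `SL₂(2^b)` -/
structure SD (S : Subgroup T) (b : ℕ) : Prop where
  two : 2 ≤ b
  card : Nat.card S = 2 ^ b * ((2 ^ b) ^ 2 - 1)
  cyc : ∃ y ∈ S, orderOf y = 2 ^ b + 1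
  three : Nat.card {z // z ∈ S ∧ orderOf z = 3} ≤ 2 * (2 ^ b) ^ 2

theorem NS.sd (h : NS S) {F : Type} [Field F] [Fintype F] [CharP F 2] (e : S ≃* Matrix.SpecialLinearGroup (Fin 2) F) :
    ∃ b, SD S b := by
  obtain ⟨b, -, hb⟩ := FiniteField.card F 2
  have h1 := (Nat.card_congr e.toEquiv).trans (ClassicalGeometry.PSL2Basic.card_SL2 F)
  obtain ⟨g, hg⟩ := H376.SpEmb.exists_SL_two F
  have h2 := card_three F
  rw [Nat.card_eq_fintype_card] at hg
  rw [hb] at h1 h2 hg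
  refine ⟨b, by_contra fun k => ?_, h1, ⟨e.symm g, (e.symm g).2, by rw [orderOf_coe, MulEquiv.orderOf_eq, hg]⟩,
    (Nat.card_le_card_of_injective (fun z => ⟨e ⟨z.1, z.2.1⟩, by rw [MulEquiv.orderOf_eq, orderOf_mk, z.2.2]⟩)
      fun a b k => ?_).trans h2⟩
  · obtain ⟨y, h3, h4, h5, h6⟩ := h.elt Nat.prime_three
    have h7 := S.orderOf_dvd_natCard h3
    rw [h1, show (b : ℕ) = 1 by have := b.pos; omega] at h7
    exact (h4.dvd_mul.1 h7).elim (fun k => h5 ((Nat.prime_dvd_prime_iff_eq h4 Nat.prime_two).1 k))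
      fun k => h6 ((Nat.prime_dvd_prime_iff_eq h4 Nat.prime_three).1 k)
  · exact Subtype.ext (congrArg Subtype.val (e.injective (congrArg Subtype.val k)) :)

end gen

/-! ### numbers -/

theorem three_dvd (b : ℕ) : 3 ∣ (2 ^ b) ^ 2 - 1 := by
  rw [← pow_mul, mul_comm, pow_mul]
  exact Nat.sub_one_dvd_pow_sub_one 4 b

theorem exists_partner (a : ℕ) {b : ℕ} (hb : 2 ≤ b) : ∃ r, r.Prime ∧ r ≠ 2 ∧ r ∣ (2 ^ b) ^ 2 - 1 ∧ ¬ r ∣ 2 ^ a + 1 := by
  rcases Nat.even_or_odd' b with ⟨c, rfl | rfl⟩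
  · rcases Nat.even_or_odd' a with ⟨j, rfl | rfl⟩
    · refine ⟨3, Nat.prime_three, by decide, three_dvd _, ?_⟩
      have : 2 ^ (2 * j) % 3 = 1 := by simp [pow_mul, Nat.pow_mod]
      omega
    · refine ⟨5, Nat.prime_five, by decide, ?_, ?_⟩
      · rw [← pow_mul, show 2 * c * 2 = 4 * c by ring, pow_mul]
        exact Nat.dvd_trans (by decide) (Nat.sub_one_dvd_pow_sub_one 16 c)
      · have : 2 ^ (2 * j) % 5 = 1 ∨ 2 ^ (2 * j) % 5 = 4 := by
          rcases Nat.even_or_odd' j with ⟨i, rfl | rfl⟩ <;> simp [pow_mul, pow_succ, Nat.pow_mod, Nat.mul_mod]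
        rw [pow_succ]
        omega
  · have h1 : 8 ≤ 2 ^ (2 * c + 1) := Nat.pow_le_pow_right (n := 2) (i := 3) two_pos (by omega)
    obtain ⟨r, hr, h2⟩ := Nat.exists_prime_and_dvd (n := 2 ^ (2 * c + 1) - 1) (by omega)
    have h3 : r ≠ 2 := by
      rintro rfl
      rw [pow_succ] at h1 h2
      omega
    refine ⟨r, hr, h3, h2.trans (Nat.sub_one_dvd_pow_sub_one _ 2), fun h4 => h3 ?_⟩
    have h5 := h2.trans (Nat.sub_one_dvd_pow_sub_one _ a)
    have h6 := h4.trans (Odd.nat_add_dvd_pow_add_pow (2 ^ a) 1 (n := 2 * c + 1) ⟨c, rfl⟩)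
    rw [← pow_mul, mul_comm] at h5
    rw [← pow_mul, one_pow, show 2 ^ (a * (2 * c + 1)) + 1 = 2 ^ (a * (2 * c + 1)) - 1 + 2 by
      have := Nat.one_le_two_pow (n := a * (2 * c + 1)); omega] at h6
    exact (Nat.prime_dvd_prime_iff_eq hr Nat.prime_two).1 ((Nat.dvd_add_right h5).1 h6)

theorem not_dvd_bd {f a m n : ℕ} (hf : 0 < f) (ha : f < a) (h : Bd (2 ^ f) m n) : ¬ 2 ^ a + 1 ∣ m := by
  rintro ⟨j, hj⟩
  obtain ⟨c, rfl⟩ := Nat.exists_eq_add_of_lt ha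
  obtain ⟨f, rfl⟩ := Nat.exists_eq_succ_of_ne_zero hf.ne'
  rw [add_assoc, pow_add, pow_succ 2 c] at hj
  rw [pow_succ 2 f] at hj h
  have h1 := Nat.one_le_two_pow (n := f)
  have h2 := Nat.one_le_two_pow (n := c)
  generalize 2 ^ f = u at *
  generalize 2 ^ c = v at *
  have key : ∀ e : ℤ, e = 1 ∨ e = -1 → (m : ℤ) = (u * 2) ^ 2 + e * (u * 2) + 1 → False := fun e he h3 => by
    have h4 : ((u : ℤ) * 2 * (v * 2) + 1) * j = (u * 2) ^ 2 + e * (u * 2) + 1 := by rw [← h3, hj]; push_cast; rfl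
    obtain ⟨i, hi⟩ : ∃ i : ℤ, i = u * 2 + e - v * 2 * j := ⟨_, rfl⟩
    have h5 : (j : ℤ) = 1 + u * 2 * i := by rw [hi]; linear_combination h4
    have h6 : (0 : ℤ) ≤ j := Int.natCast_nonneg j
    have h7 : (1 : ℤ) ≤ u := by exact_mod_cast h1
    have h8 : (1 : ℤ) ≤ v := by exact_mod_cast h2
    rcases lt_trichotomy i 0 with k | k | k
    · nlinarith
    · rw [k, mul_zero, add_zero] at h5
      rw [h5] at hi
      omega
    · rcases he with rfl | rfl <;> nlinarith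
  have h3 : m ≤ u * 2 + 1 → 0 < m → False := fun k k' => by
    have := Nat.le_of_dvd k' ⟨j, hj⟩
    nlinarith
  rcases h with ⟨h | h, -⟩ | ⟨h, -⟩ | ⟨h, -⟩
  · exact h3 (by omega) (by omega)
  · exact h3 (by omega) (by omega)
  · exact key 1 (.inl rfl) (by rw [h]; push_cast; ring)
  · exact key (-1) (.inr rfl) (by rw [h, Nat.cast_add, castH]; push_cast; ring)

theorem bd_range {q m n m' n' : ℕ} (hq : 4 ≤ q) (h : Bd q m n) (h' : Bd q m' n') : m * n < 2 * (m' * n') := by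
  have h0 : 0 < q := by omega
  have h1 : m * n ≤ (q + 1) * (q ^ 3 * (q ^ 6 - 1)) := by
    rcases h with ⟨rfl | rfl, rfl⟩ | ⟨rfl, rfl⟩ | ⟨rfl, rfl⟩
    · exact Nat.mul_le_mul_right _ (by omega)
    · rfl
    all_goals
      zify
      push_cast [castP h0, castH]
      obtain ⟨a, rfl⟩ := Nat.exists_eq_add_of_le' hq
      rw [← sub_nonneg]; push_cast; ring_nf; positivity
  have h2 : (q - 1) * (q ^ 3 * (q ^ 6 - 1)) ≤ m' * n' := by
    rcases h' with ⟨rfl | rfl, rfl⟩ | ⟨rfl, rfl⟩ | ⟨rfl, rfl⟩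
    · rfl
    · exact Nat.mul_le_mul_right _ (by omega)
    all_goals
      zify [h0]
      push_cast [castP h0, castH]
      obtain ⟨a, rfl⟩ := Nat.exists_eq_add_of_le' hq
      rw [← sub_nonneg]; push_cast; ring_nf; positivity
  have h3 : 0 < q ^ 3 * (q ^ 6 - 1) := Nat.mul_pos (by positivity) (Nat.sub_pos_of_lt (Nat.one_lt_pow (by decide) (by omega)))
  refine h1.trans_lt (lt_of_lt_of_le ?_ (Nat.mul_le_mul_left 2 h2))
  rw [← mul_assoc 2]
  exact Nat.mul_lt_mul_of_pos_right (by omega) h3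

theorem odd_sub {q : ℕ} (h : Even q) (h0 : 0 < q) {j : ℕ} (hj : j ≠ 0) : Odd (q ^ j - 1) :=
  Nat.Even.sub_odd (Nat.one_le_pow _ _ h0) (Nat.even_pow.2 ⟨h, hj⟩) odd_one

theorem odd_add {q : ℕ} (h : Even q) {j : ℕ} (hj : j ≠ 0) : Odd (q ^ j + 1) := (Nat.even_pow.2 ⟨h, hj⟩).add_one

theorem bd_odd {q m n : ℕ} (hq : Even q) (h0 : 0 < q) (h : Bd q m n) : ∃ u, Odd u ∧ n = q ^ 3 * u := by
  rcases h with ⟨-, rfl⟩ | ⟨-, rfl⟩ | ⟨-, rfl⟩
  exacts [⟨_, odd_sub hq h0 (by decide), rfl⟩, ⟨_, (odd_sub hq h0 two_ne_zero).mul (odd_sub hq h0 (by decide)), mul_assoc _ _ _⟩,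
    ⟨_, (odd_sub hq h0 two_ne_zero).mul (odd_add hq (by decide)), mul_assoc _ _ _⟩]

theorem num_a {q : ℕ} (h : 8 ≤ q) : tau 1 q ^ 3 * cm 1 q ^ 2 ≤ 5 * ord 1 q := by
  obtain ⟨a, rfl⟩ := Nat.exists_eq_add_of_le' h
  zify
  rw [tauZ1, ordZ1 (by omega), cmZ1 (by omega), ← sub_nonneg]; push_cast; ring_nf; positivity

theorem num_b {q : ℕ} (h : 4 ≤ q) : cm 3 q ^ 3 * (8 * q ^ 4 * tau 3 q) ≤ ord 3 q := by
  obtain ⟨a, rfl⟩ := Nat.exists_eq_add_of_le' h
  zify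
  rw [tauZ3, ordZ3 (by omega), cmZ3 (by omega), ← sub_nonneg]; push_cast; ring_nf; positivity

theorem num_c {q : ℕ} (h : 4 ≤ q) : tau 3 q ^ 3 * (8 * q ^ 8 * tau 3 q) ≤ ord 3 q := by
  obtain ⟨a, rfl⟩ := Nat.exists_eq_add_of_le' h
  zify
  rw [tauZ3, ordZ3 (by omega), ← sub_nonneg]; push_cast; ring_nf; positivity

end Cfsg.Agent.N2.G2.MuB
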