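import Cfsg.Agent.N2.G2.LocON
import Cfsg.Agent.N2.G2.LocOA
import Cfsg.Agent.H6.M11.Lin
import Cfsg.Agent.H892.FixDim

/-!
# N2, `³D₄(q)`, box U5: the centraliser of `u` is a `5`-group (helper95)
-/

set_option autoImplicit false
set_option linter.unusedSectionVars false

namespace Cfsg.Agent.N2.G2.U5

open Subgroup Cfsg Module Cfsg.Agent.DS.NT Cfsg.Agent.N2.G2.LocO

theorem three_dvd {α : Type*} [DecidableEq α] (f : α → α) (β : α → ℕ) (s : Finset α) :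
    (∀ x ∈ s, f x ∈ s ∧ f x ≠ x ∧ f (f (f x)) = x ∧ β x ≤ β (f x)) → 3 ∣ ∑ x ∈ s, β x := by
  induction s using Finset.strongInduction with
  | H s ih =>
  intro h
  rcases s.eq_empty_or_nonempty with rfl | ⟨x, hx⟩
  · exact dvd_zero 3
  obtain ⟨h1, h2, h3, h4⟩ := h x hx
  obtain ⟨h5, h6, h7, h8⟩ := h _ h1
  obtain ⟨-, h9, -, h10⟩ := h _ h5
  rw [h3] at h9 h10
  have hs : ({x, f x, f (f x)} : Finset α) ⊆ s := by
    intro y hy
    simp only [Finset.mem_insert, Finset.mem_singleton] at hy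
    rcases hy with rfl | rfl | rfl <;> assumption
  rw [← Finset.sum_sdiff hs, Finset.sum_insert (by simp [h2.symm, h9]), Finset.sum_pair h6.symm]
  refine dvd_add (ih _ (Finset.sdiff_ssubset hs ⟨x, Finset.mem_insert_self _ _⟩) fun y hy => ?_) (by omega)
  obtain ⟨k1, k2⟩ := Finset.mem_sdiff.1 hy
  obtain ⟨k3, k4, k5, k6⟩ := h y k1
  refine ⟨Finset.mem_sdiff.2 ⟨k3, fun e => k2 ?_⟩, k4, k5, k6⟩
  simp only [Finset.mem_insert, Finset.mem_singleton] at e ⊢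
  rcases e with e | e | e
  · exact Or.inr (Or.inr (by rw [← e, k5]))
  · exact Or.inl (by rw [← k5, e, h3])
  · exact Or.inr (Or.inl (by rw [← k5, e, h7]))

variable {K W T : Type} [Field K] [IsAlgClosed K] [CharP K 5] [AddCommGroup W] [Module K W] [FiniteDimensional K W]
  [Group T] [Finite T] (ρ : T →* End K W)

/-- Jordan blocks of `u` on the eigenspaces of `s` -/
theorem blocks {s u : T} (hc : s * u = u * s) (hu : u ^ 5 = 1) {r : ℕ} (hr : r.Prime) (h5 : r ≠ 5) (hs : s ^ r = 1) :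
    ∃ (R : Finset K) (c : K → ℕ), (∀ a, a ∈ R ↔ a ^ r = 1 ∧ a ≠ 1) ∧ (∀ a, ev ρ s a ≤ 5 * c a) ∧
      ev ρ u 1 = c 1 + ∑ a ∈ R, c a ∧ finrank K W = ev ρ s 1 + ∑ a ∈ R, ev ρ s a := by
  classical
  have : Fact (Nat.Prime 5) := ⟨Nat.prime_five⟩
  have : NeZero (r : K) := ⟨fun e => h5 ((Nat.prime_dvd_prime_iff_eq Nat.prime_five hr).1
    ((CharP.cast_eq_zero_iff K 5 r).1 e)).symm⟩
  have : NeZero r := ⟨hr.ne_zero⟩
  obtain ⟨ζ, hζ⟩ := HasEnoughRootsOfUnity.exists_primitiveRoot K r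
  have h1 : ρ s ^ r = 1 := by rw [← map_pow, hs, map_one]
  have h2 : Commute (ρ s) (ρ u) := (show Commute s u from hc).map ρ
  have h3 : ∀ g : K → ℕ, ∑ b : Fin r, g (ζ ^ (b : ℕ)) =
      g 1 + ∑ a ∈ (Finset.univ.image fun b : Fin r => ζ ^ (b : ℕ)).erase 1, g a := fun g => by
    rw [Finset.add_sum_erase _ _ (Finset.mem_image.2 ⟨(0 : Fin r), Finset.mem_univ _, pow_zero ζ⟩),
      Finset.sum_image fun a _ b _ e => Fin.ext (hζ.pow_inj a.2 b.2 e)]
  have h4 : (ρ u - 1) ^ 5 = 0 := by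
    rcases subsingleton_or_nontrivial W with k | k
    · exact Subsingleton.elim _ _
    · have := charP_of_injective_algebraMap (algebraMap K (End K W)).injective 5
      rw [sub_pow_char_of_commute 5 (Commute.one_right _), ← map_pow, hu, map_one, one_pow, sub_self]
  have h6 : (ρ u).eigenspace 1 = LinearMap.ker (ρ u - 1) := by rw [End.eigenspace_def, one_smul]
  refine ⟨_, fun a => finrank K ((ρ u).eigenspace 1 ⊓ (ρ s).eigenspace a : Submodule K W), fun a => ?_, fun a => ?_,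
    (H6.M11.finrank_eq_sum hζ hr.pos h1 _ fun v hv => ?_).trans
      (h3 fun a => finrank K ((ρ u).eigenspace 1 ⊓ (ρ s).eigenspace a : Submodule K W)),
    (H6.M11.finrank_top_eq_sum hζ hr.pos h1).trans (h3 (ev ρ s))⟩
  · rw [Finset.mem_erase, Finset.mem_image, and_comm]
    refine and_congr_left fun _ => ⟨?_, fun e => ?_⟩
    · rintro ⟨b, -, rfl⟩
      rw [← pow_mul, mul_comm, pow_mul, hζ.pow_eq_one, one_pow]
    · obtain ⟨b, hb, e'⟩ := hζ.eq_pow_of_pow_eq_one e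
      exact ⟨⟨b, hb⟩, Finset.mem_univ _, e'⟩
  · have k : ∀ v ∈ (ρ s).eigenspace a, (ρ u - 1) v ∈ (ρ s).eigenspace a := fun v hv => by
      rw [End.mem_eigenspace_iff] at hv ⊢
      rw [← End.mul_apply, (h2.sub_right (Commute.one_right _)).eq, End.mul_apply, hv, map_smul]
    have k1 := H892.FixDim.finrank_le_of_pow_eq_zero (g := (ρ u - 1).restrict k) (n := 5) (by
      rw [End.pow_restrict]
      exact LinearMap.ext fun v => Subtype.ext (by rw [LinearMap.coe_restrict_apply, h4]; rfl))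
    rwa [LinearMap.ker_restrict, ← Submodule.finrank_map_subtype_eq, Submodule.map_comap_subtype, inf_comm, ← h6] at k1
  · rw [End.mem_eigenspace_iff] at hv ⊢
    rw [← End.mul_apply, ← h2.eq, End.mul_apply, hv, map_smul]

variable {ρ} {q : ℕ} {d : T → ℕ} (hd : ∀ x, d x = ev ρ x 1) (hW : finrank K W = 28)
include hd hW

theorem seven {s u : T} (hc : s * u = u * s) (hu : u ^ 5 = 1) {r : ℕ} (hr : r.Prime) (h5 : r ≠ 5) (hs : s ^ r = 1)
    (h : d s = 6 ∨ d s = 12) : 7 ≤ d u := by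
  obtain ⟨R, c, -, h1, h2, h3⟩ := blocks ρ hc hu hr h5 hs
  have h4 : ∑ a ∈ R, ev ρ s a ≤ 5 * ∑ a ∈ R, c a := by
    rw [Finset.mul_sum]
    exact Finset.sum_le_sum fun a _ => h1 a
  have h6 := h1 1
  rw [hd] at h ⊢
  omega

theorem eight (hf : ∀ x c, ev ρ x c ≤ ev ρ x (c ^ q)) {s u : T} (hc : s * u = u * s) (hu : u ^ 5 = 1) {r : ℕ} (hr : r.Prime)
    (h5 : r ≠ 5) (hs : s ^ r = 1) (h : d s = 10) (h0 : ¬ r ∣ q) (h2 : ¬ r ∣ q ^ 2 - 1) (h6 : r ∣ q ^ 6 - 1) : 7 ≤ d u := by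
  classical
  obtain ⟨R, c, k, h1, h3, h4⟩ := blocks ρ hc hu hr h5 hs
  have : Fact r.Prime := ⟨hr⟩
  have hq : 0 < q := Nat.pos_of_ne_zero fun e => h0 (e ▸ dvd_zero r)
  have h7 := three_dvd (fun a : K => a ^ q ^ 2) (fun a => (ev ρ s a + 4) / 5) R fun a ha => by
    obtain ⟨k1, k2⟩ := (k a).1 ha
    have k3 : orderOf a = r := orderOf_eq_prime k1 k2
    have k4 : a ≠ 0 := fun e => by
      rw [e, zero_pow hr.ne_zero] at k1
      exact zero_ne_one k1
    refine ⟨(k _).2 ⟨by rw [← pow_mul, mul_comm, pow_mul, k1, one_pow], fun e =>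
      h0 (hr.dvd_of_dvd_pow (k3 ▸ orderOf_dvd_of_pow_eq_one e))⟩, fun e => h2 (k3 ▸ orderOf_dvd_of_pow_eq_one ?_), ?_, ?_⟩
    · refine mul_right_cancel₀ k4 ?_
      rw [← pow_succ, Nat.sub_add_cancel (Nat.one_le_pow _ _ hq), one_mul]
      exact e
    · obtain ⟨j, hj⟩ := h6
      show ((a ^ q ^ 2) ^ q ^ 2) ^ q ^ 2 = a
      rw [← pow_mul, ← pow_mul, ← pow_add, ← pow_add, ← Nat.sub_add_cancel (Nat.one_le_pow (2 + (2 + 2)) _ hq), hj, pow_succ,
        pow_mul, k1, one_pow, one_mul]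
    · have k5 := (hf s a).trans (hf s (a ^ q))
      rw [← pow_mul, ← sq] at k5
      show (ev ρ s a + 4) / 5 ≤ (ev ρ s (a ^ q ^ 2) + 4) / 5
      omega
  have h8 : ∑ a ∈ R, (ev ρ s a + 4) / 5 ≤ ∑ a ∈ R, c a := Finset.sum_le_sum fun a _ => by have := h1 a; omega
  have h9 : ∑ a ∈ R, ev ρ s a ≤ 5 * ∑ a ∈ R, (ev ρ s a + 4) / 5 := by
    rw [Finset.mul_sum]
    exact Finset.sum_le_sum fun a _ => by omega
  have h10 := h1 1
  rw [hd] at h ⊢
  omega

theorem pgrp (hf : ∀ x c, ev ρ x c ≤ ev ρ x (c ^ q)) (A : ElA 5 3 q T d) (B : ElB 5 3 q T d) (L : ElL 5 3 q T) {u : T}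
    (hu : orderOf u = 5) (h6 : d u ≤ 6) : IsPGroup 5 (centralizer ({u} : Set T)) := by
  have h5 : u ^ 5 = 1 := hu ▸ pow_orderOf_eq_one u
  refine IsPGroup.of_card (Nat.eq_prime_pow_of_unique_prime_dvd Nat.card_pos.ne' fun {r} hr h => ?_)
  by_contra h0
  obtain ⟨s, hs, ho⟩ := exists_ord _ hr h
  have hc := mem_cen.1 hs
  have h1 : (orderOf s).Coprime 5 := ho ▸ (Nat.coprime_primes hr Nat.prime_five).2 h0
  have h2 : s ≠ 1 := fun e => hr.one_lt.ne (by rw [← ho, e, orderOf_one])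
  have h3 : s ^ r = 1 := ho ▸ pow_orderOf_eq_one s
  refine h6.not_gt ?_
  rcases A.cls s h1 h2 with e | e | ⟨e, -⟩ | ⟨e, -⟩
  · have k := (A.reg s h1 e).2.1
    have k1 := ord_dvd (mem_cen.2 hc.symm)
    rw [hu] at k1
    exact absurd (Nat.Coprime.eq_one_of_dvd k.symm k1) (by decide)
  · exact seven hd hW hc h5 hr h0 h3 (Or.inl e)
  · obtain ⟨m, n, z, b1, -, b3, b4, b5, b6⟩ := B.bad3 rfl s h1 e
    have k1 : centralizer {z} = centralizer ({s} : Set T) := by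
      refine eq_of_le_of_card_ge ?_ b6.ge
      obtain ⟨j, rfl⟩ := (mem_powers_iff_mem_zpowers.2 b4 : s ∈ Submonoid.powers z)
      exact cen_pow z j
    have k2 : ∀ j : ℕ, z ^ j * u = u * z ^ j := fun j => (mem_cen.1 (cen_pow z j (k1 ▸ mem_cen.2 hc.symm))).symm
    have k3 : ∀ l, l ∣ m → orderOf (z ^ (m / l)) = l := fun l hl => b3 ▸ orderOf_pow_orderOf_div (orderOf_pos z).ne' (b3 ▸ hl)
    obtain ⟨f, hf0, hq⟩ := L.pw
    have k4 : 5 ∣ q := hq ▸ dvd_pow_self 5 hf0.ne'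
    have k5 : q % 2 = 1 := Nat.odd_iff.1 (hq ▸ Odd.pow (by decide))
    obtain ⟨t, rfl⟩ : ∃ t, q = t + 1 := ⟨q - 1, by omega⟩
    have k6 : Hi t m → 7 ≤ d u := fun H => by
      obtain ⟨l, l1, l2, l3⟩ := H.big (by omega) (by
        have : 4 ≤ t := by omega
        rcases H with rfl | rfl <;> nlinarith)
      have l4 : ¬ l ∣ t + 1 := fun e => l1.one_lt.ne' (Nat.dvd_one.1 (H.mid l3 e))
      have l5 : l ≠ 5 := fun e => l4 (e ▸ k4)
      have l6 := k3 l l3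
      have l7 := A.pow z (m / l)
      refine eight hd hW hf (k2 (m / l)) h5 l1 l5 (orderOf_dvd_iff_pow_eq_one.1 l6.dvd) ?_ l4 (fun e => ?_) ?_
      · rcases A.cls (z ^ (m / l)) (by rw [l6]; exact (Nat.coprime_primes l1 Nat.prime_five).2 l5)
          (fun e => l1.one_lt.ne (by rw [← l6, e, orderOf_one])) with e | e | ⟨e, -⟩ | ⟨-, e⟩
        · omega
        · omega
        · exact e
        · have := Nat.le_of_dvd two_pos (l6 ▸ orderOf_dvd_of_pow_eq_one e)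
          omega
      · rw [s2] at e
        exact not_dvd3 l2 (((Nat.Prime.dvd_mul l1).1 e).elim (H.lo l3) (H.up l3))
      · rw [s6]
        rcases H with rfl | rfl
        exacts [(l3.mul_left _).mul_right _, l3.mul_left _]
    rcases bd b1 with ⟨e, -⟩ | ⟨e, -⟩ | ⟨e, -⟩
    · have k7 := k3 2 (by omega)
      exact seven hd hW (k2 (m / 2)) h5 Nat.prime_two (by decide) (orderOf_dvd_iff_pow_eq_one.1 k7.dvd)
        (Or.inr (A.inv (by decide) _ k7))
    · exact k6 (Or.inl e)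
    · exact k6 (Or.inr e)
  · exact seven hd hW hc h5 hr h0 h3 (Or.inr e)

end Cfsg.Agent.N2.G2.U5
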