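import Cfsg.Agent.N2.G2.WhyT
import Cfsg.Agent.N2.G2.WhyL
import Cfsg.Agent.SB.Low.NS
import Cfsg.Agent.SB.Low.Odd
import Cfsg.Agent.H605.MX.Orb
import Cfsg.Agent.H320.Kill.Pair
import Cfsg.Agent.ClassicalGeometry.PSL2Basic

/-!
# N2 (S3519), `³D₄(q)`, box [Why]: the frame of an element of order `q + 1` (helper75)
-/

set_option autoImplicit false
set_option linter.unusedSectionVars false

namespace Cfsg.Agent.N2.G2.Wy

open Subgroup CoxeterSystem Cfsg Cfsg.Lie Cfsg.Lie.ChevalleyDatum Cfsg.Agent.FP3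
open Cfsg.Agent.ChevalleyStructure Cfsg.Agent.ChevalleyStructure.Elts Cfsg.Agent.ChevalleyStructure.CoxeterGeom
  Cfsg.Agent.ChevalleyStructure.CoxeterGeomTypes
open Cfsg.Agent.Tits.Roots Cfsg.Agent.Nodes Cfsg.Agent.Nodes.Reps Cfsg.Agent.Nodes.BNOf Cfsg.Agent.Nodes.RGDChev
  Cfsg.Agent.Nodes.Coroot Cfsg.Agent.Nodes.RGDTwD4
open Cfsg.Agent.KFacts.RgdField Cfsg.Agent.KFacts.RgdChevCoord Cfsg.Agent.BpExc.LangFr
open Cfsg.Agent.H469.Exc Cfsg.Agent.H129.TorusChar Cfsg.Agent.DS.Ex Cfsg.Agent.DS.Ex.Tor Cfsg.Agent.DS.Nt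
  Cfsg.Agent.N2.Ex Cfsg.Agent.H81.TorOrth Cfsg.Agent.H605.MX
open Cfsg.Agent.SB.Low (Cz Md im Sat RD boxTabD boxNS comm_of_orth)
open Cfsg.Agent.ChevalleyStructure.SL2Hom (up lo mem_closure_SL2)
open Cfsg.Agent.Nodes.RGDFoldSL (hS)

section Grp

variable {T S : Type} [Group T] [Finite T] [Group S] [IsSimpleGroup S]

theorem mc_eq (hS : ¬ IsMulCommutative S) {φ : S →* T} (hφ : Function.Injective φ) {s : T} (hc : ∀ g, φ g * s = s * φ g)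
    (h : cn s = orderOf s * Nat.card S) : Mc s = φ.range := by
  have h1 : commutator S = ⊤ := (IsSimpleGroup.eq_bot_or_eq_top_of_normal _ inferInstance).resolve_left fun e =>
    hS ⟨⟨fun a b => commutatorElement_eq_one_iff_mul_comm.1 (mem_bot.1 (e ▸ commutator_mem_commutator (mem_top a) (mem_top b)))⟩⟩
  have h2 : center S = ⊥ := (IsSimpleGroup.eq_bot_or_eq_top_of_normal _ inferInstance).resolve_right fun e =>
    hS ⟨⟨fun a b => mem_center_iff.1 (e ▸ mem_top b) a⟩⟩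
  have h3 : ∀ i : ℤ, ∀ g, φ g * s ^ i = s ^ i * φ g := fun i g => (Commute.zpow_right (hc g) i).eq
  let f : zpowers s × S → centralizer ({s} : Set T) := fun x => ⟨x.1 * φ x.2, mul_mem
    (zpowers_le.2 (mem_centralizer_singleton_iff.2 rfl) x.1.2) (mem_centralizer_singleton_iff.2 (hc _))⟩
  have h4 : Function.Injective f := by
    rintro ⟨⟨_, i, rfl⟩, a⟩ ⟨⟨_, j, rfl⟩, b⟩ e
    have e1 : s ^ i * φ a = s ^ j * φ b := congrArg Subtype.val e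
    have e2 : φ (a * b⁻¹) = s ^ (j - i) := by
      rw [map_mul, map_inv, sub_eq_neg_add, zpow_add, zpow_neg, mul_inv_eq_iff_eq_mul, mul_assoc, ← e1, inv_mul_cancel_left]
    have e3 : a * b⁻¹ = 1 := mem_bot.1 (h2 ▸ mem_center_iff.2 fun g => hφ (by rw [map_mul, map_mul φ _ g, e2, h3]))
    obtain rfl := mul_inv_eq_one.1 e3
    exact Prod.ext (Subtype.ext (mul_right_cancel e1)) rfl
  have h5 := (Nat.bijective_iff_injective_and_card f).2 ⟨h4, by rw [Nat.card_prod, Nat.card_zpowers]; exact h.symm⟩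
  refine le_antisymm (commutator_le.2 fun x hx y hy => ?_) ?_
  · obtain ⟨⟨⟨_, i, rfl⟩, a⟩, e⟩ := h5.2 ⟨x, hx⟩
    obtain ⟨⟨⟨_, j, rfl⟩, b⟩, e'⟩ := h5.2 ⟨y, hy⟩
    obtain rfl : s ^ i * φ a = x := congrArg Subtype.val e
    obtain rfl : s ^ j * φ b = y := congrArg Subtype.val e'
    refine ⟨a * b * a⁻¹ * b⁻¹, ?_⟩
    have k : ∀ (m : ℤ) (z : T), z ∈ φ.range → s ^ m * z * (s ^ m)⁻¹ = z := by
      rintro m _ ⟨g, rfl⟩
      rw [← h3, mul_inv_cancel_right]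
    have k1 : s ^ i * φ a * (s ^ j * φ b) * (s ^ i * φ a)⁻¹ = s ^ j * φ (a * b * a⁻¹) := by
      calc _ = s ^ i * ((φ a * s ^ j) * φ b * (φ a)⁻¹) * (s ^ i)⁻¹ := by group
        _ = s ^ j * (s ^ i * φ (a * b * a⁻¹) * (s ^ i)⁻¹) := by rw [h3, map_mul, map_mul, map_inv]; group
        _ = _ := by rw [k _ _ ⟨_, rfl⟩]
    rw [commutatorElement_def, k1, ← k j _ ⟨a * b * a⁻¹ * b⁻¹, rfl⟩, map_mul φ _ b⁻¹, map_inv]
    group
  · rw [MonoidHom.range_eq_map, ← h1, commutator_def, map_commutator]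
    have h6 : (⊤ : Subgroup S).map φ ≤ centralizer {s} := by
      rintro _ ⟨g, -, rfl⟩
      exact mem_centralizer_singleton_iff.2 (hc g)
    exact commutator_mono h6 h6

end Grp

theorem rd : RD coxeterD4.toCoxeterSystem hp.isCartan := boxTabD.1

theorem ps_mem {s : ℕ} (hs : s < chevD4.nroots) {H : Subgroup (YY chevD4 2)} (h1 : XX chevD4 4 (KK 2) (vec chevD4 4 s) ≤ H)
    (h2 : XX chevD4 4 (KK 2) (-vec chevD4 4 s) ≤ H) (x : Matrix.SpecialLinearGroup (Fin 2) (KK 2)) : ps hp hs x ∈ H := by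
  refine (closure_le (H.comap (ps hp hs))).2 ?_ (mem_closure_SL2 x)
  rintro _ (⟨b, rfl⟩ | ⟨b, rfl⟩)
  · show ps hp hs (up b) ∈ H
    rw [ps_up]
    exact h1 (xs_mem hp hs b)
  · show ps hp hs (lo b) ∈ H
    rw [ps_lo]
    exact h2 (by rw [← vec_neg hp hs]; exact xs_mem hp (NPerm.neg_lt hp.inList hs) b)

theorem so_of {a b : Fin 4 → ℤ} (ha : RT hp a) (hb : RT hp b) (h : cpr coxeterD4.toCoxeterSystem hp.isCartan b a = 0) :
    SO coxeterD4.toCoxeterSystem hp.isCartan a b := by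
  have := finite_W hp coxeterD4.toCoxeterSystem
  refine ⟨fun e => ?_, fun e => ?_, fun i j hi hj e => ?_⟩
  · rw [e, cpr_self _ _ hb] at h
    omega
  · rw [e, cpr_neg_right _ _ _ hb, cpr_self _ _ hb] at h
    omega
  · have h1 := cpr_self _ _ e
    nth_rewrite 1 [cpr_add _ _ _ _ e, cpr_smul _ _ _ _ e, cpr_smul _ _ _ _ e, rd.symm _ _ ha e, rd.symm _ _ hb e,
      cpr_add _ _ _ _ ha, cpr_add _ _ _ _ hb, cpr_smul _ _ _ _ ha, cpr_smul _ _ _ _ ha, cpr_smul _ _ _ _ hb,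
      cpr_smul _ _ _ _ hb, cpr_self _ _ ha, cpr_self _ _ hb, h, rd.symm _ _ ha hb, h] at h1
    nlinarith [mul_self_pos.2 hi, mul_self_pos.2 hj]

theorem chk_P : (SB.Low.Tab.D.RL.all fun a => (SB.Low.Tab.D.RL.filter fun b => SB.Low.Tab.D.ip b a == 0).length == 6) = true ∧
    SB.Low.Tab.D.RL.Nodup := by decide +kernel

theorem ncard_perp {a : Fin 4 → ℤ} (ha : RT hp a) :
    {b | RT hp b ∧ cpr coxeterD4.toCoxeterSystem hp.isCartan b a = 0}.ncard = 6 := by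
  have := finite_W hp coxeterD4.toCoxeterSystem
  have h1 := List.all_eq_true.1 chk_P.1 _ ((SB.Low.Tab.D.root_iff _ a).1 ha)
  rw [← Set.ncard_image_of_injective _ SB.Low.Tab.D.vt_inj, ← beq_iff_eq.1 h1,
    ← List.toFinset_card_of_nodup (chk_P.2.filter _), ← Set.ncard_coe_finset]
  congr 1
  ext x
  rw [← SB.Low.Tab.D.vt_tv x, SB.Low.Tab.D.vt_inj.mem_set_image, Finset.mem_coe, List.mem_toFinset, List.mem_filter,
    beq_iff_eq, ← SB.Low.Tab.D.cpr_eq _ _ ha, ← SB.Low.Tab.D.root_iff coxeterD4.toCoxeterSystem]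
  rfl

/-- the characters trivial on `t` -/
def Lm {t : YY chevD4 2} (ht : t ∈ TT chevD4 (KK 2)) : AddSubgroup (Fin 4 → ℤ) where
  carrier := {x | cX hp t x = 1}
  zero_mem' := (isMC_cX hp ht).zero
  add_mem' := fun {a b} (ha : cX hp t a = 1) (hb : cX hp t b = 1) => by
    show cX hp t _ = 1
    rw [(isMC_cX hp ht).add, ha, hb, one_mul]
  neg_mem' := fun {a} (ha : cX hp t a = 1) => by
    show cX hp t _ = 1
    rw [(isMC_cX hp ht).neg, ha, inv_one]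

theorem no_pow {c : KK 2} {q : ℕ} (hc : IsPrimitiveRoot c (q ^ 3 - 1)) {a b d : ℤ} (h : (a ≠ 0 ∧ |a| ≤ 2 ∧ b = 0 ∧ d = 0) ∨
    (a = 0 ∧ b ≠ 0 ∧ |b| ≤ 2 ∧ d = 0) ∨ (a = 0 ∧ b = 0 ∧ d ≠ 0 ∧ |d| ≤ 2) ∨
      ((a = 1 ∨ a = -1) ∧ (b = 1 ∨ b = -1) ∧ (d = 1 ∨ d = -1))) (h4 : 4 ≤ q) : c ^ (a + q * b + q ^ 2 * d) ≠ 1 := by
  rw [Ne, hc.zpow_eq_one_iff_dvd, Nat.cast_sub (Nat.one_le_pow _ _ (by omega))]
  push_cast
  have h5 : (4 : ℤ) ≤ q := by exact_mod_cast h4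
  have h6 : (q : ℤ) ^ 2 * 4 ≤ q ^ 3 := by nlinarith
  have h7 : (q : ℤ) * 4 ≤ q ^ 2 := by nlinarith
  intro e
  have h8 : a + q * b + q ^ 2 * d ≠ 0 ∧ |a + q * b + q ^ 2 * d| < q ^ 3 - 1 := by
    rw [abs_lt]
    simp only [abs_le] at h
    rcases h with ⟨h1, ⟨h2, h3⟩, rfl, rfl⟩ | ⟨rfl, h1, ⟨h2, h3⟩, rfl⟩ | ⟨rfl, rfl, h1, h2, h3⟩ | ⟨h1 | h1, h2 | h2, h3 | h3⟩
    · exact ⟨by simpa using h1, by omega, by omega⟩
    · interval_cases b <;> omega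
    · interval_cases d <;> omega
    all_goals subst_vars; omega
  exact h8.1 (Int.eq_zero_of_abs_lt_dvd e h8.2)

variable {e : ℕ} {α : MulAut (YY chevD4 2)} {θ : (Fin 4 → ℤ) ≃+ (Fin 4 → ℤ)} (he : 0 < e) (hα : IsFrob 2 e α)
  (F : FR hp 2 α θ) {w : coxeterD4.Group}
  (hθ : ∀ x, θ x = rep coxeterD4.toCoxeterSystem hp.isCartan w (H720.TwFr.permE H720.TwFr.rho4 x))
  {t : YY chevD4 2} (ht : t ∈ TT chevD4 (KK 2)) (hf : α t = t)
  (hpos : ∀ a, RT hp a → cX hp t a = 1 → 0 ≤ a → 0 ≤ θ a)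

include hα F hθ ht hf hpos in
theorem roots (h4 : 4 ≤ 2 ^ e) (ho : orderOf t = 2 ^ e + 1) (hd : dd 2 t = 10) : ∃ a c, RT hp a ∧ RT hp c ∧
    (θ a = a ∨ θ a = -a) ∧ θ (θ (θ c)) = c ∧ (0 ≤ c ∧ 0 ≤ θ c ∧ 0 ≤ θ (θ c)) ∧
    (cpr coxeterD4.toCoxeterSystem hp.isCartan (θ c) c = 0 ∧ cpr coxeterD4.toCoxeterSystem hp.isCartan (θ (θ c)) c = 0 ∧
      cpr coxeterD4.toCoxeterSystem hp.isCartan (θ (θ c)) (θ c) = 0) ∧
    (cX hp t c = 1 ∧ cX hp t (θ c) = 1 ∧ cX hp t (θ (θ c)) = 1) ∧ ∀ b, RT hp b →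
      (cX hp t b = 1 ↔ cpr coxeterD4.toCoxeterSystem hp.isCartan b a = 0) ∧
      (cX hp t b = 1 → b = c ∨ b = -c ∨ b = θ c ∨ b = -θ c ∨ b = θ (θ c) ∨ b = -θ (θ c)) ∧
      (cX hp t b ≠ 1 → b ≠ a → b ≠ -a → (cpr coxeterD4.toCoxeterSystem hp.isCartan b c = 1 ∨
          cpr coxeterD4.toCoxeterSystem hp.isCartan b c = -1) ∧
        (cpr coxeterD4.toCoxeterSystem hp.isCartan b (θ c) = 1 ∨ cpr coxeterD4.toCoxeterSystem hp.isCartan b (θ c) = -1) ∧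
        (cpr coxeterD4.toCoxeterSystem hp.isCartan b (θ (θ c)) = 1 ∨
          cpr coxeterD4.toCoxeterSystem hp.isCartan b (θ (θ c)) = -1)) := by
  have := finite_W hp coxeterD4.toCoxeterSystem
  have hT := rt_th coxeterD4.toCoxeterSystem (θ := θ.toAddMonoidHom) hθ
  have h1 : ∀ x, cX hp t (θ x) = cX hp t x ^ 2 ^ e := fun x => by
    have := cX_sigma hp coxeterD4.toCoxeterSystem hα F ht x
    rwa [hf] at this
  have h2 : ∀ x ∈ Lm ht, θ x ∈ Lm ht := fun x (hx : cX hp t x = 1) => show cX hp t _ = 1 by rw [h1, hx, one_pow]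
  have h3 : (SB.Low.Ps coxeterD4.toCoxeterSystem hp.isCartan (Lm ht)).ncard = 6 := by
    have h5 := SB.Exc.CI.ncard_Ps (hp := hp) ht
    rw [hd, show Ps hp 2 {t} = SB.Low.Ps coxeterD4.toCoxeterSystem hp.isCartan (Lm ht) from Set.ext fun a =>
      (mem_Ps (Set.singleton_subset_iff.2 ht)).trans (and_congr_right fun _ => forall_eq)] at h5
    omega
  have hr : ∀ {a}, RT hp a → RT hp (θ a) := fun ha => (F.root _).2 ha
  rcases hT.cls (Lm ht) (Set.nonempty_of_ncard_ne_zero (by omega)) h2 (fun a ha => hpos a ha.1 ha.2) with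
    ⟨c, hc, h5⟩ | ⟨a, -, -, h5⟩ | ⟨a, b, ha, hb, -, -, h5, h6, h7⟩
  · wlog c0 : 0 ≤ c generalizing c
    · exact this (-c) ⟨hc.1.neg, neg_mem hc.2⟩ (by rw [map_neg, cpr_neg _ _ _ hc.1.neg, cpr_neg_right _ _ _ hc.1, h5]; rfl)
        (hc.1.not_nonneg_iff_neg.1 c0)
    obtain ⟨a, ha, a1, a2, a3, a4, a5⟩ := tabB coxeterD4.toCoxeterSystem (θ := θ.toAddMonoidHom) hθ hc.1 h5 (hr hc.1)
      (hr (hr hc.1))
    obtain ⟨b1, b2, b3⟩ := hT.t1 c hc.1 h5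
    have c1 := hpos _ hc.1 hc.2 c0
    have c2 := hpos _ (hr hc.1) (h2 _ hc.2) c1
    have c3 := hpos _ (hr (hr hc.1)) (h2 _ (h2 _ hc.2)) c2
    have h6 : {b | RT hp b ∧ cpr coxeterD4.toCoxeterSystem hp.isCartan b a = 0} ⊆
        SB.Low.Ps coxeterD4.toCoxeterSystem hp.isCartan (Lm ht) := fun b hb => ⟨hb.1, by
      rcases (a5 b hb.1).1 hb.2 with rfl | rfl | rfl | rfl | rfl | rfl
      exacts [hc.2, neg_mem hc.2, h2 _ hc.2, neg_mem (h2 _ hc.2), h2 _ (h2 _ hc.2), neg_mem (h2 _ (h2 _ hc.2))]⟩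
    have h7 := Set.eq_of_subset_of_ncard_le h6 (h3.trans (ncard_perp ha).symm).le
      (Set.finite_of_ncard_ne_zero (by omega))
    have h8 : ∀ b, RT hp b → (cX hp t b = 1 ↔ cpr coxeterD4.toCoxeterSystem hp.isCartan b a = 0) := fun b hb =>
      ⟨fun h => (h7.ge ⟨hb, h⟩).2, fun h => (h6 ⟨hb, h⟩).2⟩
    exact ⟨a, c, ha, hc.1, a1, b3.resolve_right fun e => hc.1.not_pos_neg c0 (neg_nonneg.1 (e ▸ c3)), ⟨c0, c1, c2⟩,
      ⟨h5, b1, b2⟩, ⟨hc.2, h2 _ hc.2, h2 _ (h2 _ hc.2)⟩, fun b hb => ⟨h8 b hb, fun h => (a5 b hb).1 ((h8 b hb).1 h),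
        fun h => (a5 b hb).2 ((h8 b hb).not.1 h)⟩⟩
  · have := Set.ncard_insert_le a {-a}
    rw [← h5, h3, Set.ncard_singleton] at this
    omega
  · have h8 := tabA coxeterD4.toCoxeterSystem (θ := θ.toAddMonoidHom) hθ ha hb h5 h7 (Λ := Lm ht)
      (h6.ge (Or.inl rfl)).2 (h6.ge (Or.inr (Or.inl rfl))).2 fun x => show cX hp t (θ x + x) = 1 by
        rw [(isMC_cX hp ht).add, h1, ← pow_succ, ← cX_pow hp ht, ← ho, pow_orderOf_eq_one, cX_one]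
    have h9 : t ^ 3 = 1 := cX_inj hp (pow_mem ht 3) (one_mem _) fun i => by
      have h10 : cX hp t ((3 : ℤ) • sr i) = 1 := h8 _
      rw [show (3 : ℤ) • sr i = sr i + sr i + (sr i : Fin 4 → ℤ) by module, (isMC_cX hp ht).add, (isMC_cX hp ht).add] at h10
      rw [cX_pow hp ht, cX_one, ← h10]
      ring
    have := Nat.le_of_dvd three_pos (orderOf_dvd_of_pow_eq_one h9)
    omega

end Cfsg.Agent.N2.G2.Wy
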