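import Cfsg.Agent.SB.Low.TabD
import Cfsg.Agent.SB.Low.Gen
import Cfsg.Agent.N2.G2.WhyC

/-!
# N2 (S3519), `³D₄(q)`, box [Why]: two tables for the triality coset (helper75)
-/

set_option autoImplicit false

namespace Cfsg.Agent.N2.G2.Wy

open Cfsg Cfsg.Lie CoxeterSystem
open Cfsg.Agent.ChevalleyStructure.CoxeterGeom Cfsg.Agent.ChevalleyStructure.CoxeterGeomTypes Cfsg.Agent.Tits.Roots
  Cfsg.Agent.Nodes.Reps Cfsg.Agent.Nodes.Coroot Cfsg.Agent.Nodes.RGDTwD4 Cfsg.Agent.SB.Low Cfsg.Agent.SB.Low.Tab.D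

variable {W : Type} [Group W] [Finite W] (cs : CoxeterSystem coxeterD4 W) {θ : (Fin 4 → ℤ) →+ (Fin 4 → ℤ)} {w : W}
  (hθ : ∀ x, θ x = rep cs hp.isCartan w (H720.TwFr.permE H720.TwFr.rho4 x))

include hθ

theorem vt_th (x : Fin 4 → ℤ) : vt (θ x) = ap (tm (mat cs w)) (vt x) := by
  rw [hθ, ap_mat, g_eq]
  simp only [ap, tm, id4, r18, r14, r13, r12]
  refine Prod.ext ?_ (Prod.ext ?_ (Prod.ext ?_ ?_)) <;> simp only <;> ring

theorem rt_th : RT cs hp.isCartan θ := by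
  obtain rfl : θ = tw cs hp.isCartan w (H720.TwFr.permE H720.TwFr.rho4).toAddMonoidHom := AddMonoidHom.ext hθ
  exact rt_tw cs w

/-- a stable `A₂` -/
theorem tabA {a b : Fin 4 → ℤ} (ha : IsRoot cs hp.isCartan a) (hb : IsRoot cs hp.isCartan b)
    (h1 : cpr cs hp.isCartan b a = -1) (h2 : (θ a = a ∧ θ b = b) ∨ (θ a = b ∧ θ b = a)) {Λ : AddSubgroup (Fin 4 → ℤ)}
    (aΛ : a ∈ Λ) (bΛ : b ∈ Λ) (h3 : ∀ x, θ x + x ∈ Λ) (x : Fin 4 → ℤ) : (3 : ℤ) • x ∈ Λ := by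
  have h4 := List.all_eq_true.1 (List.all_eq_true.1 (List.all_eq_true.1 chk_A _ (mat_mem cs w)) _
    ((root_iff cs a).1 ha)) _ ((root_iff cs b).1 hb)
  simp only [← vt_th cs hθ, ← cpr_eq cs _ ha, h1, Bool.or_eq_true, Bool.and_eq_true, beq_iff_eq, vt_inj.eq_iff, h2,
    Bool.not_eq_true', ← Bool.not_eq_true, bne_self_eq_false, not_true, false_or, Bool.false_eq_true] at h4
  refine mem_of_sr (Λ := Λ.comap ((3 : ℤ) • AddMonoidHom.id _)) (fun i => ?_) x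
  have h5 : vt (sr i) ∈ [r18, r14, r13, r12] := by
    revert i
    decide +kernel
  have h6 := List.all_eq_true.1 h4 _ h5
  simp only [← vt_th cs hθ, ← vt_smul, ← vt_add, List.any_eq_true, beq_iff_eq, vt_inj.eq_iff, List.mem_cons,
    List.not_mem_nil, or_false] at h6
  obtain ⟨e, he, m, -, n, -, h7⟩ := h6
  have h8 := sub_mem (h7 ▸ add_mem (Λ.zsmul_mem aΛ m) (Λ.zsmul_mem bΛ n)) (h3 (θ (sr i)))
  show (3 : ℤ) • sr i ∈ Λ
  rcases he with rfl | rfl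
  · refine Λ.zsmul_mem ?_ 3
    convert h8 using 1
    module
  · convert add_mem h8 (Λ.zsmul_mem (h3 (sr i)) 2) using 1
    module

/-- a cyclic `A₁³` -/
theorem tabB {c : Fin 4 → ℤ} (hc : IsRoot cs hp.isCartan c) (h : cpr cs hp.isCartan (θ c) c = 0)
    (h1 : IsRoot cs hp.isCartan (θ c)) (h2 : IsRoot cs hp.isCartan (θ (θ c))) :
    ∃ a, IsRoot cs hp.isCartan a ∧ (θ a = a ∨ θ a = -a) ∧ cpr cs hp.isCartan c a = 0 ∧ cpr cs hp.isCartan (θ c) a = 0 ∧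
      cpr cs hp.isCartan (θ (θ c)) a = 0 ∧ ∀ b, IsRoot cs hp.isCartan b →
      (cpr cs hp.isCartan b a = 0 → b = c ∨ b = -c ∨ b = θ c ∨ b = -θ c ∨ b = θ (θ c) ∨ b = -θ (θ c)) ∧
      (cpr cs hp.isCartan b a ≠ 0 → b ≠ a → b ≠ -a → (cpr cs hp.isCartan b c = 1 ∨ cpr cs hp.isCartan b c = -1) ∧
        (cpr cs hp.isCartan b (θ c) = 1 ∨ cpr cs hp.isCartan b (θ c) = -1) ∧
        (cpr cs hp.isCartan b (θ (θ c)) = 1 ∨ cpr cs hp.isCartan b (θ (θ c)) = -1)) := by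
  have h3 := List.all_eq_true.1 (List.all_eq_true.1 chk_B _ (mat_mem cs w)) _ ((root_iff cs c).1 hc)
  rw [← vt_th cs hθ, ← cpr_eq cs _ hc, h, bne_self_eq_false, Bool.false_or, List.any_eq_true] at h3
  obtain ⟨a, ha, h3⟩ := h3
  rw [← vt_tv a] at ha h3
  generalize tv a = a at ha h3
  rw [← root_iff cs] at ha
  rw [Bool.and_eq_true, List.all_eq_true] at h3
  have h4 := fun b (hb : IsRoot cs hp.isCartan b) => h3.2 _ ((root_iff cs b).1 hb)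
  have h5 := h3.1
  simp only [← vt_th cs hθ, ← vt_neg, ← cpr_eq cs _ ha, ← cpr_eq cs _ hc, ← cpr_eq cs _ h1, ← cpr_eq cs _ h2,
    Bool.or_eq_true, Bool.and_eq_true, beq_iff_eq, bne_iff_ne, vt_inj.eq_iff, List.contains_iff_mem, List.mem_cons,
    List.not_mem_nil, or_false] at h4 h5
  refine ⟨a, ha, h5, (h4 a ha).2.1.1, (h4 a ha).2.1.2, (h4 a ha).2.2, fun b hb =>
    ⟨fun e => (h4 b hb).1.1.resolve_left fun e' => e' e, fun e1 e2 e3 => ?_⟩⟩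
  exact and_assoc.1 ((h4 b hb).1.2.resolve_left fun e => e.elim e1 fun e => e.elim e2 e3)

end Cfsg.Agent.N2.G2.Wy
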