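import Cfsg.Agent.N2.G2.Tri
import Cfsg.Agent.N2.D4m.Dat
import Cfsg.Agent.H129.CycCard
import Cfsg.Agent.H95.SylPrime

/-!
# N2, `G₂(q)` and `³D₄(q)`, box X: the criterion with a cyclic Sylow subgroup (helper67)

* `CX S r M` : one class of subgroups `⟨x⟩` of order `r`, `M ≤ |N⟨x⟩|`, `x` is conjugate to a power other than `x`, `x⁻¹`;
* `crit`, `crit'` : the criterion; `own` : the defining characteristic.
-/

set_option autoImplicit false
set_option linter.unusedSectionVars false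

namespace Cfsg.Agent.N2.G2.X

open Subgroup Cfsg Cfsg.Agent.FP3 Cfsg.Agent.N2C.N4
open Cfsg.Agent.H129.CycCard (CycCard)

section abs

variable {S : Type*} [Group S] [Finite S]

/-- `x` is conjugate to a power other than `x`, `x⁻¹` -/
def Rg (x : S) : Prop := ∃ y ∈ zpowers x, IsConj x y ∧ y ≠ x ∧ y ≠ x⁻¹

/-- the datum -/
def CX (S : Type*) [Group S] (r M : ℕ) : Prop := ∃ x : S, orderOf x = r ∧
  (∀ y : S, orderOf y = r → ∃ g : S, g⁻¹ * y * g ∈ zpowers x) ∧ M ≤ Nat.card (normalizer (zpowers x : Set S)) ∧ Rg x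

omit [Finite S] in
theorem CX.congr {G : Type*} [Group G] (e : G ≃* S) {r M : ℕ} (h : CX S r M) : CX G r M := by
  obtain ⟨x, h1, h2, h3, y, hy, h5, h6, h7⟩ := h
  obtain ⟨x, rfl⟩ := e.surjective x
  obtain ⟨y, rfl⟩ := e.surjective y
  have h4 : (zpowers x).map e.toMonoidHom = zpowers (e x) := MonoidHom.map_zpowers _ _
  refine ⟨x, (e.orderOf_eq x).symm.trans h1, fun z hz => ?_, ?_, y, ?_, ?_, fun k => h6 (by rw [k]),
    fun k => h7 (by rw [k, map_inv])⟩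
  · obtain ⟨g, hg⟩ := h2 (e z) ((e.orderOf_eq z).trans hz)
    obtain ⟨g, rfl⟩ := e.surjective g
    rw [← map_inv, ← map_mul, ← map_mul, ← h4] at hg
    exact ⟨g, (mem_map_iff_mem (f := e.toMonoidHom) e.injective).1 hg⟩
  · rwa [← h4, ← map_equiv_normalizer_eq, card_map_of_injective e.injective] at h3
  · rw [← h4] at hy
    exact (mem_map_iff_mem (f := e.toMonoidHom) e.injective).1 hy
  · simpa using e.symm.toMonoidHom.map_isConj h5

theorem rg_of_lt {x : S} (h : 2 * cn x < Nat.card (normalizer (zpowers x : Set S))) : Rg x := by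
  by_contra k
  refine h.not_ge (card_norm_le ((Set.ncard_le_ncard (t := {x, x⁻¹}) (fun y hy => ?_)).trans ?_))
  · by_contra k'
    exact k ⟨y, hy.1, hy.2, fun e => k' (Or.inl e), fun e => k' (Or.inr e)⟩
  · exact (Set.ncard_insert_le _ _).trans (by rw [Set.ncard_singleton])

theorem cx_of_cn {r M : ℕ} (h : Cy1 S r M) {z : S} (hz : orderOf z = r) (hc : 2 * cn z < M) : CX S r M := by
  obtain ⟨x, h1, h2, h3⟩ := h
  obtain ⟨g, i, hi⟩ := h2 z hz
  refine ⟨x, h1, h2, h3, rg_of_lt (lt_of_le_of_lt (Nat.mul_le_mul_left 2 ?_) (hc.trans_le h3))⟩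
  have h4 : cn (g⁻¹ * z * g) = cn z := by simpa using cn_congr (MulAut.conj g⁻¹) z
  rw [← h4, ← hi]
  exact card_le_of_le fun c k => mem_centralizer_singleton_iff.2
    ((show Commute c x from mem_centralizer_singleton_iff.1 k).zpow_right i)

/-- counting the Sylow subgroups -/
theorem cx_of_card {r m e : ℕ} {z : ℤ} (hr : r.Prime) (h : CycCard S r m 1) (hc : (Nat.card S : ℤ) = m * z)
    (hz : (z : ZMod r) = e) (h3 : 3 ≤ e) (he : e < r) : CX S r (e * m) := by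
  have := Fact.mk hr
  obtain ⟨V, hV, h1, h2, h4, h5⟩ := h
  have h6 : Nat.card V = m := Nat.dvd_antisymm h1 (by simpa using h2)
  have hm : 0 < m := h6 ▸ Nat.card_pos
  have h7 : (V.index : ℤ) = z := by
    have k := V.card_mul_index
    rw [h6] at k
    rw [← k, Nat.cast_mul] at hc
    exact mul_left_cancel₀ (by exact_mod_cast hm.ne') hc
  have h8 : V.index % r = e := by
    rw [← h7, Int.cast_natCast, ZMod.natCast_eq_natCast_iff', Nat.mod_eq_of_lt he] at hz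
    exact hz
  have h9 : ¬ r ∣ V.index := fun k => by
    rw [Nat.mod_eq_zero_of_dvd k] at h8
    omega
  obtain ⟨P⟩ : Nonempty (Sylow r V) := inferInstance
  let Q : Sylow r S := (P.isPGroup'.map V.subtype).toSylow (by
    rw [index_map_subtype]
    exact fun k => (hr.dvd_mul.1 k).elim P.not_dvd_index h9)
  have hQ : (Q : Subgroup S) ≤ V := map_subtype_le _
  have hcm : ∀ a ∈ V, ∀ b ∈ V, a * b = b * a := fun a ha b hb =>
    congrArg Subtype.val (hV.commGroup.mul_comm (⟨a, ha⟩ : V) ⟨b, hb⟩)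
  have hN : V ≤ normalizer (Q : Set S) := fun v hv => mem_normalizer_fintype fun y hy => by
    rwa [hcm v hv y (hQ hy), mul_inv_cancel_right]
  have k1 := relIndex_mul_index hN
  have k2 := card_sylow_modEq_one r S
  rw [Q.card_eq_index_normalizer] at k2
  have k3 : V.relIndex (normalizer (Q : Set S)) % r = e := by
    rw [← h8, ← k1]
    simpa [Nat.ModEq] using (k2.mul_left (V.relIndex (normalizer (Q : Set S)))).symm
  have k4 := (V.subgroupOf (normalizer (Q : Set S))).index_mul_card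
  rw [Nat.card_congr (subgroupOfEquivOfLe hN).toEquiv, h6] at k4
  obtain ⟨x, hx⟩ := exists_prime_orderOf_dvd_card' (G := V) r h4
  rw [← orderOf_coe] at hx
  refine cx_of_cn (cy1_of_cyc (V := (Q : Subgroup S)) (isCyclic_of_injective (inclusion hQ) (inclusion_injective hQ)) hr
    (Q.dvd_card_of_dvd_card (h4.trans (card_subgroup_dvd_card V))) Q.not_dvd_index ?_) hx ?_
  · rw [← k3]
    exact (Nat.mul_le_mul_right m (Nat.mod_le _ _)).trans k4.le
  · have k5 : cn (x : S) ≤ m := h6 ▸ card_le_of_le (h5 x x.2 hx)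
    nlinarith

end abs

/-! ### numbers -/

theorem tor_le {k q n : ℕ} (h : Tor k q n) : n ≤ tau k q := by
  have h1 : q - 1 ≤ q + 1 := by omega
  have h2 : q ^ 3 - 1 ≤ q ^ 3 + 1 := by omega
  have h3 : (q ^ 3 + 1) * (q + 1) ≤ (q ^ 2 + q + 1) ^ 2 := by
    ring_nf
    omega
  have h4 : (q + 1) ^ 2 = q ^ 2 + 2 * q + 1 := by ring
  have h5 : (q ^ 2 + q + 1) ^ 2 = q ^ 4 + 2 * q ^ 3 + 3 * q ^ 2 + 2 * q + 1 := by ring
  rcases h with ⟨rfl, h⟩ | ⟨rfl, h⟩
  · rw [tau, if_pos rfl]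
    rcases h with rfl | rfl | rfl | rfl | rfl
    exacts [Nat.pow_le_pow_left h1 2, le_rfl, by omega, by omega, by omega]
  · rw [tau, if_neg (by decide)]
    rcases h with rfl | rfl | rfl | rfl | rfl | rfl | rfl
    exacts [(Nat.mul_le_mul h2 h1).trans h3, (Nat.mul_le_mul_right _ h2).trans h3, (Nat.mul_le_mul_left _ h1).trans h3, h3,
      le_rfl, Nat.pow_le_pow_left (by omega) 2, by omega]

theorem num {k q : ℕ} (h : k = 1 ∧ 3 ≤ q ∨ k = 3 ∧ 2 ≤ q) : (6 * tau k q) ^ 3 * q ^ (4 * (k + 1)) ≤ 20 ^ 3 * ord k q := by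
  rcases h with ⟨rfl, h⟩ | ⟨rfl, h⟩
  · obtain ⟨t, rfl⟩ := Nat.exists_eq_add_of_le h
    have h1 : (3 + t) ^ 2 - 1 = t ^ 2 + 6 * t + 8 := Nat.sub_eq_of_eq_add (by ring)
    have h2 : (3 + t) ^ 6 - 1 = t ^ 6 + 18 * t ^ 5 + 135 * t ^ 4 + 540 * t ^ 3 + 1215 * t ^ 2 + 1458 * t + 728 :=
      Nat.sub_eq_of_eq_add (by ring)
    have h3 : 27 * (3 + t + 1) ^ 6 * (3 + t) ^ 2 ≤ 1000 * ((3 + t) ^ 2 - 1) * ((3 + t) ^ 6 - 1) := by
      rw [h1, h2]
      ring_nf
      omega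
    rw [tau, ord, if_pos rfl, if_pos rfl]
    generalize 3 + t = q at h3 ⊢
    calc _ = 8 * q ^ 6 * (27 * (q + 1) ^ 6 * q ^ 2) := by ring
      _ ≤ 8 * q ^ 6 * (1000 * (q ^ 2 - 1) * (q ^ 6 - 1)) := Nat.mul_le_mul_left _ h3
      _ = _ := by ring
  · obtain ⟨t, rfl⟩ := Nat.exists_eq_add_of_le h
    have h1 : (2 + t) ^ 2 - 1 = t ^ 2 + 4 * t + 3 := Nat.sub_eq_of_eq_add (by ring)
    have h2 : (2 + t) ^ 6 - 1 = t ^ 6 + 12 * t ^ 5 + 60 * t ^ 4 + 160 * t ^ 3 + 240 * t ^ 2 + 192 * t + 63 :=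
      Nat.sub_eq_of_eq_add (by ring)
    have h3 : 27 * ((2 + t) ^ 2 + (2 + t) + 1) ^ 6 * (2 + t) ^ 4 ≤
        1000 * ((2 + t) ^ 2 - 1) * ((2 + t) ^ 6 - 1) * ((2 + t) ^ 8 + (2 + t) ^ 4 + 1) := by
      rw [h1, h2]
      ring_nf
      omega
    rw [tau, ord, if_neg (by decide), if_neg (by decide)]
    generalize 2 + t = q at h3 ⊢
    calc _ = 8 * q ^ 12 * (27 * (q ^ 2 + q + 1) ^ 6 * q ^ 4) := by ring
      _ ≤ 8 * q ^ 12 * (1000 * (q ^ 2 - 1) * (q ^ 6 - 1) * (q ^ 8 + q ^ 4 + 1)) := Nat.mul_le_mul_left _ h3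
      _ = _ := by ring

/-- the order is `q ^ N u` where the primes of `u` divide `q ^ N - 1` -/
theorem ord_eq {k q : ℕ} (h : k = 1 ∨ k = 3) : ∃ u, ord k q = q ^ (3 * (k + 1)) * u ∧
    ∀ r : ℕ, r.Prime → r ∣ u → r ∣ q ^ (3 * (k + 1)) - 1 := by
  have h1 : ∀ a b, q ^ a - 1 ∣ q ^ (a * b) - 1 := fun a b => by
    simpa [pow_mul] using Nat.sub_dvd_pow_sub_pow (q ^ a) 1 b
  rcases h with rfl | rfl
  · refine ⟨(q ^ 2 - 1) * (q ^ 6 - 1), by rw [ord, if_pos rfl, mul_assoc], fun r hr k => ?_⟩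
    exact (hr.dvd_mul.1 k).elim (fun k => k.trans (h1 2 3)) id
  · refine ⟨(q ^ 2 - 1) * (q ^ 6 - 1) * (q ^ 8 + q ^ 4 + 1), by rw [ord, if_neg (by decide)]; ring, fun r hr k => ?_⟩
    rcases hr.dvd_mul.1 k with k | k
    · exact (hr.dvd_mul.1 k).elim (fun k => k.trans (h1 2 6)) fun k => k.trans (h1 6 2)
    · refine k.trans ⟨q ^ 4 - 1, ?_⟩
      rcases Nat.eq_zero_or_pos q with rfl | hq
      · rfl
      · obtain ⟨t, ht⟩ := Nat.exists_eq_add_of_le (Nat.one_le_pow 4 q hq)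
        have e1 : q ^ 8 = (q ^ 4) ^ 2 := by ring
        have e2 : q ^ (3 * (3 + 1)) = (q ^ 4) ^ 3 := by ring
        rw [e1, e2, ht, Nat.add_sub_cancel_left]
        exact Nat.sub_eq_of_eq_add (by ring)

/-! ### the criterion -/

section crit

variable {p k q : ℕ} {T : Type} [Group T] [Finite T] [IsSimpleGroup T] {d : T → ℕ} {A S : Subgroup T}
  {Γ : Subgroup (MulAut T)}

theorem norm6 (h : ElA p k q T d) {x : T} {r : ℕ} (hr : r.Prime) (hx : orderOf x = r) (hp : r.Coprime p) (hg : Rg x) :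
    Nat.card (normalizer (zpowers x : Set T)) ≤ 6 * tau k q := by
  have := Fact.mk hr
  have h0 : d x = k + 1 := by
    by_contra k
    obtain ⟨y, h1, h2, h3, h4⟩ := hg
    exact (h.pm x (hx ▸ hp) k y h1 h2).elim h3 h4
  obtain ⟨-, -, h1, -, h2⟩ := h.reg x (hx ▸ hp) h0
  have h3 := (H95.SylPrime.isCyclic_mulAut (X := zpowers x) (p := r) ((Nat.card_zpowers x).trans hx)).1
  let f := (zpowers x).normalizerMonoidHom
  obtain ⟨⟨_, g, rfl⟩, hg⟩ := IsCyclic.exists_generator (α := f.range)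
  have h4 : ∀ n, 0 < n → (g : T) ^ n * x = x * (g : T) ^ n → Nat.card f.range ≤ n := fun n hn e => by
    rw [← orderOf_eq_card_of_forall_mem_zpowers hg]
    refine orderOf_le_of_pow_eq_one hn (Subtype.ext ?_)
    change f g ^ n = 1
    rw [← map_pow]
    refine MulEquiv.ext ?_
    rintro ⟨_, i, rfl⟩
    exact Subtype.ext (mul_inv_eq_iff_eq_mul.2 ((show Commute ((g : T) ^ n) x from e).zpow_right i))
  have h5 : Nat.card f.range ≤ 6 := (h2 g g.2).elim (h4 6 (by decide)) fun e => (h4 4 (by decide) e.2).trans (by decide)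
  rw [← f.ker.index_mul_card, index_ker]
  refine Nat.mul_le_mul h5 (le_trans ?_ (tor_le h1))
  have h6 : ∀ c : f.ker, (c.1 : T) ∈ centralizer {x} := fun c => by
    have e := congrArg Subtype.val (DFunLike.congr_fun (MonoidHom.mem_ker.1 c.2) (⟨x, mem_zpowers x⟩ : zpowers x))
    exact mem_centralizer_singleton_iff.2 (mul_inv_eq_iff_eq_mul.1 e)
  exact Nat.card_le_card_of_injective (fun c => ⟨c.1, h6 c⟩) fun _ _ e => Subtype.ext (Subtype.ext (Subtype.mk.inj e))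

/-- **the criterion** -/
theorem crit (h : Sh p k q T d) (C : Cx p A Γ) (hS : Sim A Γ S) {c r M : ℕ} (hc : Nat.card (MulAut S) ∣ c * Nat.card S)
    (hr : r.Prime) (hrc : r.Coprime c) (hp : r ≠ p) (hx : CX S r M) (hM : 0 < M)
    (hi : (6 * tau k q) ^ 3 * Nat.card S ≤ M ^ 3 * ord k q) : Good A := by
  obtain ⟨x, h1, h2, h3, y, ⟨i, rfl⟩, h5, h6, h7⟩ := hx
  have h4 := (fx_mul_le (h1 ▸ h2) h3).trans (norm6 h.toElA hr ((orderOf_coe x).trans h1) ((Nat.coprime_primes hr h.prime).2 hp)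
    ⟨_, ⟨i, rfl⟩, S.subtype.map_isConj h5, fun e => h6 (Subtype.ext e), fun e => h7 (Subtype.ext e)⟩)
  refine good_up hS.le x.2 (fun g hg => mem_of_cop hS.le (hS.norm C).ge (fun t _ => hS.cent t) hc hrc hg ?_) ?_
  · rw [← orderOf_dvd_iff_pow_eq_one, orderOf_cj, orderOf_coe, h1]
  · rw [← h.card, ← S.index_mul_card, ← mul_assoc] at hi
    have h8 := (Nat.pow_le_pow_left h4 3).trans (Nat.le_of_mul_le_mul_right hi Nat.card_pos)
    rw [mul_pow, mul_comm] at h8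
    exact Nat.le_of_mul_le_mul_left h8 (pow_pos hM 3)

theorem crit' (h : Sh p k q T d) (C : Cx p A Γ) (hS : Sim A Γ S) {c r M : ℕ} (hc : Nat.card (MulAut S) ∣ c * Nat.card S)
    (hr : r.Prime) (hrc : r.Coprime c) (hp : r ≠ p) (hx : CX S r M) (hM : 0 < M)
    (hi : 20 ^ 3 * Nat.card S ≤ M ^ 3 * q ^ (4 * (k + 1))) : Good A := by
  have hq : 0 < q := by rcases h.par with e | e <;> omega
  refine crit h C hS hc hr hrc hp hx hM (Nat.le_of_mul_le_mul_left ?_ (show 0 < 20 ^ 3 by norm_num))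
  calc _ = (6 * tau k q) ^ 3 * (20 ^ 3 * Nat.card S) := by ring
    _ ≤ (6 * tau k q) ^ 3 * (M ^ 3 * q ^ (4 * (k + 1))) := Nat.mul_le_mul_left _ hi
    _ = M ^ 3 * ((6 * tau k q) ^ 3 * q ^ (4 * (k + 1))) := by ring
    _ ≤ M ^ 3 * (20 ^ 3 * ord k q) := Nat.mul_le_mul_left _ (num h.par)
    _ = _ := by ring

/-- **the defining characteristic** -/
theorem own (h : Sh p k q T d) (C : Cx p A Γ) (hS : Sim A Γ S) {c r M E D : ℕ} (hc : Nat.card (MulAut S) ∣ c * Nat.card S)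
    (hr : r.Prime) (hrc : r.Coprime c) (hp : r ≠ p) (hx : CX S r M) (hM : 20 ≤ M) (hE : ∀ j, r ∣ p ^ j - 1 → E ∣ j)
    (hD : Nat.card S ≤ p ^ D) (hi : 3 * D ≤ 4 * E ∨ (p ^ E ∣ Nat.card S ∧ 3 * D ≤ 8 * E)) : Good A := by
  obtain ⟨f, hf, rfl⟩ := h.pw
  obtain ⟨u, h1, h2⟩ := ord_eq (q := p ^ f) (h.par.imp And.left And.left)
  rw [← h.card, ← pow_mul] at h1
  rw [← pow_mul] at h2
  have h3 : r ∣ Nat.card T := by
    obtain ⟨x, e, -⟩ := hx
    rw [← e, ← orderOf_coe]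
    exact orderOf_dvd_natCard _
  have h4 : E ∣ f * (3 * (k + 1)) := hE _ (h2 r hr ((hr.dvd_mul.1 (h1 ▸ h3)).resolve_left fun e =>
    hp ((Nat.prime_dvd_prime_iff_eq hr h.prime).1 (hr.dvd_of_dvd_pow e))))
  have h5 : 0 < f * (3 * (k + 1)) := by positivity
  have h6 : 3 * D ≤ 4 * (f * (3 * (k + 1))) := by
    rcases hi with e | ⟨e, e'⟩
    · exact e.trans (Nat.mul_le_mul_left 4 (Nat.le_of_dvd h5 h4))
    · obtain ⟨j, hj⟩ := h4
      have h7 : j ≠ 1 := by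
        rintro rfl
        have h8 : p * p ^ E ∣ A.index * Nat.card A := Nat.mul_dvd_mul C.idx (e.trans (card_dvd_of_le hS.le))
        rw [A.index_mul_card, h1, hj, mul_one, mul_comm] at h8
        have h9 := h2 p h.prime (Nat.dvd_of_mul_dvd_mul_left (pow_pos h.prime.pos E) h8)
        exact h.prime.one_lt.ne' (Nat.dvd_one.1 ((Nat.dvd_sub_iff_right (Nat.one_le_pow _ _ h.prime.pos)
          (dvd_pow_self p h5.ne')).1 h9))
      have h8 : 2 ≤ j := by
        rcases j with _ | _ | j <;> omega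
      rw [hj]
      nlinarith
  refine crit' h C hS hc hr hrc hp hx (by omega) (Nat.mul_le_mul (Nat.pow_le_pow_left hM 3) (hD.trans ?_))
  rw [← pow_mul]
  exact Nat.pow_le_pow_right h.prime.pos (by nlinarith)

end crit

end Cfsg.Agent.N2.G2.X
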