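import Cfsg.Agent.N2.G2.X1
import Cfsg.Agent.H129.CycCardF
import Cfsg.Agent.H649.VanSp4.Tor
import Cfsg.Agent.Walter.ReeTorus
import Cfsg.Agent.S0333
import Cfsg.Agent.S1059
import Cfsg.Agent.S1067
import Cfsg.Agent.S1068
import Cfsg.Agent.S1069
import Cfsg.Agent.S2121
import Cfsg.Agent.S2127
import Cfsg.Agent.S2128
import Cfsg.Agent.S2129

/-!
# N2, `G₂(q)` and `³D₄(q)`, box X: the data of the groups in the defining characteristic (helper67)
-/

set_option autoImplicit false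
set_option linter.unusedSectionVars false

namespace Cfsg.Agent.N2.G2.X

open Subgroup Cfsg Cfsg.Lie Cfsg.Agent.FP3 Cfsg.Agent.N2C.N4
open Cfsg.Agent.H129.CycCard (CycCard cycCard_of_exact)
open Cfsg.Agent.H129.CycT (CycExact)

section abs

variable {S : Type*} [Group S] [Finite S]

omit [Finite S] in
theorem CX.mono {r M M' : ℕ} (h : CX S r M) (hM : M' ≤ M) : CX S r M' :=
  let ⟨x, h1, h2, h3, h4⟩ := h
  ⟨x, h1, h2, hM.trans h3, h4⟩

theorem cx20 {r m e : ℕ} {z : ℤ} (hr : r.Prime) (h : CycCard S r m 1) (hc : (Nat.card S : ℤ) = m * z)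
    (hz : (z : ZMod r) = e) (h3 : 4 ≤ e) (he : e < r) : CX S r 20 := by
  refine (cx_of_card hr h hc hz (by omega) he).mono ?_
  obtain ⟨V, -, h1, -, h2, -⟩ := h
  have h4 : r ≤ m := Nat.le_of_dvd (Nat.pos_of_ne_zero (by
    rintro rfl
    exact Nat.card_pos.ne' (show Nat.card S = 0 by simpa using hc))) (h2.trans h1)
  nlinarith

theorem cx_of_torus {r : ℕ} [Fact r.Prime] (P : Sylow r S) (h : ∀ Q : Sylow r S, Walter.ReeTorus.Torus r S Q) : CX S r (2 * r) := by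
  have hr : r.Prime := Fact.out
  have key : ∀ (Q : Sylow r S) (x : S), x ∈ Q → orderOf x = r → ∃ g, g ∈ normalizer (Q : Set S) ∧ g * x * g⁻¹ ∈ zpowers x ∧
      g * x * g⁻¹ ≠ x ∧ g * x * g⁻¹ ≠ x⁻¹ := fun Q x hx ho => by
    obtain ⟨-, -, g, a, -, -, h1, h2⟩ := h Q
    have h3 : ¬ (x ^ a) ^ a = x := fun k => h2 (by
      rw [← ho, ← pow_eq_pow_iff_modEq, pow_one, sq, pow_mul, k])
    refine ⟨g, mem_normalizer_fintype fun y hy => (h1 y hy).symm ▸ pow_mem hy a, ?_⟩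
    rw [h1 x hx]
    exact ⟨pow_mem (mem_zpowers x) a, fun k => h3 (by rw [k, k]), fun k => h3 (by rw [k, inv_pow, k, inv_inv])⟩
  obtain ⟨h1, h2, -⟩ := h P
  have h3 : r ∣ Nat.card P := by
    obtain ⟨n, hn⟩ := IsPGroup.iff_card.1 P.isPGroup'
    rcases n with _ | n
    · exact absurd (card_eq_one.1 hn) h2
    · exact hn ▸ dvd_pow_self r n.succ_ne_zero
  obtain ⟨z, hz⟩ := exists_prime_orderOf_dvd_card' (G := P) r h3
  obtain ⟨g, g1, -, g2, -⟩ := key P z z.2 ((orderOf_coe z).trans hz)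
  have h4 : 2 * r ≤ Nat.card (normalizer ((P : Subgroup S) : Set S)) := by
    obtain ⟨j, hj⟩ := card_dvd_of_le (le_normalizer (H := (P : Subgroup S)))
    have h5 : j ≠ 1 := by
      rintro rfl
      have h6 : g ∈ (P : Subgroup S) :=
        (eq_of_le_of_card_ge (le_normalizer (H := (P : Subgroup S))) (hj.trans (mul_one _)).le).ge g1
      exact g2 (mul_inv_eq_iff_eq_mul.2 (congrArg Subtype.val (h1.commGroup.mul_comm (⟨g, h6⟩ : P) z)))
    have h6 : j ≠ 0 := by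
      rintro rfl
      exact Nat.card_pos.ne' hj
    have h7 := Nat.le_of_dvd Nat.card_pos h3
    rw [hj, mul_comm]
    exact Nat.mul_le_mul h7 (by omega)
  obtain ⟨x, k1, k2, k3⟩ := cy1_of_cyc h1 hr h3 P.not_dvd_index h4
  obtain ⟨Q, hQ⟩ := (IsPGroup.of_card (G := zpowers x) (n := 1) (by rw [Nat.card_zpowers, k1, pow_one])).exists_le_sylow
  obtain ⟨u, -, u1, u2, u3⟩ := key Q x (hQ (mem_zpowers x)) k1
  exact ⟨x, k1, k2, k3, _, u1, isConj_iff.2 ⟨u, rfl⟩, u2, u3⟩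

end abs

/-- primitive prime divisors -/
theorem ppd {p f e : ℕ} (hp : p.Prime) (hf : 0 < f) (he : 3 ≤ e) (h6 : ¬ (p = 2 ∧ e * f = 6)) :
    ∃ r : ℕ, r.Prime ∧ (∀ j, r ∣ p ^ j - 1 → e * f ∣ j) ∧ e * f < r ∧ r ≠ p ∧
      ∀ j, ((p ^ f : ℕ) : ZMod r) ^ j = 1 ↔ e ∣ j := by
  have h0 : 3 ≤ e * f := he.trans (Nat.le_mul_of_pos_right e hf)
  obtain ⟨r, h1, h2, h3, h4⟩ := Lib.Zsigmondy.exists_primitive (n := e * f) hp.two_le (by omega) (by omega) h6
  refine ⟨r, h1, fun j => (h2 j).1, ?_, fun k => h4 (k ▸ dvd_rfl), fun j => ?_⟩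
  · have := Nat.le_of_dvd (Nat.sub_pos_of_lt h1.one_lt) h3
    have := h1.pos
    omega
  · rw [← Nat.cast_pow, ← pow_mul, ← Nat.cast_one, eq_comm, ZMod.natCast_eq_natCast_iff,
      Nat.modEq_iff_dvd' (Nat.one_le_pow _ _ hp.pos), h2, mul_comm f j, Nat.mul_dvd_mul_iff_right hf]

theorem phi4 {R : Type*} [Field R] {x : R} (h : ∀ j, x ^ j = 1 ↔ 4 ∣ j) : 1 + x ^ 2 = 0 := by
  have h1 : x ^ 2 - 1 ≠ 0 := sub_ne_zero.2 fun k => absurd ((h 2).1 k) (by decide)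
  exact (mul_eq_zero.1 (show (x ^ 2 - 1) * (1 + x ^ 2) = 0 by linear_combination (h 4).2 dvd_rfl)).resolve_left h1

theorem phi6 {R : Type*} [Field R] {x : R} (h : ∀ j, x ^ j = 1 ↔ 6 ∣ j) : 1 - x + x ^ 2 = 0 := by
  have h1 : x ^ 3 - 1 ≠ 0 := sub_ne_zero.2 fun k => absurd ((h 3).1 k) (by decide)
  have h2 : x + 1 ≠ 0 := fun k => absurd ((h 2).1 (by linear_combination (x - 1) * k)) (by decide)
  exact (mul_eq_zero.1 (show (x ^ 3 - 1) * (x + 1) * (1 - x + x ^ 2) = 0 by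
    linear_combination (h 6).2 dvd_rfl)).resolve_left (mul_ne_zero h1 h2)

theorem phi12 {R : Type*} [Field R] {x : R} (h : ∀ j, x ^ j = 1 ↔ 12 ∣ j) : 1 - x ^ 2 + x ^ 4 = 0 := by
  have h1 : x ^ 6 - 1 ≠ 0 := sub_ne_zero.2 fun k => absurd ((h 6).1 k) (by decide)
  have h2 : x ^ 2 + 1 ≠ 0 := fun k => absurd ((h 4).1 (by linear_combination (x ^ 2 - 1) * k)) (by decide)
  exact (mul_eq_zero.1 (show (x ^ 6 - 1) * (x ^ 2 + 1) * (1 - x ^ 2 + x ^ 4) = 0 by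
    linear_combination (h 12).2 dvd_rfl)).resolve_left (mul_ne_zero h1 h2)

theorem cast_sub {q : ℕ} (hq : 0 < q) (j : ℕ) : ((q ^ j - 1 : ℕ) : ℤ) = (q : ℤ) ^ j - 1 := by
  rw [Nat.cast_sub (Nat.one_le_pow _ _ hq)]
  simp

theorem sub_mul_le {a b : ℕ} (h : a ≤ b) : (a - 1) * (b + 1) ≤ a * b := by
  rcases a with _ | a
  · simp
  · rw [Nat.add_sub_cancel]
    nlinarith

/-- the data for `own` -/
def Own (p : ℕ) (S : Type*) [Group S] : Prop := ∃ c r E D : ℕ, Nat.card (MulAut S) ∣ c * Nat.card S ∧ r.Prime ∧ 0 < c ∧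
  c < r ∧ r ≠ p ∧ CX S r 20 ∧ (∀ j, r ∣ p ^ j - 1 → E ∣ j) ∧ Nat.card S ≤ p ^ D ∧
    (3 * D ≤ 4 * E ∨ (p ^ E ∣ Nat.card S ∧ 3 * D ≤ 8 * E))

theorem Own.congr {p : ℕ} {G S : Type*} [Group G] [Group S] (e : G ≃* S) (h : Own p S) : Own p G := by
  obtain ⟨c, r, E, D, h1, h2, h3, h4, h5, h6, h7⟩ := h
  rw [← Nat.card_congr (MulAut.congr e).toEquiv] at h1
  rw [← Nat.card_congr e.toEquiv] at h1 h7
  exact ⟨c, r, E, D, h1, h2, h3, h4, h5, h6.congr e, h7⟩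

theorem Own.good {p k q : ℕ} {T : Type} [Group T] [Finite T] [IsSimpleGroup T] {d : T → ℕ} {A S : Subgroup T}
    {Γ : Subgroup (MulAut T)} (h : Sh p k q T d) (C : Cx p A Γ) (hS : Sim A Γ S) (o : Own p S) : Good A :=
  let ⟨_, _, _, _, h1, h2, h3, h4, h5, h6, h7, h8, h9⟩ := o
  own h C hS h1 h2 (Nat.coprime_of_lt_prime h3.ne' h4 h2) h5 h6 le_rfl h7 h8 h9

theorem own_g2 {F : Type} [Field F] [Fintype F] {p : ℕ} (hp : p.Prime) [CharP F p] (h3 : 3 ≤ Fintype.card F) :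
    Own p (chevG2.group F) := by
  have := Fact.mk hp
  obtain ⟨⟨f, hf⟩, -, hF⟩ := FiniteField.card F p
  change _ = p ^ f at hF
  obtain ⟨r, h1, h2, h4, h5, h6⟩ := ppd (e := 6) hp hf (by decide) (by
    rintro ⟨rfl, k⟩
    rw [hF, show f = 1 by omega] at h3
    omega)
  have := Fact.mk h1
  have h7 := phi6 h6
  have h8 := S2121.result p f hF (hF ▸ h3)
  have h9 := S1059.result hF
  have hq : 0 < p ^ f := pow_pos hp.pos f
  refine ⟨2 * f, r, 6 * f, 14 * f, (aut_dvd_out _).trans (Nat.mul_dvd_mul_right ?_ _), h1, by omega, by omega, h5, ?_, h2, ?_,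
    .inr ⟨?_, by omega⟩⟩
  · rw [h8]
    split_ifs
    exacts [dvd_rfl, dvd_mul_left _ _]
  · generalize p ^ f = q at *
    have hm : ((q ^ 2 - q + 1 : ℕ) : ℤ) = 1 - q + (q : ℤ) ^ 2 := by
      push_cast [Nat.cast_sub (Nat.le_self_pow two_ne_zero q)]
      ring
    refine cx20 (e := 6) (z := (q : ℤ) ^ 6 * (q ^ 2 - 1) * (q ^ 3 - 1) * (q + 1)) h1 (H129.CycCard.card_G2_6 hF hm h1
      ((ZMod.intCast_zmod_eq_zero_iff_dvd _ r).1 (by exact_mod_cast h7)) (by omega)) ?_ ?_ (by decide) (by omega)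
    · rw [h9, hm, Nat.cast_mul, Nat.cast_mul, cast_sub hq, cast_sub hq, Nat.cast_pow]
      ring
    · push_cast
      generalize (q : ZMod r) = x at h7
      linear_combination (-6 - 6 * x + 6 * x ^ 3 + 6 * x ^ 4 - 5 * x ^ 6 - 4 * x ^ 7 + 2 * x ^ 9 + x ^ 10) * h7
  · rw [h9, mul_comm 14 f, pow_mul]
    calc _ ≤ (p ^ f) ^ 6 * (p ^ f) ^ 2 * (p ^ f) ^ 6 := by gcongr <;> omega
      _ = _ := by ring
  · rw [h9, mul_comm 6 f, pow_mul, mul_assoc]
    exact dvd_mul_right _ _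

theorem own_d4 {K : Type} [Field K] [Fintype K] {p f : ℕ} (hp : p.Prime) [CharP K p] (hf : 0 < f)
    (hK : Fintype.card K = (p ^ f) ^ 3) : Own p (twistedD4 K (p ^ f)) := by
  have := Fact.mk hp
  obtain ⟨r, h1, h2, h4, h5, h6⟩ := ppd (e := 12) hp hf (by decide) (by omega)
  have := Fact.mk h1
  have h7 := phi12 h6
  have h8 := S2129.result p f (by rw [hK, ← pow_mul, mul_comm]) hf
  have h0 : IsPrimePow (p ^ f) := hp.isPrimePow.pow hf.ne'
  have h9 := S1067.result h0 hK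
  have hq : 0 < p ^ f := pow_pos hp.pos f
  refine ⟨3 * f, r, 12 * f, 29 * f, h8 ▸ aut_dvd_out _, h1, by omega, by omega, h5, ?_, h2, ?_, .inr ⟨?_, by omega⟩⟩
  · generalize p ^ f = q at *
    have hm : ((q ^ 4 - q ^ 2 + 1 : ℕ) : ℤ) = 1 - (q : ℤ) ^ 2 + (q : ℤ) ^ 4 := by
      push_cast [Nat.cast_sub (Nat.pow_le_pow_right hq (show 2 ≤ 4 by decide))]
      ring
    refine cx20 (e := 4) (z := (q : ℤ) ^ 12 * (q ^ 2 - 1) * (q ^ 6 - 1) * (q ^ 4 + q ^ 2 + 1)) h1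
      (H129.CycCard.card_tD4_12 h0 hK hm h1 ((ZMod.intCast_zmod_eq_zero_iff_dvd _ r).1 (by exact_mod_cast h7))) ?_ ?_
      (by decide) (by omega)
    · rw [h9, hm, Nat.cast_mul, Nat.cast_mul, Nat.cast_mul, cast_sub hq, cast_sub hq]
      push_cast
      ring
    · push_cast
      generalize (q : ZMod r) = x at h7
      linear_combination (-4 - 4 * x ^ 2 + 4 * x ^ 6 + 4 * x ^ 8 - 3 * x ^ 12 - 3 * x ^ 14 + x ^ 18 + x ^ 20) * h7
  · rw [h9, mul_comm 29 f, pow_mul]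
    have k := h0.two_le
    generalize p ^ f = q at k ⊢
    have k1 : q ^ 8 + q ^ 4 + 1 ≤ q ^ 9 := by
      have k2 : q ^ 4 < q ^ 8 := Nat.pow_lt_pow_right k (by decide)
      calc _ ≤ q ^ 8 * 2 := by omega
        _ ≤ _ := Nat.mul_le_mul_left _ k
    calc _ ≤ q ^ 12 * q ^ 2 * q ^ 6 * q ^ 9 := by gcongr <;> omega
      _ = _ := by ring
  · rw [h9, mul_comm 12 f, pow_mul, mul_assoc, mul_assoc]
    exact dvd_mul_right _ _

theorem own_ree {K : Type} [Field K] [Fintype K] {m : ℕ} (hm : 1 ≤ m) (hK : Fintype.card K = 3 ^ (2 * m + 1)) :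
    Own 3 (twistedG2 K (3 ^ m)) := by
  obtain ⟨r, h1, h2, h4, h5, h6⟩ := ppd (e := 6) (f := 2 * m + 1) Nat.prime_three (by omega) (by decide) (by omega)
  have := Fact.mk h1
  have h7 := phi6 h6
  have h9 := S1069.result hK
  refine ⟨2 * m + 1, r, 6 * (2 * m + 1), 7 * (2 * m + 1), S2127.result hm hK ▸ aut_dvd_out _, h1, by omega, by omega, h5,
    (cx_of_torus (Classical.arbitrary _) (Walter.ReeTorus.torus_twisted hm hK ?_)).mono (by omega), h2, ?_, .inl (by omega)⟩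
  · rw [← ZMod.natCast_eq_zero_iff]
    generalize 3 ^ (2 * m + 1) = q at h7
    push_cast [Nat.cast_sub (Nat.le_self_pow two_ne_zero q)]
    linear_combination h7
  · rw [h9, mul_comm 7, pow_mul, mul_assoc]
    generalize 3 ^ (2 * m + 1) = q
    calc _ ≤ q ^ 3 * (q * q ^ 3) := Nat.mul_le_mul_left _ (sub_mul_le (Nat.le_self_pow three_ne_zero q))
      _ = _ := by ring

theorem own_sp {F : Type} [Field F] [Fintype F] [CharP F 2] (h4 : 4 ≤ Fintype.card F) : Own 2 (PSp 2 F) := by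
  obtain ⟨⟨f, hf⟩, -, hF⟩ := FiniteField.card F 2
  change _ = 2 ^ f at hF
  obtain ⟨r, h1, h2, h3, h5, h6⟩ := ppd (e := 4) Nat.prime_two hf (by decide) (by omega)
  have := Fact.mk h1
  have h7 := phi4 h6
  have h8 := S0814.result (F := F) 2 f hf hF 2 le_rfl fun _ => by omega
  have h0 : Nat.gcd 2 (2 ^ f - 1) = 1 := (Nat.coprime_two_left.2
    (Nat.Even.sub_odd Nat.one_le_two_pow (even_two.pow_of_ne_zero hf.ne') odd_one))
  have h9 : Nat.card (PSp 2 F) = (2 ^ f) ^ 4 * (((2 ^ f) ^ 2 - 1) * ((2 ^ f) ^ 4 - 1)) := by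
    rw [← Nat.card_congr (H319.FC.mkE F).toEquiv, SB.B2.card_sp, Nat.card_eq_fintype_card, hF]
  have hq : 0 < 2 ^ f := by positivity
  refine ⟨2 * f, r, 4 * f, 10 * f, by rw [h8, h0]; simp, h1, by omega, by omega, h5, ?_, h2, ?_, .inr ⟨?_, by omega⟩⟩
  · have k := H649.VanSp4.cycExact_psp (F := F)
    rw [hF] at k
    generalize 2 ^ f = q at *
    refine cx20 (e := 4) (z := (q : ℤ) ^ 4 * (q ^ 2 - 1) * (q ^ 2 - 1)) h1 (cycCard_of_exact k h1 ?_) ?_ ?_ (by decide) (by omega)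
    · rw [← ZMod.natCast_eq_zero_iff]
      push_cast
      linear_combination h7
    · rw [h9, Nat.cast_mul, Nat.cast_mul, cast_sub hq, cast_sub hq]
      push_cast
      ring
    · push_cast
      generalize (q : ZMod r) = x at h7
      linear_combination (-4 + 4 * x ^ 2 - 3 * x ^ 4 + x ^ 6) * h7
  · rw [h9, mul_comm 10 f, pow_mul]
    calc _ ≤ (2 ^ f) ^ 4 * ((2 ^ f) ^ 2 * (2 ^ f) ^ 4) := by gcongr <;> omega
      _ = _ := by ring
  · rw [h9, mul_comm 4 f, pow_mul]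
    exact dvd_mul_right _ _

theorem sz_exact {F : Type} [Field F] [Fintype F] {m : ℕ} (hm : 1 ≤ m) (hF : Fintype.card F = 2 ^ (2 * m + 1)) {n : ℕ}
    (hn : n = 2 ^ (2 * m + 1) + 2 ^ (m + 1) + 1 ∨ n = 2 ^ (2 * m + 1) - 2 ^ (m + 1) + 1) : CycExact (Cfsg.Sz F m) n :=
  let ⟨U, h1, h2, h3, _⟩ := S0333.result hm hF n hn
  ⟨U, h1, h2, h3⟩

theorem own_sz {F : Type} [Field F] [Fintype F] {m : ℕ} (hm : 1 ≤ m) (hF : Fintype.card F = 2 ^ (2 * m + 1)) :
    Own 2 (Lie.Sz F (2 ^ (m + 1))) := by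
  obtain ⟨r, h1, h2, h3, h5, h6⟩ := ppd (e := 4) (f := 2 * m + 1) Nat.prime_two (by omega) (by decide) (by omega)
  have := Fact.mk h1
  have h7 := phi4 h6
  have h9 := H438.SzMax.card_sz hF
  obtain ⟨e⟩ := OddCyclic.ClaimC.SzIso.iso hm hF
  refine ⟨2 * m + 1, r, 4 * (2 * m + 1), 5 * (2 * m + 1), S2126.result hm hF ▸ aut_dvd_out _, h1, by omega, by omega, h5,
    CX.congr e.symm ?_, h2, ?_, .inl (by omega)⟩
  · rw [← Nat.card_congr e.toEquiv] at h9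
    have k1 := sz_exact hm hF (.inl rfl)
    have k2 := sz_exact hm hF (.inr rfl)
    obtain ⟨k3, -, k4, -⟩ := H761.SzCls.qt hm
    have hq : 0 < 2 ^ (2 * m + 1) := by positivity
    generalize 2 ^ (2 * m + 1) = q at *
    generalize 2 ^ (m + 1) = t at *
    have k5 : (t : ℤ) * t = 2 * q := by exact_mod_cast k3
    have k6 : (t : ZMod r) * t = 2 * q := by exact_mod_cast congrArg (Nat.cast (R := ZMod r)) k3
    have k7 : t ≤ q := by omega
    rcases mul_eq_zero.1 (show ((q : ZMod r) + t + 1) * (q - t + 1) = 0 by linear_combination h7 - k6) with k | k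
    · refine cx20 (e := 4) (z := (q : ℤ) ^ 2 * (q - 1) * (q - t + 1)) h1 (cycCard_of_exact k1 h1 ?_) ?_ ?_ (by decide) (by omega)
      · rw [← ZMod.natCast_eq_zero_iff]
        exact_mod_cast k
      · rw [h9]
        push_cast [Nat.cast_sub hq]
        linear_combination (q : ℤ) ^ 2 * (q - 1) * k5
      · push_cast
        linear_combination (-4 + 2 * (q : ZMod r) ^ 2) * h7 - q ^ 2 * (q - 1) * k
    · refine cx20 (e := 4) (z := (q : ℤ) ^ 2 * (q - 1) * (q + t + 1)) h1 (cycCard_of_exact k2 h1 ?_) ?_ ?_ (by decide) (by omega)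
      · rw [← ZMod.natCast_eq_zero_iff]
        push_cast [Nat.cast_sub k7]
        exact k
      · rw [h9]
        push_cast [Nat.cast_sub hq, Nat.cast_sub k7]
        linear_combination (q : ℤ) ^ 2 * (q - 1) * k5
      · push_cast
        linear_combination (-4 + 2 * (q : ZMod r) ^ 2) * h7 - q ^ 2 * (q - 1) * k
  · rw [h9, mul_comm 5, pow_mul, mul_assoc]
    generalize 2 ^ (2 * m + 1) = q
    calc _ ≤ q ^ 2 * (q * q ^ 2) := Nat.mul_le_mul_left _ (sub_mul_le (Nat.le_self_pow two_ne_zero q))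
      _ = _ := by ring

theorem own_f4 {K : Type} [Field K] [Fintype K] {m : ℕ} (hm : 1 ≤ m) (hK : Fintype.card K = 2 ^ (2 * m + 1)) :
    Own 2 (twistedF4 K (2 ^ m)) := by
  obtain ⟨r, h1, h2, h3, h5, h6⟩ := ppd (e := 12) (f := 2 * m + 1) Nat.prime_two (by omega) (by decide) (by omega)
  have := Fact.mk h1
  have h7 := phi12 h6
  have h9 := S1068.result hK
  refine ⟨2 * m + 1, r, 12 * (2 * m + 1), 26 * (2 * m + 1), S2128.result hm hK ▸ aut_dvd_out _, h1, by omega, by omega, h5,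
    ?_, h2, ?_, .inr ⟨?_, by omega⟩⟩
  · have k1 := fun N => H129.CycCard.exact_tF4_plus (N := N) hK
    have k2 := fun N => H129.CycCard.exact_tF4_minus (N := N) hK
    have k3 : 2 ^ (2 * m + 1) = 2 * (2 ^ m) ^ 2 := by ring
    have hq : 0 < 2 ^ (2 * m + 1) := by positivity
    rw [show (2 : ℤ) ^ m = (2 ^ m : ℕ) by simp] at k1 k2
    generalize 2 ^ (2 * m + 1) = q at *
    generalize 2 ^ m = t at *
    have k5 : (q : ℤ) = 2 * t ^ 2 := by exact_mod_cast k3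
    have k6 : (q : ZMod r) = 2 * t ^ 2 := by exact_mod_cast congrArg (Nat.cast (R := ZMod r)) k3
    have k8 : (Nat.card (twistedF4 K t) : ℤ) = q ^ 12 * (q - 1) * (q ^ 3 + 1) * (q ^ 4 - 1) * (q ^ 2 + 1) *
        ((1 + 2 * t + 2 * t ^ 2 + 4 * t ^ 3 + 4 * t ^ 4) * (1 - 2 * t + 2 * t ^ 2 - 4 * t ^ 3 + 4 * t ^ 4)) := by
      rw [h9, Nat.cast_mul, Nat.cast_mul, cast_sub hq]
      push_cast [Nat.cast_sub hq]
      rw [k5]
      ring
    have k9 : ∀ (N : ℕ) (y : ℤ), CycExact (twistedF4 K t) N → (N : ZMod r) = 0 → (y : ZMod r) = 2 + 2 * q + 2 * q ^ 2 →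
        (Nat.card (twistedF4 K t) : ℤ) = N * (q ^ 12 * (q - 1) * (q ^ 3 + 1) * (q ^ 4 - 1) * (q ^ 2 + 1) * y) →
        CX (twistedF4 K t) r 20 := fun N y a b c e => by
      refine cx20 (e := 12) h1 (cycCard_of_exact a h1 ((ZMod.natCast_eq_zero_iff _ _).1 b)) e ?_ (by decide) (by omega)
      push_cast
      rw [c]
      generalize (q : ZMod r) = x at h7
      linear_combination (-12 - 12 * x ^ 2 + 12 * x ^ 6 + 12 * x ^ 8 - 10 * x ^ 12 - 8 * x ^ 14 + 4 * x ^ 18 + 2 * x ^ 20) * h7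
    rw [k6] at h7
    rcases mul_eq_zero.1 (show (1 + 2 * (t : ZMod r) + 2 * t ^ 2 + 4 * t ^ 3 + 4 * t ^ 4) *
      (1 - 2 * t + 2 * t ^ 2 - 4 * t ^ 3 + 4 * t ^ 4) = 0 by linear_combination h7) with k | k
    · refine k9 (1 + 2 * t + 2 * t ^ 2 + 4 * t ^ 3 + 4 * t ^ 4) (1 - 2 * t + 2 * t ^ 2 - 4 * t ^ 3 + 4 * t ^ 4)
        (k1 _ (by push_cast; rfl)) (by exact_mod_cast k) ?_ (by rw [k8]; push_cast; ring)
      push_cast
      rw [k6]
      linear_combination -k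
    · obtain ⟨N, hN⟩ := Int.eq_ofNat_of_zero_le (show 0 ≤ 1 - 2 * (t : ℤ) + 2 * t ^ 2 - 4 * t ^ 3 + 4 * t ^ 4 by
        nlinarith [sq_nonneg (2 * (t : ℤ) ^ 2 - t), sq_nonneg ((t : ℤ) - 1)])
      refine k9 N (1 + 2 * t + 2 * t ^ 2 + 4 * t ^ 3 + 4 * t ^ 4) (k2 _ hN.symm) ?_ ?_ (by rw [k8, ← hN]; ring)
      · rw [← Int.cast_natCast, ← hN]
        exact_mod_cast k
      · push_cast
        rw [k6]
        linear_combination -k
  · rw [h9, mul_comm 26, pow_mul]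
    have hq : 0 < 2 ^ (2 * m + 1) := by positivity
    generalize 2 ^ (2 * m + 1) = q at hq ⊢
    calc _ = q ^ 12 * ((q - 1) * (q ^ 3 + 1)) * ((q ^ 4 - 1) * (q ^ 6 + 1)) := by ring
      _ ≤ q ^ 12 * (q * q ^ 3) * (q ^ 4 * q ^ 6) := Nat.mul_le_mul (Nat.mul_le_mul_left _
          (sub_mul_le (Nat.le_self_pow three_ne_zero q))) (sub_mul_le (Nat.pow_le_pow_right hq (by decide)))
      _ = _ := by ring
  · rw [h9, mul_comm 12, pow_mul, mul_assoc, mul_assoc, mul_assoc]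
    exact dvd_mul_right _ _

end Cfsg.Agent.N2.G2.X
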